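import Groth.Agent.LocalCrit.Flatness
import Groth.Agent.FlatModel.Open
import Groth.Agent.Hensel.HfpTruncation
import Mathlib.RingTheory.Smooth.Fiber
import Mathlib.RingTheory.Etale.Locus
import Mathlib.RingTheory.Localization.BaseChange

/-!
An algebra on which `f` is a nonzerodivisor and which is étale modulo `f` is étale near `V(f)`.
-/

universe u

open TensorProduct

set_option linter.style.haveILetI false

noncomputable section

namespace Groth.Agent.P1Lef

variable {A : Type u} [CommRing A] {f : A}

theorem keepsInjective_of_flat_algebra (I : Ideal A) (B B' : Type u) [CommRing B] [Algebra A B] [CommRing B']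
    [Algebra A B'] [Algebra B B'] [IsScalarTower A B B'] [Module.Flat B B']
    (h : LocalCrit.KeepsInjective I B) : LocalCrit.KeepsInjective I B' := by
  intro N N' _ _ _ _ φ hN hN' hφ
  have h1 : Function.Injective (AlgebraTensorModule.lTensor B B φ : B ⊗[A] N →ₗ[B] B ⊗[A] N') := by
    intro x y e
    have e' := congrArg (TensorProduct.comm A B N') e
    have key : ∀ z, TensorProduct.comm A B N' (AlgebraTensorModule.lTensor B B φ z) =
        φ.rTensor B (TensorProduct.comm A B N z) := by
      intro z
      induction z using TensorProduct.induction_on with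
      | zero => simp
      | tmul b n => simp
      | add u v hu hv => simp only [map_add, hu, hv]
    rw [key, key] at e'
    exact (TensorProduct.comm A B N).injective (h φ hN hN' hφ e')
  have h2 := Module.Flat.lTensor_preserves_injective_linearMap (M := B') _ h1
  let eN : ∀ (P : Type u) [AddCommGroup P] [Module A P], B' ⊗[B] (B ⊗[A] P) ≃ₗ[B'] B' ⊗[A] P :=
    fun P _ _ => AlgebraTensorModule.cancelBaseChange A B B' B' P
  intro x y e
  have key : ∀ z, φ.rTensor B' (TensorProduct.comm A B' N (eN N z)) =
      TensorProduct.comm A B' N' (eN N' ((AlgebraTensorModule.lTensor B B φ).lTensor B' z)) := by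
    intro z
    induction z using TensorProduct.induction_on with
    | zero => simp
    | tmul b w =>
      induction w using TensorProduct.induction_on with
      | zero => simp
      | tmul c n => simp [eN]
      | add u v hu hv => simp only [tmul_add, map_add, hu, hv]
    | add u v hu hv => simp only [map_add, hu, hv]
  obtain ⟨x, rfl⟩ := ((eN N).toEquiv.trans (TensorProduct.comm A B' N).toEquiv).surjective x
  obtain ⟨y, rfl⟩ := ((eN N).toEquiv.trans (TensorProduct.comm A B' N).toEquiv).surjective y
  simp only [Equiv.trans_apply, LinearEquiv.coe_toEquiv] at e ⊢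
  rw [key, key] at e
  rw [h2 ((eN N').injective ((TensorProduct.comm A B' N').injective e))]

/-- Étale modulo a regular element implies étale along its zero locus. -/
theorem isEtaleAt_of_mod [IsNoetherianRing A] {B : Type u} [CommRing B] [Algebra A B]
    [Algebra.FiniteType A B] (hnz : ∀ b : B, f • b = 0 → b = 0) {C : Type u} [CommRing C]
    [Algebra A C] [Algebra (A ⧸ Ideal.span {f}) C] [IsScalarTower A (A ⧸ Ideal.span {f}) C]
    [Algebra.Etale (A ⧸ Ideal.span {f}) C] (φ : B →ₐ[A] C) (hsurj : Function.Surjective φ)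
    (hker : ∀ b, φ b = 0 ↔ ∃ b', b = f • b') (q : Ideal B) [q.IsPrime] (hq : algebraMap A B f ∈ q) :
    Algebra.IsEtaleAt A q := by
  haveI : IsNoetherianRing B := Algebra.FiniteType.isNoetherianRing A B
  haveI : Algebra.FinitePresentation A B := Algebra.FinitePresentation.of_finiteType.mp inferInstance
  let I : Ideal A := Ideal.span {f}
  let ψ : (A ⧸ I) ⊗[A] B →ₐ[A ⧸ I] C := Algebra.TensorProduct.lift (Algebra.ofId _ C) φ fun _ _ => .all _ _
  have hψ1 : ∀ b, ψ (1 ⊗ₜ b) = φ b := fun b => by simp [ψ]
  have hone : ∀ z : (A ⧸ I) ⊗[A] B, ∃ b, z = 1 ⊗ₜ b := by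
    intro z
    induction z using TensorProduct.induction_on with
    | zero => exact ⟨0, (tmul_zero _ _).symm⟩
    | tmul t b =>
      obtain ⟨a, rfl⟩ := Ideal.Quotient.mk_surjective t
      refine ⟨a • b, ?_⟩
      rw [← smul_tmul, Algebra.smul_def, mul_one, Ideal.Quotient.algebraMap_eq]
    | add x y hx hy =>
      obtain ⟨a, rfl⟩ := hx; obtain ⟨b, rfl⟩ := hy
      exact ⟨a + b, (tmul_add _ _ _).symm⟩
  have hbij : Function.Bijective ψ := by
    refine ⟨(injective_iff_map_eq_zero ψ).2 fun z hz => ?_, fun c => ?_⟩
    · obtain ⟨b, rfl⟩ := hone z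
      obtain ⟨b', rfl⟩ := (hker b).1 ((hψ1 b).symm.trans hz)
      rw [← smul_tmul, Algebra.smul_def, mul_one, Ideal.Quotient.algebraMap_eq,
        Ideal.Quotient.eq_zero_iff_mem.2 (Ideal.mem_span_singleton_self f), zero_tmul]
    · obtain ⟨b, rfl⟩ := hsurj c
      exact ⟨_, hψ1 b⟩
  let eψ := AlgEquiv.ofBijective ψ hbij
  haveI : Module.Flat (A ⧸ I) ((A ⧸ I) ⊗[A] B) := Module.Flat.of_linearEquiv eψ.toLinearEquiv
  have hK : LocalCrit.KeepsInjective I B := LocalCrit.keepsInjective_of_flat I B
  let J := I.map (algebraMap A B)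
  have hJq : J ≤ q := by
    rw [Ideal.map_le_iff_le_comap, Ideal.span_singleton_le_iff_mem]
    exact hq
  -- unramified
  haveI : Algebra.FormallyUnramified (A ⧸ I) (B ⧸ J) := by
    let e₁ : ((A ⧸ I) ⊗[A] B) ≃ₐ[A] (B ⧸ J) :=
      ((Algebra.TensorProduct.quotIdealMapEquivTensorQuot B I).restrictScalars A |>.trans
        (Algebra.TensorProduct.comm A B (A ⧸ I))).symm
    let e₂ : ((A ⧸ I) ⊗[A] B) ≃ₐ[A ⧸ I] (B ⧸ J) := AlgEquiv.ofRingEquiv (f := e₁.toRingEquiv) fun a => by
      obtain ⟨a, rfl⟩ := Ideal.Quotient.mk_surjective a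
      exact e₁.commutes a
    exact Algebra.FormallyUnramified.of_equiv (eψ.symm.trans e₂)
  haveI hunr : Algebra.IsUnramifiedAt A q := Hensel.isUnramifiedAt_of_unramified_quotient I q hJq
  -- flat
  have hflat : Module.Flat A (Localization.AtPrime q) := by
    let Bq := Localization.AtPrime q
    have hnz' : ∀ x : Bq, f • x = 0 → x = 0 := by
      intro x hx
      obtain ⟨b, s, rfl⟩ := IsLocalization.exists_mk'_eq q.primeCompl x
      rw [Algebra.smul_def, IsScalarTower.algebraMap_apply A B Bq, IsLocalization.mul_mk'_eq_mk'_of_mul,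
        IsLocalization.mk'_eq_zero_iff] at hx
      obtain ⟨t, ht⟩ := hx
      rw [IsLocalization.mk'_eq_zero_iff]
      exact ⟨t, hnz _ (by rw [← ht, Algebra.smul_def, mul_left_comm])⟩
    refine LocalCrit.flat_of_le_jacobson (B := Bq) I ?_ ?_ (keepsInjective_of_flat_algebra I B Bq hK)
    · rw [IsLocalRing.jacobson_eq_maximalIdeal ⊥ bot_ne_top, Ideal.map_le_iff_le_comap,
        Ideal.span_singleton_le_iff_mem, Ideal.mem_comap, IsScalarTower.algebraMap_apply A B Bq]
      exact (IsLocalization.AtPrime.to_map_mem_maximal_iff Bq q (algebraMap A B f)).2 hq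
    · refine (injective_iff_map_eq_zero _).2 fun z hz => ?_
      have hgen : ∃ x : Bq, z = (⟨f, Ideal.mem_span_singleton_self f⟩ : I) ⊗ₜ[A] x := by
        clear hz
        induction z using TensorProduct.induction_on with
        | zero => exact ⟨0, (tmul_zero _ _).symm⟩
        | tmul t x =>
          obtain ⟨a, ha⟩ := Ideal.mem_span_singleton'.1 t.2
          refine ⟨a • x, ?_⟩
          rw [← smul_tmul]
          exact congrArg (· ⊗ₜ[A] x) (Subtype.ext ha.symm)
        | add x y hx hy =>
          obtain ⟨a, rfl⟩ := hx; obtain ⟨b, rfl⟩ := hy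
          exact ⟨a + b, (tmul_add _ _ _).symm⟩
      obtain ⟨x, rfl⟩ := hgen
      have h0 := congrArg (TensorProduct.lid A Bq) hz
      rw [LinearMap.rTensor_tmul, map_zero, TensorProduct.lid_tmul] at h0
      rw [hnz' x h0, tmul_zero]
  -- open
  have hU := (FlatModel.isOpen_flatLocus (R := A) (S := B) B).inter
    (Algebra.isOpen_unramifiedLocus (R := A) (A := B))
  have hqU : (⟨q, inferInstance⟩ : PrimeSpectrum B) ∈
      {p : PrimeSpectrum B | Module.Flat A (LocalizedModule p.asIdeal.primeCompl B)} ∩
        Algebra.unramifiedLocus A B :=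
    ⟨Module.Flat.of_linearEquiv ((IsLocalizedModule.iso q.primeCompl
      (Algebra.linearMap B (Localization.AtPrime q))).restrictScalars A), hunr⟩
  obtain ⟨_, ⟨r, rfl⟩, hqr, hr⟩ :=
    PrimeSpectrum.isTopologicalBasis_basic_opens.exists_subset_of_mem_open hqU hU
  let Br := Localization.Away r
  haveI : Module.Flat A Br := by
    refine Module.flat_of_isLocalized_maximal Br Br
      (fun P _ => Localization.AtPrime P) (fun P _ => Algebra.linearMap _ _) fun P _ => ?_
    let p := PrimeSpectrum.comap (algebraMap B Br) ⟨P, inferInstance⟩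
    have hp : Module.Flat A (LocalizedModule p.asIdeal.primeCompl B) := (hr (show p ∈ _ from fun hq' =>
      (inferInstance : P.IsPrime).ne_top
        (Ideal.eq_top_of_isUnit_mem _ hq' (IsLocalization.Away.algebraMap_isUnit r)))).1
    have : Module.Flat A (Localization.AtPrime p.asIdeal) :=
      Module.Flat.of_linearEquiv ((IsLocalizedModule.iso p.asIdeal.primeCompl
        (Algebra.linearMap B (Localization.AtPrime p.asIdeal))).restrictScalars A).symm
    have : IsLocalization.AtPrime (Localization.AtPrime P) p.asIdeal :=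
      IsLocalization.isLocalization_isLocalization_atPrime_isLocalization (.powers r) _ P
    exact Module.Flat.of_linearEquiv
      ((IsLocalization.algEquiv p.asIdeal.primeCompl (Localization.AtPrime P) (Localization.AtPrime p.asIdeal)).restrictScalars A).toLinearEquiv
  haveI : Algebra.FormallyUnramified A Br :=
    Algebra.basicOpen_subset_unramifiedLocus_iff.1 fun p hp => (hr hp).2
  haveI : Algebra.FinitePresentation A Br := by
    have := IsLocalization.Away.finitePresentation (S := Br) r
    exact Algebra.FinitePresentation.trans A B _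
  haveI : Algebra.Etale A Br := Algebra.Etale.of_formallyUnramified_of_flat
  exact Algebra.basicOpen_subset_etaleLocus_iff_etale.2 (inferInstance : Algebra.Etale A Br) hqr

end Groth.Agent.P1Lef
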