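import Groth.Agent.P1Lef.Tower
import Groth.Agent.P1Lef.EtaleMod
import Groth.Agent.P1Glue.Common
import Groth.Agent.P1Punct.Sch

/-!
The algebraic core of the extension theorem: a finite algebra over `A/fA`, étale away from the closed
point, comes up to `IsoAway` from a finite `A`-algebra which is étale along `V(f)` away from the closed
point.
-/

universe u

open IsLocalRing Groth.Agent.Pi1Ext.RegPurity

set_option linter.style.haveILetI false
set_option synthInstance.maxHeartbeats 200000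

noncomputable section

namespace Groth.Agent.P1Lef

/-- Étale along `V(f)` from a comparison on one standard open. -/
theorem isEtaleAt_of_sections {A : Type u} [CommRing A] [IsNoetherianRing A] (f g₀ : A) (C : Type u) [CommRing C]
    [Algebra A C] [Algebra (A ⧸ Ideal.span {f}) C] [IsScalarTower A (A ⧸ Ideal.span {f}) C]
    [Algebra.Etale (A ⧸ Ideal.span {f}) (Cl C g₀)] (B : Type u) [CommRing B] [Algebra A B] [Module.Finite A B]
    (hnzB : ∀ b : B, f • b = 0 → b = 0) (qi : B →ₐ[A] Cl C g₀)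
    (hsurjq : ∀ x : Cl C g₀, ∃ (n : ℕ) (b : B), g₀ ^ n • x = qi b)
    (hkerq : ∀ b, qi b = 0 → ∃ (e : ℕ) (b' : B), g₀ ^ e • b = f • b')
    (𝔮 : Ideal B) [𝔮.IsPrime] (hfq : algebraMap A B f ∈ 𝔮) (hg : algebraMap A B g₀ ∉ 𝔮) :
    Algebra.IsEtaleAt A 𝔮 := by
  let T := A ⧸ Ideal.span {f}
  let B' := Localization.Away (algebraMap A B g₀)
  haveI : IsNoetherianRing B := IsNoetherianRing.of_finite A B
  haveI : Algebra.FiniteType A B' := Algebra.FiniteType.trans (R := A) (S := B) inferInstance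
    (IsLocalization.finiteType_of_monoid_fg (Submonoid.powers (algebraMap A B g₀)) _)
  have hu : IsUnit (algebraMap A (Cl C g₀) g₀) := by
    rw [IsScalarTower.algebraMap_apply A C (Cl C g₀)]
    exact IsLocalization.Away.algebraMap_isUnit _
  let φ : B' →ₐ[A] Cl C g₀ := IsLocalization.liftAlgHom
    (M := Submonoid.powers (algebraMap A B g₀)) (f := qi) (by
      rintro ⟨_, n, rfl⟩
      simp only [map_pow, AlgHom.commutes]
      exact hu.pow n)
  have hφ : ∀ b, φ (algebraMap B B' b) = qi b := fun b => IsLocalization.lift_eq _ b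
  have hug : ∀ n : ℕ, IsUnit (algebraMap A B' g₀ ^ n) := fun n => by
    rw [IsScalarTower.algebraMap_apply A B B']
    exact (IsLocalization.Away.algebraMap_isUnit _).pow n
  have hrep : ∀ x : B', ∃ (n : ℕ) (b : B), g₀ ^ n • x = algebraMap B B' b := fun x => by
    obtain ⟨n, b, hb⟩ := IsLocalization.Away.surj (algebraMap A B g₀) x
    exact ⟨n, b, by rw [← hb, Algebra.smul_def, map_pow, IsScalarTower.algebraMap_apply A B B', mul_comm]⟩
  have hcan : ∀ (n : ℕ) (x y : B'), g₀ ^ n • x = g₀ ^ n • y → x = y := fun n x y e => by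
    rw [Algebra.smul_def, Algebra.smul_def, map_pow] at e
    exact (hug n).mul_left_cancel e
  have hnz' : ∀ x : B', f • x = 0 → x = 0 := fun x hx => by
    obtain ⟨n, b, hb⟩ := hrep x
    have : algebraMap B B' (f • b) = 0 := by
      rw [← IsScalarTower.coe_toAlgHom' A B B', map_smul,
        IsScalarTower.coe_toAlgHom', ← hb, smul_comm, hx, smul_zero]
    obtain ⟨⟨_, k, rfl⟩, hk⟩ :=
      (IsLocalization.map_eq_zero_iff (Submonoid.powers (algebraMap A B g₀)) B' _).1 this
    have hb0 : (algebraMap A B g₀) ^ k * b = 0 := hnzB _ (by rw [← mul_smul_comm]; exact hk)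
    refine hcan n _ _ ?_
    rw [hb, smul_zero, IsLocalization.map_eq_zero_iff (Submonoid.powers (algebraMap A B g₀)) B']
    exact ⟨⟨_, k, rfl⟩, hb0⟩
  have hsurj : Function.Surjective φ := fun x => by
    obtain ⟨n, b, hb⟩ := hsurjq x
    refine ⟨((hug n).unit⁻¹ : (B')ˣ).val * algebraMap B B' b, ?_⟩
    refine (hu.pow n).mul_left_cancel ?_
    rw [← map_pow, ← φ.commutes, ← map_mul, ← mul_assoc, map_pow, IsUnit.mul_val_inv, one_mul, hφ, ← hb,
      Algebra.smul_def, ← φ.commutes, map_pow, map_pow]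
  have hker : ∀ x, φ x = 0 ↔ ∃ y, x = f • y := fun x => by
    refine ⟨fun hx => ?_, fun ⟨y, hy⟩ => ?_⟩
    · obtain ⟨n, b, hb⟩ := hrep x
      have h0 : qi b = 0 := by rw [← hφ, ← hb, map_smul, hx, smul_zero]
      obtain ⟨e, b', he⟩ := hkerq b h0
      refine ⟨((hug (e + n)).unit⁻¹ : (B')ˣ).val * algebraMap B B' b', hcan (e + n) _ _ ?_⟩
      rw [pow_add, mul_smul, hb, ← pow_add, ← IsScalarTower.coe_toAlgHom' A B B', ← map_smul, he, map_smul,
        IsScalarTower.coe_toAlgHom', smul_comm, Algebra.smul_def (g₀ ^ (e + n)), ← mul_assoc, map_pow,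
        IsUnit.mul_val_inv, one_mul]
    · rw [hy, map_smul, Algebra.smul_def, IsScalarTower.algebraMap_apply A T (Cl C g₀),
        Ideal.Quotient.algebraMap_eq, Ideal.Quotient.eq_zero_iff_mem.2 (Ideal.mem_span_singleton_self f),
        map_zero, zero_mul]
  have hd : Disjoint (Submonoid.powers (algebraMap A B g₀) : Set B) (𝔮 : Set B) :=
    Set.disjoint_left.2 fun y ⟨n, hn⟩ hy => hg (Ideal.IsPrime.mem_of_pow_mem inferInstance n (show (algebraMap A B g₀) ^ n ∈ 𝔮 by subst hn; exact hy))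
  let 𝔮' := 𝔮.map (algebraMap B B')
  haveI : 𝔮'.IsPrime := IsLocalization.isPrime_of_isPrime_disjoint _ B' 𝔮 inferInstance hd
  haveI : Algebra.IsEtaleAt A 𝔮' := isEtaleAt_of_mod hnz' φ hsurj hker 𝔮'
    (by rw [IsScalarTower.algebraMap_apply A B B']; exact Ideal.mem_map_of_mem _ hfq)
  have hcomap : 𝔮'.under B = 𝔮 := IsLocalization.comap_map_of_isPrime_disjoint _ B' ‹_› hd
  haveI : IsLocalization.AtPrime (Localization.AtPrime 𝔮') 𝔮 := by
    have := IsLocalization.isLocalization_isLocalization_atPrime_isLocalization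
      (.powers (algebraMap A B g₀)) (Localization.AtPrime 𝔮') 𝔮'
    convert this using 2
    exact hcomap.symm
  exact Algebra.FormallyEtale.of_equiv ((IsLocalization.algEquiv 𝔮.primeCompl
    (Localization.AtPrime 𝔮') (Localization.AtPrime 𝔮)).restrictScalars A)

/-- The formal sections, as an abstract algebra. -/
theorem exists_sections {A : Type u} [CommRing A] [IsNoetherianRing A] {f : A}
    [IsAdicComplete (Ideal.span {f}) A] {C : Type u} [CommRing C] [Algebra A C] {l : ℕ} {g : Fin l → A}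
    (E1 : ∀ i, CLift A f (Cl C (g i))) (E2 : ∀ p : Fin l × Fin l, CLift A f (Cl C (g p.1 * g p.2)))
    (E3 : ∀ t : Fin l × Fin l × Fin l, CLift A f (Cl C (g t.1 * g t.2.1 * g t.2.2)))
    [Module.Finite A (sec g C)] [Module.Finite A (H1c g C)] :
    ∃ (B : Type u) (_ : CommRing B) (_ : Algebra A B) (_ : Module.Finite A B)
      (_ : ∀ b : B, f • b = 0 → b = 0) (q : B →ₐ[A] ∀ i, Cl C (g i)),
      (∀ b, q b = 0 ↔ ∃ b', b = f • b') ∧
      (∀ b (p : Fin l × Fin l), rCa C (dvd_mul_right (g p.1) (g p.2)) (q b p.1) =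
        rCa C (dvd_mul_left (g p.2) (g p.1)) (q b p.2)) ∧
      (∀ b i, q b i = 0 → ∃ (e : ℕ) (b' : B), g i ^ e • b = f • b') ∧
      ∀ c i, ∃ (k : ℕ) (b : B), q b = g i ^ k • algebraMap C (∀ j, Cl C (g j)) c :=
  ⟨M E1 E2, inferInstance, inferInstance, finite_M E1 E2, nzd_M E1 E2, q E1 E2, q_eq_zero_iff E1 E2,
    q_compat E1 E2, fun b i => exists_q_smul_eq_zero E1 E2 b i, fun c i => exists_q_eq E1 E2 E3 c i⟩

theorem exists_model (A : Type u) [CommRing A] [IsNoetherianRing A] [IsLocalRing A] (f : A)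
    [IsAdicComplete (Ideal.span {f}) A] (hnz : f ∈ nonZeroDivisors A)
    (h1 : Module.Finite A (LocCoh.H (maximalIdeal A) 1 (A ⧸ Ideal.span {f})))
    (h2 : Module.Finite A (LocCoh.H (maximalIdeal A) 2 (A ⧸ Ideal.span {f})))
    (C : Type u) [CommRing C] [Algebra A C] [Algebra (A ⧸ Ideal.span {f}) C]
    [IsScalarTower A (A ⧸ Ideal.span {f}) C] [Module.Finite (A ⧸ Ideal.span {f}) C]
    (hC : ∀ h ∈ maximalIdeal A, Pi1Ext.RegPurity.EtAway (A ⧸ Ideal.span {f}) C (Ideal.Quotient.mk _ h)) :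
    ∃ (B : Type u) (_ : CommRing B) (_ : Algebra A B) (_ : Module.Finite A B)
      (_ : ∀ b : B, f • b = 0 → b = 0)
      (_ : ∀ q : Ideal B, ∀ [q.IsPrime], algebraMap A B f ∈ q →
        ¬ maximalIdeal A ≤ q.comap (algebraMap A B) → Algebra.IsEtaleAt A q)
      (R : Type u) (_ : CommRing R) (_ : Algebra A R) (_ : Module.Finite A R) (f₁ : C →ₐ[A] R)
      (f₂ : (B ⧸ Ideal.span {algebraMap A B f}) →ₐ[A] R),
      ∀ a ∈ maximalIdeal A, Pi1Ext.RegPurity.IsoAway f₁ a ∧ Pi1Ext.RegPurity.IsoAway f₂ a := by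
  classical
  let T := A ⧸ Ideal.span {f}
  haveI : Module.Finite A C := Module.Finite.trans T C
  obtain ⟨l, g, hg⟩ := Submodule.fg_iff_exists_fin_generating_family.1 (IsNoetherian.noetherian (maximalIdeal A))
  have hI : maximalIdeal A = Ideal.span (Set.range g) := hg.symm
  have hgm : ∀ i, g i ∈ maximalIdeal A := fun i => hI ▸ Ideal.subset_span (Set.mem_range_self i)
  have het : ∀ h ∈ maximalIdeal A, Algebra.Etale T (Cl C h) := fun h hh => by
    have h' := hC h hh
    unfold EtAway at h'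
    rw [show algebraMap T C (Ideal.Quotient.mk _ h) = algebraMap A C h from
      (IsScalarTower.algebraMap_apply A T C h).symm] at h'
    exact h'
  have hlift : ∀ h ∈ maximalIdeal A, Nonempty (CLift A f (Cl C h)) := fun h hh => by
    haveI := het h hh
    exact exists_cLift f hnz (Cl C h)
  have E1 : ∀ i, CLift A f (Cl C (g i)) := fun i => (hlift _ (hgm i)).some
  have E2 : ∀ p : Fin l × Fin l, CLift A f (Cl C (g p.1 * g p.2)) := fun p =>
    (hlift _ (Ideal.mul_mem_right _ _ (hgm p.1))).some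
  have E3 : ∀ t : Fin l × Fin l × Fin l, CLift A f (Cl C (g t.1 * g t.2.1 * g t.2.2)) := fun t =>
    (hlift _ (Ideal.mul_mem_right _ _ (Ideal.mul_mem_right _ _ (hgm t.1)))).some
  obtain ⟨hsec, hH1⟩ := finite_cech g (maximalIdeal A) hI T h1 h2 C fun i => by
    obtain ⟨d, k, s, π, hπ⟩ := P1Punct.exists_retract T C (Ideal.Quotient.mk _ (g i)) (hC _ (hgm i))
    refine ⟨d, k, s.restrictScalars A, π.restrictScalars A, fun x => ?_⟩
    show π (s x) = _
    rw [hπ, ← map_pow, ← algebraMap_smul T (g i ^ k) x]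
    rfl
  haveI := hsec
  haveI := hH1
  obtain ⟨B, _, _, _, hnzB, q₀, hq0, hqc, hqk, hqs⟩ := exists_sections E1 E2 E3
  let Q := B ⧸ Ideal.span {algebraMap A B f}
  let π : Q →ₐ[A] ∀ i, Cl C (g i) := Ideal.Quotient.liftₐ _ q₀ fun b hb => by
    obtain ⟨b', rfl⟩ := (mem_span_iff f b).1 hb
    exact (hq0 _).2 ⟨b', rfl⟩
  have hπ : ∀ b, π (Ideal.Quotient.mk _ b) = q₀ b := fun b => rfl
  have hsurjq : ∀ (i : Fin l) (x : Cl C (g i)), ∃ (n : ℕ) (b : B), g i ^ n • x = q₀ b i := fun i x => by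
    obtain ⟨n, c, hc⟩ := IsLocalization.Away.surj (algebraMap A C (g i)) x
    obtain ⟨k, m, hm⟩ := hqs c i
    refine ⟨k + n, m, ?_⟩
    rw [hm, Pi.smul_apply, Pi.algebraMap_apply, ← hc, pow_add, mul_smul, Algebra.smul_def (g i ^ n), map_pow,
      IsScalarTower.algebraMap_apply A C (Cl C (g i)), mul_comm x]
  have hinj : ∀ i b, π b i = 0 → ∃ n : ℕ, g i ^ n • b = 0 := fun i b hb => by
    obtain ⟨b, rfl⟩ := Ideal.Quotient.mk_surjective b
    obtain ⟨e, b', he⟩ := hqk b i hb
    refine ⟨e, ?_⟩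
    rw [← Ideal.Quotient.mkₐ_eq_mk A, ← map_smul, Ideal.Quotient.mkₐ_eq_mk, he, Ideal.Quotient.eq_zero_iff_mem]
    exact (mem_span_iff f _).2 ⟨b', rfl⟩
  have hetale : ∀ q : Ideal B, ∀ [q.IsPrime], algebraMap A B f ∈ q →
      ¬ maximalIdeal A ≤ q.comap (algebraMap A B) → Algebra.IsEtaleAt A q := by
    intro 𝔮 _ hfq hm
    obtain ⟨i, hi⟩ : ∃ i, algebraMap A B (g i) ∉ 𝔮 := by
      by_contra h
      push Not at h
      exact hm (hI ▸ Ideal.span_le.2 (by rintro _ ⟨i, rfl⟩; exact h i))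
    haveI := het _ (hgm i)
    exact isEtaleAt_of_sections f (g i) C B hnzB ((Pi.evalAlgHom A (fun j => Cl C (g j)) i).comp q₀)
      (hsurjq i) (fun b hb => hqk b i hb) 𝔮 hfq hi
  have hsec' : ∀ b, π b ∈ P1Punct.sec (C := C) g := fun b i j => by
    obtain ⟨b, rfl⟩ := Ideal.Quotient.mk_surjective b
    rw [hπ]
    let κ : Cl C (g i * g j) →+* P1Punct.L₂ (C := C) g (i, j) :=
      IsLocalization.Away.lift (algebraMap A C (g i * g j)) (g := algebraMap C (P1Punct.L₂ (C := C) g (i, j)))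
        (by rw [map_mul]; exact IsLocalization.Away.algebraMap_isUnit _)
    have hκ₁ : κ.comp (rCa C (dvd_mul_right (g i) (g j))).toRingHom = P1Punct.ρ₁ g i j :=
      IsLocalization.ringHom_ext (Submonoid.powers (algebraMap A C (g i))) (RingHom.ext fun c => by
        show κ (rCa C _ (algebraMap C _ c)) = P1Punct.ρ₁ g i j (algebraMap C _ c)
        rw [rCa_algebraMap, P1Punct.ρ₁_algebraMap]
        exact IsLocalization.Away.lift_eq _ _ c)
    have hκ₂ : κ.comp (rCa C (dvd_mul_left (g j) (g i))).toRingHom = P1Punct.ρ₂ g i j :=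
      IsLocalization.ringHom_ext (Submonoid.powers (algebraMap A C (g j))) (RingHom.ext fun c => by
        show κ (rCa C _ (algebraMap C _ c)) = P1Punct.ρ₂ g i j (algebraMap C _ c)
        rw [rCa_algebraMap, P1Punct.ρ₂_algebraMap]
        exact IsLocalization.Away.lift_eq _ _ c)
    rw [← hκ₁, ← hκ₂]
    exact congrArg κ (hqc b (i, j))
  obtain ⟨R, _, _, _, f₁, f₂, hf⟩ := P1Glue.exists_common g π hsec' hinj fun i x => by
    obtain ⟨n, b, hb⟩ := hsurjq i x
    exact ⟨n, Ideal.Quotient.mk _ b, hb⟩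
  exact ⟨B, inferInstance, inferInstance, inferInstance, hnzB, hetale, R, inferInstance, inferInstance,
    inferInstance, f₁, f₂, fun a ha => hf a (Ideal.le_radical (hI.le ha))⟩

end Groth.Agent.P1Lef
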