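import Groth.Agent.P1Punct.Glue
import Mathlib.Algebra.Module.LocalizedModule.Exact
import Mathlib.RingTheory.Noetherian.Basic

/-!
The first two terms of the Čech complex of a module on a family of elements, and finiteness of the
sections and of the first cohomology from finiteness of local cohomology in degrees one and two.
-/

universe u

open CategoryTheory

set_option linter.style.haveILetI false
set_option synthInstance.maxHeartbeats 200000

noncomputable section

namespace Groth.Agent.P1Lef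

variable {R : Type u} [CommRing R]

/-- The localisation of `M` at `h`. -/
abbrev L (h : R) (M : Type u) [AddCommGroup M] [Module R M] := LocalizedModule (Submonoid.powers h) M

/-- The canonical map. -/
def mkL (h : R) (M : Type u) [AddCommGroup M] [Module R M] : M →ₗ[R] L h M :=
  LocalizedModule.mkLinearMap (Submonoid.powers h) M

instance (h : R) (M : Type u) [AddCommGroup M] [Module R M] :
    IsLocalizedModule (Submonoid.powers h) (mkL h M) :=
  inferInstanceAs (IsLocalizedModule _ (LocalizedModule.mkLinearMap (Submonoid.powers h) M))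

variable {M M' M'' : Type u} [AddCommGroup M] [Module R M] [AddCommGroup M'] [Module R M']
  [AddCommGroup M''] [Module R M'']

theorem lext {h : R} {N : Type u} [AddCommGroup N] [Module R N]
    (hN : ∀ x : Submonoid.powers h, IsUnit (algebraMap R (Module.End R N) x)) {j k : L h M →ₗ[R] N}
    (e : ∀ m, j (mkL h M m) = k (mkL h M m)) : j = k :=
  IsLocalizedModule.ext (Submonoid.powers h) (mkL h M) hN (LinearMap.ext e)

theorem isUnit_of_dvd {h h' : R} (hh : h ∣ h') (x : Submonoid.powers h) :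
    IsUnit (algebraMap R (Module.End R (L h' M)) x) := by
  obtain ⟨_, n, rfl⟩ := x
  obtain ⟨c, rfl⟩ := hh
  show IsUnit (algebraMap R (Module.End R (L (h * c) M)) (h ^ n))
  rw [map_pow]
  refine IsUnit.pow _ ?_
  have := IsLocalizedModule.map_units (mkL (h * c) M) ⟨h * c, Submonoid.mem_powers _⟩
  rw [map_mul] at this
  exact ((Commute.isUnit_mul_iff (Algebra.commutes _ _)).1 this).1

theorem smul_cancel {h : R} {n : ℕ} {x y : L h M} (e : h ^ n • x = h ^ n • y) : x = y :=
  IsLocalizedModule.smul_injective (mkL h M) (⟨h ^ n, n, rfl⟩ : Submonoid.powers h) e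

/-- A power, as an element of the powers. -/
def pw (h : R) (n : ℕ) : Submonoid.powers h := ⟨h ^ n, n, rfl⟩

theorem pw_smul_mk' (h : R) (n : ℕ) (m : M) :
    h ^ n • IsLocalizedModule.mk' (mkL h M) m (pw h n) = mkL h M m :=
  IsLocalizedModule.mk'_cancel' (mkL h M) m (pw h n)

theorem mkL_eq_zero {h : R} {m : M} : mkL h M m = 0 ↔ ∃ n : ℕ, h ^ n • m = 0 := by
  rw [IsLocalizedModule.eq_zero_iff (Submonoid.powers h)]
  exact ⟨fun ⟨⟨_, n, rfl⟩, e⟩ => ⟨n, e⟩, fun ⟨n, e⟩ => ⟨⟨_, n, rfl⟩, e⟩⟩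

theorem exists_smul_eq (h : R) (x : L h M) : ∃ n : ℕ, ∀ N, n ≤ N → ∃ a, h ^ N • x = mkL h M a := by
  obtain ⟨⟨a, ⟨_, n, rfl⟩⟩, e⟩ := IsLocalizedModule.surj (Submonoid.powers h) (mkL h M) x
  refine ⟨n, fun N hN => ?_⟩
  obtain ⟨k, rfl⟩ := Nat.exists_eq_add_of_le' hN
  refine ⟨h ^ k • a, ?_⟩
  rw [pow_add, mul_smul, map_smul]
  exact congrArg (h ^ k • ·) e

/-- Restriction. -/
def res {h h' : R} (hh : h ∣ h') : L h M →ₗ[R] L h' M :=
  IsLocalizedModule.lift (Submonoid.powers h) (mkL h M) (mkL h' M) (isUnit_of_dvd hh)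

@[simp] theorem res_mk {h h' : R} (hh : h ∣ h') (m : M) : res hh (mkL h M m) = mkL h' M m :=
  IsLocalizedModule.lift_apply _ _ _ _ _

@[simp] theorem res_res {h h' h'' : R} (hh : h ∣ h') (hh' : h' ∣ h'') (x : L h M) :
    res hh' (res hh x) = res (hh.trans hh') x :=
  LinearMap.congr_fun (lext (isUnit_of_dvd (hh.trans hh'))
    (j := res hh' ∘ₗ res hh) (fun m => by simp)) x

/-- Functoriality. -/
def lmap (h : R) : (M →ₗ[R] M') →ₗ[R] (L h M →ₗ[R] L h M') :=
  IsLocalizedModule.map (Submonoid.powers h) (mkL h M) (mkL h M')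

@[simp] theorem lmap_mk (h : R) (φ : M →ₗ[R] M') (m : M) : lmap h φ (mkL h M m) = mkL h M' (φ m) :=
  IsLocalizedModule.map_apply _ _ _ _ _

theorem lmap_id (h : R) : lmap h (LinearMap.id : M →ₗ[R] M) = LinearMap.id :=
  lext (isUnit_of_dvd dvd_rfl) fun m => by simp

theorem lmap_lmap (h : R) (φ : M →ₗ[R] M') (ψ : M' →ₗ[R] M'') (x : L h M) :
    lmap h ψ (lmap h φ x) = lmap h (ψ ∘ₗ φ) x :=
  LinearMap.congr_fun (lext (isUnit_of_dvd dvd_rfl) (j := lmap h ψ ∘ₗ lmap h φ) fun m => by simp) x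

@[simp] theorem res_lmap {h h' : R} (hh : h ∣ h') (φ : M →ₗ[R] M') (x : L h M) :
    res hh (lmap h φ x) = lmap h' φ (res hh x) :=
  LinearMap.congr_fun (lext (isUnit_of_dvd hh) (j := res hh ∘ₗ lmap h φ)
    (k := lmap h' φ ∘ₗ res hh) fun m => by simp) x

theorem lmap_injective {h : R} {φ : M →ₗ[R] M'} (H : ∀ m, φ m = 0 → ∃ n : ℕ, h ^ n • m = 0) :
    Function.Injective (lmap h φ) := by
  refine IsLocalizedModule.injective_of_map_zero (Submonoid.powers h) (mkL h M) fun m hm => ?_
  rw [lmap_mk, mkL_eq_zero] at hm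
  obtain ⟨n, hn⟩ := hm
  obtain ⟨k, hk⟩ := H (h ^ n • m) (by rw [map_smul, hn])
  exact mkL_eq_zero.2 ⟨k + n, by rw [pow_add, mul_smul, hk]⟩

theorem lmap_exact (h : R) {φ : M →ₗ[R] M'} {ψ : M' →ₗ[R] M''} (e : Function.Exact φ ψ) :
    Function.Exact (lmap h φ) (lmap h ψ) :=
  IsLocalizedModule.map_exact (Submonoid.powers h) (mkL h M) (mkL h M') (mkL h M'') φ ψ e

variable {l : ℕ} (g : Fin l → R)

/-- Degree zero cochains. -/
abbrev C0 (M : Type u) [AddCommGroup M] [Module R M] := ∀ i, L (g i) M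
/-- Degree one cochains. -/
abbrev C1 (M : Type u) [AddCommGroup M] [Module R M] :=
  ∀ p : Fin l × Fin l, L (g p.1 * g p.2) M
/-- Degree two cochains. -/
abbrev C2 (M : Type u) [AddCommGroup M] [Module R M] :=
  ∀ t : Fin l × Fin l × Fin l, L (g t.1 * g t.2.1 * g t.2.2) M

/-- The first differential. -/
def d0 : C0 g M →ₗ[R] C1 g M :=
  LinearMap.pi fun p => res (dvd_mul_right (g p.1) (g p.2)) ∘ₗ LinearMap.proj p.1 -
    res (dvd_mul_left (g p.2) (g p.1)) ∘ₗ LinearMap.proj p.2

theorem dvd12 (i j k : R) : i * j ∣ i * j * k := dvd_mul_right _ _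
theorem dvd13 (i j k : R) : i * k ∣ i * j * k := ⟨j, by ring⟩
theorem dvd23 (i j k : R) : j * k ∣ i * j * k := ⟨i, by ring⟩

/-- The second differential. -/
def d1 : C1 g M →ₗ[R] C2 g M :=
  LinearMap.pi fun t =>
    res (dvd23 (g t.1) (g t.2.1) (g t.2.2)) ∘ₗ LinearMap.proj (t.2.1, t.2.2) -
      res (dvd13 (g t.1) (g t.2.1) (g t.2.2)) ∘ₗ LinearMap.proj (t.1, t.2.2) +
      res (dvd12 (g t.1) (g t.2.1) (g t.2.2)) ∘ₗ LinearMap.proj (t.1, t.2.1)

/-- The augmentation. -/
def aug : M →ₗ[R] C0 g M := LinearMap.pi fun i => mkL (g i) M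

theorem d0_apply (x : C0 g M) (p : Fin l × Fin l) :
    d0 g x p = res (dvd_mul_right (g p.1) (g p.2)) (x p.1) - res (dvd_mul_left (g p.2) (g p.1)) (x p.2) :=
  rfl

theorem d1_apply (y : C1 g M) (i j k : Fin l) :
    d1 g y (i, j, k) = res (dvd23 (g i) (g j) (g k)) (y (j, k)) -
      res (dvd13 (g i) (g j) (g k)) (y (i, k)) + res (dvd12 (g i) (g j) (g k)) (y (i, j)) :=
  rfl

@[simp] theorem d0_aug (m : M) : d0 g (aug g m) = 0 := by
  funext p; simp [d0_apply, aug]

@[simp] theorem d1_d0 (x : C0 g M) : d1 g (d0 g x) = 0 := by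
  funext ⟨i, j, k⟩
  simp only [d1_apply, d0_apply, map_sub, res_res, Pi.zero_apply]
  abel

/-- Functoriality in degree zero. -/
def m0 : (M →ₗ[R] M') →ₗ[R] (C0 g M →ₗ[R] C0 g M') where
  toFun φ := LinearMap.pi fun i => lmap (g i) φ ∘ₗ LinearMap.proj i
  map_add' φ ψ := by ext x i; simp
  map_smul' r φ := by ext x i; simp

/-- Functoriality in degree one. -/
def m1 : (M →ₗ[R] M') →ₗ[R] (C1 g M →ₗ[R] C1 g M') where
  toFun φ := LinearMap.pi fun p => lmap (g p.1 * g p.2) φ ∘ₗ LinearMap.proj p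
  map_add' φ ψ := by ext x i; simp
  map_smul' r φ := by ext x i; simp

/-- Functoriality in degree two. -/
def m2 (φ : M →ₗ[R] M') : C2 g M →ₗ[R] C2 g M' :=
  LinearMap.pi fun t => lmap (g t.1 * g t.2.1 * g t.2.2) φ ∘ₗ LinearMap.proj t

theorem m0_apply (φ : M →ₗ[R] M') (x : C0 g M) (i : Fin l) : m0 g φ x i = lmap (g i) φ (x i) := rfl
theorem m1_apply (φ : M →ₗ[R] M') (x : C1 g M) (p : Fin l × Fin l) :
    m1 g φ x p = lmap (g p.1 * g p.2) φ (x p) := rfl
theorem m2_apply (φ : M →ₗ[R] M') (x : C2 g M) (t : Fin l × Fin l × Fin l) :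
    m2 g φ x t = lmap _ φ (x t) := rfl

theorem m0_aug (φ : M →ₗ[R] M') (m : M) : m0 g φ (aug g m) = aug g (φ m) := by
  funext i; simp [m0_apply, aug]

theorem d0_m0 (φ : M →ₗ[R] M') (x : C0 g M) : d0 g (m0 g φ x) = m1 g φ (d0 g x) := by
  funext p; simp [d0_apply, m0_apply, m1_apply]

theorem d1_m1 (φ : M →ₗ[R] M') (y : C1 g M) : d1 g (m1 g φ y) = m2 g φ (d1 g y) := by
  funext ⟨i, j, k⟩; simp [d1_apply, m1_apply, m2_apply]

theorem m0_id : m0 g (LinearMap.id : M →ₗ[R] M) = LinearMap.id := by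
  refine LinearMap.ext fun x => funext fun i => ?_
  simp [m0_apply, lmap_id]

theorem m1_id : m1 g (LinearMap.id : M →ₗ[R] M) = LinearMap.id := by
  refine LinearMap.ext fun x => funext fun i => ?_
  simp [m1_apply, lmap_id]

theorem m0_comp (φ : M →ₗ[R] M') (ψ : M' →ₗ[R] M'') (x : C0 g M) :
    m0 g ψ (m0 g φ x) = m0 g (ψ ∘ₗ φ) x := funext fun i => lmap_lmap _ _ _ _

theorem m1_comp (φ : M →ₗ[R] M') (ψ : M' →ₗ[R] M'') (x : C1 g M) :
    m1 g ψ (m1 g φ x) = m1 g (ψ ∘ₗ φ) x := funext fun i => lmap_lmap _ _ _ _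

theorem m0_exact {φ : M →ₗ[R] M'} {ψ : M' →ₗ[R] M''} (e : Function.Exact φ ψ) {y : C0 g M'}
    (hy : m0 g ψ y = 0) : ∃ z, m0 g φ z = y := by
  choose z hz using fun i => (lmap_exact (g i) e (y i)).1 (congrFun hy i)
  exact ⟨z, funext hz⟩

/-- `φ` is injective after inverting any of the `g i`. -/
def LocInj (φ : M →ₗ[R] M') : Prop := ∀ (i : Fin l) (m : M), φ m = 0 → ∃ n : ℕ, g i ^ n • m = 0

variable {g}

theorem LocInj.of_injective {φ : M →ₗ[R] M'} (h : Function.Injective φ) : LocInj g φ :=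
  fun _ m hm => ⟨0, by rw [h (hm.trans (map_zero φ).symm), smul_zero]⟩

theorem LocInj.lmap_injective {φ : M →ₗ[R] M'} (H : LocInj g φ) (i : Fin l) {h : R} (hh : g i ∣ h) :
    Function.Injective (lmap h φ) := by
  refine P1Lef.lmap_injective fun m hm => ?_
  obtain ⟨n, hn⟩ := H i m hm
  obtain ⟨c, rfl⟩ := hh
  exact ⟨n, by rw [mul_pow, mul_comm, mul_smul, hn, smul_zero]⟩

theorem LocInj.m0 {φ : M →ₗ[R] M'} (H : LocInj g φ) : Function.Injective (m0 g φ) :=
  fun _ _ e => funext fun i => H.lmap_injective i dvd_rfl (congrFun e i)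

theorem LocInj.m1 {φ : M →ₗ[R] M'} (H : LocInj g φ) : Function.Injective (m1 g φ) :=
  fun _ _ e => funext fun p => H.lmap_injective p.1 (dvd_mul_right _ _) (congrFun e p)

theorem LocInj.m2 {φ : M →ₗ[R] M'} (H : LocInj g φ) : Function.Injective (m2 g φ) :=
  fun _ _ e => funext fun t => H.lmap_injective t.1 (dvd_mul_of_dvd_left (dvd_mul_right _ _) _)
    (congrFun e t)

variable (g)

/-- Sections. -/
abbrev sec (M : Type u) [AddCommGroup M] [Module R M] : Submodule R (C0 g M) := LinearMap.ker (d0 g)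

/-- The coboundaries among the cocycles. -/
abbrev cobd (M : Type u) [AddCommGroup M] [Module R M] : Submodule R (LinearMap.ker (d1 g (M := M))) :=
  (LinearMap.range (d0 g (M := M))).comap (LinearMap.ker (d1 g (M := M))).subtype

/-- The first cohomology. -/
abbrev H1c (M : Type u) [AddCommGroup M] [Module R M] := LinearMap.ker (d1 g (M := M)) ⧸ cobd g M

/-- The augmentation into sections. -/
def augS : M →ₗ[R] sec g M := (aug g).codRestrict _ fun m => LinearMap.mem_ker.2 (d0_aug g m)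

/-- Functoriality of sections. -/
def secMap (φ : M →ₗ[R] M') : sec g M →ₗ[R] sec g M' :=
  (m0 g φ).restrict fun x hx => by
    rw [LinearMap.mem_ker] at hx ⊢
    rw [d0_m0, hx, map_zero]

/-- Functoriality of cocycles. -/
def kerMap (φ : M →ₗ[R] M') : LinearMap.ker (d1 g (M := M)) →ₗ[R] LinearMap.ker (d1 g (M := M')) :=
  (m1 g φ).restrict fun x hx => by
    rw [LinearMap.mem_ker] at hx ⊢
    rw [d1_m1, hx, map_zero]

/-- Functoriality of the first cohomology. -/
def H1map (φ : M →ₗ[R] M') : H1c g M →ₗ[R] H1c g M' :=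
  (cobd g M).mapQ (cobd g M') (kerMap g φ) fun x hx => by
    obtain ⟨z, hz⟩ := hx
    exact ⟨m0 g φ z, by rw [d0_m0, hz]; rfl⟩

theorem H1map_mk (φ : M →ₗ[R] M') (x : LinearMap.ker (d1 g (M := M))) :
    H1map g φ (Submodule.Quotient.mk x) = Submodule.Quotient.mk (kerMap g φ x) := rfl

theorem exists_lift {S N N' : Type u} [AddCommGroup S] [Module R S] [AddCommGroup N] [Module R N]
    [AddCommGroup N'] [Module R N'] (f : N →ₗ[R] N') (hf : Function.Injective f) (Φ : S →ₗ[R] N')
    (h : ∀ x, Φ x ∈ LinearMap.range f) : ∃ Ψ : S →ₗ[R] N, ∀ x, f (Ψ x) = Φ x :=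
  ⟨(LinearEquiv.ofInjective f hf).symm.toLinearMap ∘ₗ Φ.codRestrict _ h, fun x =>
    congrArg Subtype.val ((LinearEquiv.ofInjective f hf).apply_symm_apply ⟨Φ x, h x⟩)⟩

section Noeth

variable [IsNoetherianRing R]

theorem finite_range_of_ker_le {S H W : Type u} [AddCommGroup S] [Module R S] [AddCommGroup H]
    [Module R H] [AddCommGroup W] [Module R W] [Module.Finite R W] (φ : S →ₗ[R] H) (ψ : S →ₗ[R] W)
    (h : LinearMap.ker ψ ≤ LinearMap.ker φ) : Module.Finite R (LinearMap.range φ) := by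
  haveI : Module.Finite R (S ⧸ LinearMap.ker ψ) := Module.Finite.of_injective
    ((LinearMap.ker ψ).liftQ ψ le_rfl) (LinearMap.ker_eq_bot.1 (Submodule.ker_liftQ_eq_bot _ _ _ le_rfl))
  rw [← Submodule.range_liftQ (LinearMap.ker ψ) φ h]
  exact Module.Finite.range _

theorem augS_surjective_of_injective [Module.Injective R M] : Function.Surjective (augS g (M := M)) := by
  intro ⟨x, hx⟩
  rw [LinearMap.mem_ker] at hx
  choose n hn using fun i => exists_smul_eq (g i) (x i)
  let N := Finset.univ.sup n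
  choose a ha using fun i => hn i N (Finset.le_sup (Finset.mem_univ i))
  have hc : ∀ p : Fin l × Fin l, ∃ P : ℕ,
      (g p.1 * g p.2) ^ P • g p.2 ^ N • a p.1 = (g p.1 * g p.2) ^ P • g p.1 ^ N • a p.2 := by
    intro p
    have e := congrFun hx p
    rw [d0_apply, Pi.zero_apply, sub_eq_zero] at e
    have h0 : mkL (g p.1 * g p.2) M (g p.2 ^ N • a p.1 - g p.1 ^ N • a p.2) = 0 := by
      rw [map_sub, map_smul, map_smul, ← res_mk (dvd_mul_right (g p.1) (g p.2)), ← ha,
        ← res_mk (dvd_mul_left (g p.2) (g p.1)), ← ha, map_smul, map_smul, e, smul_comm, sub_self]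
    obtain ⟨P, hP⟩ := mkL_eq_zero.1 h0
    exact ⟨P, by rwa [smul_sub, sub_eq_zero] at hP⟩
  choose P hP using hc
  obtain ⟨m, Q, hm⟩ := P1Punct.exists_glues_of_injective g (N := N) (a := a)
    ⟨Finset.univ.sup P, fun i j => by
      obtain ⟨k, hk⟩ := Nat.exists_eq_add_of_le' (Finset.le_sup (f := P) (Finset.mem_univ (i, j)))
      rw [hk, pow_add, mul_smul, hP (i, j), mul_smul]⟩
  refine ⟨m, Subtype.ext (funext fun i => smul_cancel (n := Q + N) ?_)⟩
  show g i ^ (Q + N) • mkL (g i) M m = g i ^ (Q + N) • x i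
  rw [← map_smul, hm i, map_smul, pow_add, mul_smul, ha]

variable (I : Ideal R) (hI : I = Ideal.span (Set.range g))

include hI

theorem H1c_subsingleton_of_injective [Module.Injective R M] : Subsingleton (H1c g M) := by
  haveI : Injective (ModuleCat.of R M) := Module.injective_object_of_injective_module R M
  refine subsingleton_of_forall_eq 0 fun z => ?_
  obtain ⟨⟨x, hx⟩, rfl⟩ := Submodule.Quotient.mk_surjective _ z
  rw [LinearMap.mem_ker] at hx
  choose n hn using fun p : Fin l × Fin l => exists_smul_eq (g p.1 * g p.2) (x p)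
  let N := Finset.univ.sup n
  choose y hy using fun p => hn p N (Finset.le_sup (Finset.mem_univ p))
  have hc : ∀ t : Fin l × Fin l × Fin l, ∃ P : ℕ, (g t.1 * g t.2.1 * g t.2.2) ^ P •
      (g t.2.2 ^ N • y (t.1, t.2.1) + g t.1 ^ N • y (t.2.1, t.2.2) -
        g t.2.1 ^ N • y (t.1, t.2.2)) = 0 := by
    rintro ⟨i, j, k⟩
    refine mkL_eq_zero.1 ?_
    have e := congrArg ((g i * g j * g k) ^ N • ·) (congrFun hx (i, j, k))
    simp only [d1_apply, Pi.zero_apply, smul_zero] at e
    have hy' : ∀ a b, (g a * g b) ^ N • x (a, b) = mkL (g a * g b) M (y (a, b)) := fun a b => hy (a, b)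
    show mkL (g i * g j * g k) M (g k ^ N • y (i, j) + g i ^ N • y (j, k) - g j ^ N • y (i, k)) = 0
    rw [map_sub, map_add, map_smul, map_smul, map_smul, ← res_mk (dvd12 (g i) (g j) (g k)), ← hy',
      ← res_mk (dvd23 (g i) (g j) (g k)), ← hy', ← res_mk (dvd13 (g i) (g j) (g k)), ← hy', map_smul,
      map_smul, map_smul]
    linear_combination (norm := (match_scalars <;> ring)) e
  choose P hP using hc
  obtain ⟨N', a, Q, ha⟩ := P1Punct.killsCobound_of_H g I hI (c := 1) (fun z => by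
    haveI := LC.subsingleton_of_injective I (ModuleCat.of R M) 1
    exact Subsingleton.elim _ _) N (fun i j => y (i, j)) ⟨Finset.univ.sup P, fun i j k => by
      obtain ⟨r, hr⟩ := Nat.exists_eq_add_of_le' (Finset.le_sup (f := P) (Finset.mem_univ (i, j, k)))
      rw [hr, pow_add, mul_smul]
      exact (congrArg ((g i * g j * g k) ^ r • ·) (hP (i, j, k))).trans (smul_zero _)⟩
  refine (Submodule.Quotient.mk_eq_zero _).2 ⟨fun i => IsLocalizedModule.mk' (mkL (g i) M) (a i)
    (pw (g i) N'), funext fun ⟨i, j⟩ => smul_cancel (n := Q + N' + N) ?_⟩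
  show (g i * g j) ^ (Q + N' + N) • _ = (g i * g j) ^ (Q + N' + N) • x (i, j)
  have hy' : (g i * g j) ^ N • x (i, j) = mkL (g i * g j) M (y (i, j)) := hy (i, j)
  rw [pow_add _ _ N, mul_smul _ _ (x (i, j)), hy', ← map_smul, pow_add _ Q, mul_smul _ _ (y (i, j))]
  have e := ha i j
  simp only [one_smul] at e
  rw [e]
  have hz : ∀ k : Fin l, g k ^ N' • IsLocalizedModule.mk' (mkL (g k) M) (a k) (pw (g k) N') =
      mkL (g k) M (a k) := fun k => pw_smul_mk' _ _ _
  rw [d0_apply, map_smul, map_smul, map_sub, map_smul, map_smul, ← res_mk (dvd_mul_right (g i) (g j)),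
    ← hz, ← res_mk (dvd_mul_left (g j) (g i)), ← hz, map_smul, map_smul]
  match_scalars <;> ring

theorem finite_sec_quot (h1 : Module.Finite R ((localCohomology I 1).obj (ModuleCat.of R M))) :
    Module.Finite R (sec g M ⧸ LinearMap.range (augS g (M := M))) := by
  obtain ⟨J, _, _, _, f, hf⟩ := LC.exists_injective_embedding R M
  let q := (LinearMap.range f).mkQ
  have hex : Function.Exact f q := LinearMap.exact_map_mkQ_range f
  have hS : (ShortComplex.mk (ModuleCat.ofHom f) (ModuleCat.ofHom q)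
      (ModuleCat.hom_ext (LinearMap.range_mkQ_comp f))).ShortExact :=
    { exact := (ShortComplex.ShortExact.moduleCat_exact_iff_function_exact _).2 hex
      mono_f := (ModuleCat.mono_iff_injective _).2 hf
      epi_g := (ModuleCat.epi_iff_surjective _).2 (Submodule.mkQ_surjective _) }
  have hli : LocInj g f := LocInj.of_injective hf
  let T : Submodule R J := (DRing.torsionSub I (J ⧸ LinearMap.range f)).comap q
  have hmem : ∀ j : T, aug g (j : J) ∈ LinearMap.range (m0 g f) := fun j => by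
    obtain ⟨k, hk⟩ := (j.2 : q j ∈ DRing.torsionSub I (J ⧸ LinearMap.range f))
    refine m0_exact g hex ?_
    rw [m0_aug]
    funext i
    exact mkL_eq_zero.2 ⟨k, hk _ (Ideal.pow_mem_pow (hI ▸ Ideal.subset_span (Set.mem_range_self i)) k)⟩
  obtain ⟨Φ, hΦ⟩ := exists_lift (m0 g f) hli.m0 (aug g ∘ₗ T.subtype) hmem
  have hΦs : ∀ j, Φ j ∈ sec g M := fun j => hli.m1 (by rw [← d0_m0, hΦ, map_zero]; exact d0_aug g _)
  let φ : T →ₗ[R] sec g M ⧸ LinearMap.range (augS g (M := M)) :=
    Submodule.mkQ _ ∘ₗ Φ.codRestrict _ hΦs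
  let ψ : T →ₗ[R] (localCohomology I 1).obj (ModuleCat.of R M) :=
    LC.coker₁ I hS ∘ₗ q.restrict (fun j hj => hj)
  have hsurj : LinearMap.range φ = ⊤ := LinearMap.range_eq_top.2 fun z => by
    obtain ⟨⟨x, hx⟩, rfl⟩ := Submodule.Quotient.mk_surjective _ z
    obtain ⟨j, hj⟩ := augS_surjective_of_injective g (secMap g f ⟨x, hx⟩)
    have hj' : aug g j = m0 g f x := congrArg Subtype.val hj
    have h0 : aug g (q j) = 0 := by
      rw [← m0_aug, hj', m0_comp, LinearMap.range_mkQ_comp, map_zero, LinearMap.zero_apply]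
    choose n hn using fun i => mkL_eq_zero.1 (congrFun h0 i)
    obtain ⟨k, hk⟩ := Ideal.exists_pow_le_of_le_radical_of_fg (I := I)
      (J := Ideal.span (Set.range fun i => g i ^ Finset.univ.sup n)) (by
        rw [hI, Ideal.span_le]
        rintro _ ⟨i, rfl⟩
        exact ⟨_, Ideal.subset_span (Set.mem_range_self i)⟩) (IsNoetherian.noetherian I)
    have hjT : j ∈ T := ⟨k, fun r hr => by
      refine Submodule.span_induction ?_ ?_ ?_ ?_ (hk hr)
      · rintro _ ⟨i, rfl⟩
        obtain ⟨e, he⟩ := Nat.exists_eq_add_of_le' (Finset.le_sup (f := n) (Finset.mem_univ i))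
        show g i ^ Finset.univ.sup n • q j = 0
        rw [he, pow_add, mul_smul, hn i, smul_zero]
      · exact zero_smul R _
      · intro u v _ _ hu hv; rw [add_smul, hu, hv, add_zero]
      · intro s u _ hu; rw [smul_eq_mul, mul_smul, hu, smul_zero]⟩
    refine ⟨⟨j, hjT⟩, congrArg (Submodule.mkQ _) (Subtype.ext (hli.m0 ?_))⟩
    show m0 g f (Φ ⟨j, hjT⟩) = m0 g f x
    rw [hΦ]
    exact hj'
  haveI := h1
  haveI := finite_range_of_ker_le φ ψ fun j hj => by
    rw [LinearMap.mem_ker] at hj ⊢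
    obtain ⟨z, ⟨n, hz⟩, hqz⟩ := (LC.coker₁_eq_zero_iff I hS _).1 hj
    obtain ⟨m, hm⟩ := (hex ((j : J) - z)).1 (by rw [map_sub, sub_eq_zero]; exact hqz.symm)
    refine (Submodule.Quotient.mk_eq_zero _).2 ⟨m, Subtype.ext (hli.m0 ?_)⟩
    show m0 g f (aug g m) = m0 g f (Φ j)
    rw [hΦ, m0_aug, hm, map_sub]
    have hz0 : aug g z = 0 := funext fun i =>
      mkL_eq_zero.2 ⟨n, hz _ (Ideal.pow_mem_pow (hI ▸ Ideal.subset_span (Set.mem_range_self i)) n)⟩
    rw [hz0, sub_zero]
    rfl
  exact Module.Finite.of_surjective (LinearMap.range φ).subtype fun z =>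
    ⟨⟨z, hsurj ▸ Submodule.mem_top⟩, rfl⟩

omit hI in
theorem finite_ker_H1map {φ₀ : M →ₗ[R] M'} {q : M' →ₗ[R] M''} (hex : Function.Exact φ₀ q)
    (hq : Function.Surjective q) (hli : LocInj g φ₀)
    [Module.Finite R (sec g M'' ⧸ LinearMap.range (augS g (M := M'')))] :
    Module.Finite R (LinearMap.ker (H1map g φ₀)) := by
  let S : Submodule R (C0 g M') := (LinearMap.range (m1 g φ₀)).comap (d0 g)
  obtain ⟨Φ, hΦ⟩ := exists_lift (m1 g φ₀) hli.m1 (d0 g ∘ₗ S.subtype) fun y => y.2
  have hΦk : ∀ y, Φ y ∈ LinearMap.ker (d1 g (M := M)) := fun y => LinearMap.mem_ker.2 (hli.m2 (by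
    rw [← d1_m1, hΦ, map_zero]; exact d1_d0 g _))
  let φ : S →ₗ[R] H1c g M := Submodule.mkQ _ ∘ₗ Φ.codRestrict _ hΦk
  have hqs : ∀ y : S, m0 g q (y : C0 g M') ∈ sec g M'' := fun y => by
    rw [LinearMap.mem_ker, d0_m0]
    obtain ⟨x, hx⟩ := y.2
    rw [← hx, m1_comp, hex.linearMap_comp_eq_zero, map_zero, LinearMap.zero_apply]
  let ψ : S →ₗ[R] sec g M'' ⧸ LinearMap.range (augS g (M := M'')) :=
    Submodule.mkQ _ ∘ₗ (m0 g q ∘ₗ S.subtype).codRestrict _ hqs
  have hrange : LinearMap.ker (H1map g φ₀) ≤ LinearMap.range φ := by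
    intro z hz
    obtain ⟨⟨x, hx⟩, rfl⟩ := Submodule.Quotient.mk_surjective _ z
    obtain ⟨y, hy⟩ := (Submodule.Quotient.mk_eq_zero _).1 (LinearMap.mem_ker.1 hz)
    refine ⟨⟨y, x, hy.symm⟩, congrArg (Submodule.mkQ _) (Subtype.ext (hli.m1 ?_))⟩
    exact (hΦ _).trans hy
  haveI := finite_range_of_ker_le φ ψ fun y hy => by
    rw [LinearMap.mem_ker] at hy ⊢
    obtain ⟨c, hc⟩ := (Submodule.Quotient.mk_eq_zero _).1 hy
    obtain ⟨j, rfl⟩ := hq c
    obtain ⟨z, hz⟩ := m0_exact g hex (y := (y : C0 g M') - aug g j) (by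
      rw [map_sub, m0_aug, sub_eq_zero]; exact (congrArg Subtype.val hc).symm)
    refine (Submodule.Quotient.mk_eq_zero _).2 ⟨z, hli.m1 ?_⟩
    rw [← d0_m0, hz, map_sub, d0_aug, sub_zero]
    exact (hΦ y).symm
  exact Module.Finite.of_injective (Submodule.inclusion hrange) (Submodule.inclusion_injective _)

theorem finite_H1c (h2 : Module.Finite R ((localCohomology I 2).obj (ModuleCat.of R M))) :
    Module.Finite R (H1c g M) := by
  obtain ⟨J, _, _, _, f, hf⟩ := LC.exists_injective_embedding R M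
  haveI : Injective (ModuleCat.of R J) := Module.injective_object_of_injective_module R J
  let q := (LinearMap.range f).mkQ
  have hS : (ShortComplex.mk (ModuleCat.ofHom f) (ModuleCat.ofHom q)
      (ModuleCat.hom_ext (LinearMap.range_mkQ_comp f))).ShortExact :=
    { exact := (ShortComplex.ShortExact.moduleCat_exact_iff_function_exact _).2
        (LinearMap.exact_map_mkQ_range f)
      mono_f := (ModuleCat.mono_iff_injective _).2 hf
      epi_g := (ModuleCat.epi_iff_surjective _).2 (Submodule.mkQ_surjective _) }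
  haveI := h2
  haveI := finite_sec_quot g I hI (Module.Finite.equiv (LC.shiftEquiv I hS
    (fun i => LC.subsingleton_of_injective I (ModuleCat.of R J) i) 0).symm)
  haveI := finite_ker_H1map g (LinearMap.exact_map_mkQ_range f) (Submodule.mkQ_surjective _)
    (LocInj.of_injective hf)
  haveI := H1c_subsingleton_of_injective g I hI (M := J)
  exact Module.Finite.of_surjective (LinearMap.ker (H1map g f)).subtype fun z =>
    ⟨⟨z, Subsingleton.elim _ _⟩, rfl⟩

end Noeth

section Pi

variable [IsNoetherianRing R] (ι : Type u) [Fintype ι] [DecidableEq ι]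

theorem finite_sec_pi [Module.Finite R (sec g M)] : Module.Finite R (sec g (ι → M)) := by
  refine Module.Finite.of_injective (LinearMap.pi fun p => secMap g (LinearMap.proj (φ := fun _ : ι => M) p))
    fun x y e => Subtype.ext ?_
  have hid : (LinearMap.id : (ι → M) →ₗ[R] ι → M) =
      ∑ p, LinearMap.single R (fun _ : ι => M) p ∘ₗ LinearMap.proj p := by
    ext x q; simp
  have : ∀ z : C0 g (ι → M), z =
      ∑ p, m0 g (LinearMap.single R (fun _ : ι => M) p) (m0 g (LinearMap.proj p) z) := fun z => by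
    conv_lhs => rw [← LinearMap.id_apply (R := R) z, ← m0_id, hid, map_sum, LinearMap.sum_apply]
    exact Finset.sum_congr rfl fun p _ => (m0_comp g _ _ z).symm
  rw [this x, this y]
  exact Finset.sum_congr rfl fun p _ => congrArg _ (congrArg Subtype.val (congrFun e p))

theorem finite_H1c_pi [Module.Finite R (H1c g M)] : Module.Finite R (H1c g (ι → M)) := by
  refine Module.Finite.of_injective (N := ι → H1c g M)
    (LinearMap.pi (φ := fun _ : ι => H1c g M) fun p => H1map g (LinearMap.proj (φ := fun _ : ι => M) p))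
    ((injective_iff_map_eq_zero _).2 fun z hz => ?_)
  obtain ⟨⟨x, hx⟩, rfl⟩ := Submodule.Quotient.mk_surjective _ z
  choose c hc using fun p => (Submodule.Quotient.mk_eq_zero _).1 (congrFun hz p)
  have hid : (LinearMap.id : (ι → M) →ₗ[R] ι → M) =
      ∑ p, LinearMap.single R (fun _ : ι => M) p ∘ₗ LinearMap.proj p := by
    ext x q; simp
  refine (Submodule.Quotient.mk_eq_zero _).2
    ⟨∑ p, m0 g (LinearMap.single R (fun _ : ι => M) p) (c p), ?_⟩
  show d0 g _ = x
  conv_rhs => rw [← LinearMap.id_apply (R := R) x, ← m1_id, hid, map_sum, LinearMap.sum_apply]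
  rw [map_sum]
  refine Finset.sum_congr rfl fun p _ => ?_
  rw [d0_m0, hc p, ← m1_comp]
  rfl

end Pi

/-- Finiteness of sections and of the first cohomology for a module which is, up to a power of each
`g i`, a direct summand of a power of `M₀`. -/
theorem finite_cech [IsNoetherianRing R] (I : Ideal R) (hI : I = Ideal.span (Set.range g))
    (M₀ : Type u) [AddCommGroup M₀] [Module R M₀] [Module.Finite R M₀]
    (h1 : Module.Finite R ((localCohomology I 1).obj (ModuleCat.of R M₀)))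
    (h2 : Module.Finite R ((localCohomology I 2).obj (ModuleCat.of R M₀)))
    (C : Type u) [AddCommGroup C] [Module R C]
    (hret : ∀ i, ∃ (d k : ℕ) (s : C →ₗ[R] Fin d → M₀) (π : (Fin d → M₀) →ₗ[R] C),
      ∀ x, π (s x) = g i ^ k • x) :
    Module.Finite R (sec g C) ∧ Module.Finite R (H1c g C) := by
  classical
  choose d k s π hπ using hret
  haveI := finite_sec_quot g I hI h1
  haveI : Module.Finite R (sec g M₀) :=
    Module.Finite.of_submodule_quotient (LinearMap.range (augS g (M := M₀)))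
  haveI := finite_H1c g I hI h2
  let ι : Type u := ULift.{u} (Σ i, Fin (d i))
  let F := ι → M₀
  haveI : Module.Finite R (sec g F) := finite_sec_pi g ι
  haveI : Module.Finite R (H1c g F) := finite_H1c_pi g ι
  let S : C →ₗ[R] F := LinearMap.pi fun p => LinearMap.proj p.down.2 ∘ₗ s p.down.1
  let pr : ∀ i, F →ₗ[R] Fin (d i) → M₀ := fun i =>
    LinearMap.pi fun t => LinearMap.proj (ULift.up ⟨i, t⟩)
  have hpr : ∀ i x, pr i (S x) = s i x := fun i x => rfl
  have hli : LocInj g S := fun i x hx => ⟨k i, by rw [← hπ, ← hpr, hx, map_zero, map_zero]⟩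
  let q := (LinearMap.range S).mkQ
  let P : (F ⧸ LinearMap.range S) →ₗ[R] ULift.{u} (Fin l) → F := (LinearMap.range S).liftQ
    (LinearMap.pi fun i => g i.down ^ k i.down • LinearMap.id - S ∘ₗ π i.down ∘ₗ pr i.down) (by
      rintro _ ⟨x, rfl⟩
      funext i
      show g i.down ^ k i.down • S x - S (π i.down (pr i.down (S x))) = 0
      rw [hpr, hπ, map_smul, sub_self])
  have hP : LocInj g P := by
    intro i z hz
    obtain ⟨v, rfl⟩ := Submodule.Quotient.mk_surjective _ z
    refine ⟨k i, ?_⟩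
    rw [← Submodule.Quotient.mk_smul, Submodule.Quotient.mk_eq_zero]
    exact ⟨π i (pr i v), (sub_eq_zero.1 (congrFun hz (ULift.up i))).symm⟩
  haveI : Module.Finite R (sec g (ULift.{u} (Fin l) → F)) := finite_sec_pi g _
  haveI : Module.Finite R (sec g (F ⧸ LinearMap.range S)) :=
    Module.Finite.of_injective (secMap g P) fun x y e => Subtype.ext (hP.m0 (congrArg Subtype.val e))
  haveI := finite_ker_H1map g (LinearMap.exact_map_mkQ_range S) (Submodule.mkQ_surjective _) hli
  refine ⟨Module.Finite.of_injective (secMap g S) fun x y e => Subtype.ext (hli.m0 (congrArg Subtype.val e)), ?_⟩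
  haveI : Module.Finite R (H1c g C ⧸ LinearMap.ker (H1map g S)) :=
    Module.Finite.equiv (H1map g S).quotKerEquivRange.symm
  exact Module.Finite.of_submodule_quotient (LinearMap.ker (H1map g S))

end Groth.Agent.P1Lef
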