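import Groth.Agent.P1Lef.EssSurj
import Groth.Agent.CILib.Basic
import Groth.Agent.RegLoc6.Open
import Groth.Agent.RegLoc6.Seq
import Groth.Agent.Goldman.Basic
import Groth.Agent.FormCat.Equidim
import Groth.Agent.LC.DepthExt
import Groth.Agent.Alg6.LocLoc
import Groth.Agent.NeronMdl58.QFFlat
import Groth.Agent.S0262
import Groth.Agent.S0564
import Groth.Agent.S0546
import Mathlib.RingTheory.KrullDimension.Regular
import Mathlib.RingTheory.Regular.Flat

/-!
Purity for complete intersection local rings of dimension at least three.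
-/

universe u

open CategoryTheory CategoryTheory.Limits AlgebraicGeometry IsLocalRing RingTheory.Sequence

set_option linter.style.haveILetI false
set_option backward.isDefEq.respectTransparency false
set_option backward.isDefEq.respectTransparency.types false

noncomputable section

namespace Groth.Agent.P1Lef

/-- Purity descends from the completion. -/
theorem purity_of_completion (A : Type u) [CommRing A] [IsNoetherianRing A] [IsLocalRing A]
    (h : FEt.PurityHolds (AdicCompletion (maximalIdeal A) A)) : FEt.PurityHolds A := by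
  refine ⟨fun V => ?_⟩
  let Ah := AdicCompletion (maximalIdeal A) A
  have hm : (maximalIdeal A).map (algebraMap A Ah) = maximalIdeal Ah :=
    (AdicCompletion.maximalIdeal_eq_map_of_fg (IsNoetherian.noetherian _)).symm
  haveI : IsNoetherianRing Ah := LC.Canon.isNoetherianRing_completion
  let p₁ := pullback.fst (FEt.puncturedSpec A).ι (Pi1Ext.PuritySch.sp A Ah)
  let p₂ := pullback.snd (FEt.puncturedSpec A).ι (Pi1Ext.PuritySch.sp A Ah)
  let θ := IsOpenImmersion.lift (FEt.puncturedSpec Ah).ι p₂
    (by rw [Scheme.Opens.range_ι]; exact (P1Glue.range_punc Ah hm).le)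
  have hθ : θ ≫ (FEt.puncturedSpec Ah).ι = p₂ := IsOpenImmersion.lift_fac _ _ _
  haveI : IsOpenImmersion θ := by
    haveI : IsOpenImmersion (θ ≫ (FEt.puncturedSpec Ah).ι) := by rw [hθ]; infer_instance
    exact IsOpenImmersion.of_comp θ (FEt.puncturedSpec Ah).ι
  haveI : Surjective θ := by
    refine ⟨fun y => ?_⟩
    have hy : (FEt.puncturedSpec Ah).ι.base y ∈ Set.range p₂.base := (P1Glue.range_punc Ah hm).ge y.2
    obtain ⟨x, hx⟩ := hy
    refine ⟨x, (FEt.puncturedSpec Ah).ι.isOpenEmbedding.injective ?_⟩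
    rw [← Scheme.Hom.comp_apply, hθ]
    exact hx
  haveI : IsIso θ := (isIso_iff_isOpenImmersion_and_surjective θ).2 ⟨inferInstance, inferInstance⟩
  haveI : (FEt.restrict (FEt.puncturedSpec Ah).ι).EssSurj := h
  let V' := (FEt.restrict (inv θ)).obj ((FEt.restrict p₁).obj V)
  obtain ⟨Y, hY⟩ := (S0262.result A V).2 ⟨(FEt.restrict (FEt.puncturedSpec Ah).ι).objPreimage V',
    ⟨Pi1Ext.Spread.restrictComp θ (FEt.puncturedSpec Ah).ι p₂ hθ.symm _ ≪≫
      (FEt.restrict θ).mapIso ((FEt.restrict (FEt.puncturedSpec Ah).ι).objObjPreimageIso V') ≪≫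
      (Pi1Ext.Spread.restrictComp θ (inv θ) (𝟙 _) (IsIso.hom_inv_id θ).symm _).symm ≪≫
      Pi1Ext.Spread.restrictId _⟩⟩
  exact ⟨Y, hY⟩

theorem idealDepth_quotient_list {R : Type u} [CommRing R] [IsNoetherianRing R] (I : Ideal R) :
    ∀ (rs : List R) (M : Type u) [AddCommGroup M] [Module R M] [Module.Finite R M],
      (∀ r ∈ rs, r ∈ I) → IsWeaklyRegular M rs →
      LocCoh.idealDepth I (M ⧸ (Ideal.ofList rs • ⊤ : Submodule R M)) + rs.length =
        LocCoh.idealDepth I M := by
  intro rs
  induction rs with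
  | nil =>
    intro M _ _ _ _ _
    rw [List.length_nil, Nat.cast_zero, add_zero]
    exact LC.idealDepth_congr I (Submodule.quotEquivOfEqBot _ (by rw [Ideal.ofList_nil, Submodule.bot_smul]))
  | cons r rs ih =>
    intro M _ _ _ hmem hreg
    simp only [List.mem_cons, forall_eq_or_imp] at hmem
    rw [isWeaklyRegular_cons_iff] at hreg
    rw [LC.idealDepth_congr I (Submodule.quotOfListConsSMulTopEquivQuotSMulTopInner M r rs), List.length_cons,
      Nat.cast_succ, ← add_assoc, ih _ hmem.2 hreg.2, LC.idealDepth_quotSMulTop_add_one I hmem.1 hreg.1]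

theorem three_le_depth_quotient {R : Type u} [CommRing R] [IsRegularLocalRing R] (rs : List R)
    (hmem : ∀ r ∈ rs, r ∈ maximalIdeal R) (hreg : IsWeaklyRegular R rs)
    (hd : (3 : WithBot ℕ∞) ≤ ringKrullDim (R ⧸ Ideal.ofList rs)) :
    (3 : ℕ∞) ≤ LocCoh.depth R (R ⧸ Ideal.ofList rs) := by
  haveI := NeronMdl58.isCohenMacaulayLocalRing_of_regular R
  have h1 : ((LocCoh.depth R R : ℕ∞) : WithBot ℕ∞) = ringKrullDim R := by
    rw [← (LocCoh.IsCohenMacaulayLocalRing.supportDim_eq_depth (R := R)), Module.supportDim_self_eq_ringKrullDim]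
  have h2 := ringKrullDim_add_length_eq_ringKrullDim_of_isRegular rs (RegLoc6.isRegular_iff_weakly rs hmem hreg)
  have h3 := idealDepth_quotient_list (maximalIdeal R) rs R hmem hreg
  rw [LC.idealDepth_congr (maximalIdeal R) (Submodule.quotEquivOfEq _ (Ideal.ofList rs)
    (by rw [Ideal.smul_eq_mul, Ideal.mul_top]))] at h3
  change LocCoh.depth R (R ⧸ Ideal.ofList rs) + _ = LocCoh.depth R R at h3
  rw [← h3, WithBot.coe_add] at h1
  rw [← h2] at h1
  by_contra hlt
  rw [not_le] at hlt
  obtain ⟨n, hn⟩ := ENat.ne_top_iff_exists.1 hlt.ne_top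
  rw [← hn] at h1 hlt
  replace hlt : n < 3 := by exact_mod_cast hlt
  cases hq : ringKrullDim (R ⧸ Ideal.ofList rs) with
  | bot => rw [hq] at hd; exact absurd hd (not_le.2 (WithBot.bot_lt_coe _))
  | coe d =>
    rw [hq] at h1 hd
    replace hd : (3 : ℕ∞) ≤ d := WithBot.coe_le_coe.1 hd
    induction d using ENat.recTopCoe with
    | top =>
      change ((n : ℕ∞) : WithBot ℕ∞) + ((rs.length : ℕ∞) : WithBot ℕ∞) = ((⊤ : ℕ∞) : WithBot ℕ∞) + ((rs.length : ℕ∞) : WithBot ℕ∞) at h1
      rw [← WithBot.coe_add, ← WithBot.coe_add, WithBot.coe_inj, top_add] at h1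
      exact absurd h1 (by simp [← Nat.cast_add])
    | coe d =>
      change ((n : ℕ∞) : WithBot ℕ∞) + ((rs.length : ℕ∞) : WithBot ℕ∞) = ((d : ℕ∞) : WithBot ℕ∞) + ((rs.length : ℕ∞) : WithBot ℕ∞) at h1
      rw [← WithBot.coe_add, ← WithBot.coe_add, WithBot.coe_inj] at h1
      have hd' : 3 ≤ d := by exact_mod_cast hd
      have h1' : n + rs.length = d + rs.length := by exact_mod_cast h1
      omega

/-- In a complete intersection of dimension at least four, the closed points of the complement of
`V(f)` have height at least three. -/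
theorem three_le_height_of_maximal_away {R : Type u} [CommRing R] [IsRegularLocalRing R] {rs : List R}
    [IsLocalRing (R ⧸ Ideal.ofList rs)] (hmem : ∀ r ∈ rs, r ∈ maximalIdeal R) (hreg : IsWeaklyRegular R rs)
    (f : R ⧸ Ideal.ofList rs) (_ : f ∈ maximalIdeal (R ⧸ Ideal.ofList rs))
    (P : Ideal (Localization.Away f)) [P.IsMaximal]
    (hd : (4 : WithBot ℕ∞) ≤ ringKrullDim (R ⧸ Ideal.ofList rs)) :
    (3 : WithBot ℕ∞) ≤ ((P.under (R ⧸ Ideal.ofList rs)).height : WithBot ℕ∞) := by
  let I' := Ideal.ofList rs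
  let A := R ⧸ I'
  let q := P.under A
  haveI : q.IsPrime := inferInstance
  have hdq := ((IsLocalization.isPrime_iff_isPrime_disjoint (Submonoid.powers f) (Localization.Away f) P).1
    (Ideal.IsMaximal.isPrime inferInstance)).2
  have hfq : f ∉ q := fun hh => Set.disjoint_left.1 hdq (Submonoid.mem_powers f) hh
  haveI : IsDomain (A ⧸ q) := inferInstance
  have hall : Goldman.InAll (Ideal.Quotient.mk q f) := fun Q hQ hQ0 => by
    by_contra hn
    let q' := Q.comap (Ideal.Quotient.mk q)
    have hd' : Disjoint (Submonoid.powers f : Set A) (q' : Set A) :=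
      Set.disjoint_left.2 fun y ⟨n, hn'⟩ hy => hn (Ideal.mem_comap.1 ((Ideal.comap_isPrime _ Q).mem_of_pow_mem n
        (show f ^ n ∈ q' by subst hn'; exact hy)))
    have hqq' : q ≤ q' := fun x hx => by
      rw [Ideal.mem_comap, show Ideal.Quotient.mk q x = 0 from Ideal.Quotient.eq_zero_iff_mem.2 hx]
      exact zero_mem _
    have hp' := IsLocalization.isPrime_of_isPrime_disjoint (Submonoid.powers f) (Localization.Away f) q'
      (Ideal.comap_isPrime _ Q) hd'
    have hPle : P ≤ q'.map (algebraMap A (Localization.Away f)) := by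
      rw [← IsLocalization.map_under (Submonoid.powers f) (Localization.Away f) P]
      exact Ideal.map_mono hqq'
    have heq := Ideal.IsMaximal.eq_of_le (I := P) inferInstance hp'.ne_top hPle
    have : q = q' := by
      show P.under A = q'
      rw [heq, IsLocalization.under_map_of_isPrime_disjoint _ _ (Ideal.comap_isPrime _ Q) hd']
    refine hQ0 (eq_bot_iff.2 fun z hz => ?_)
    obtain ⟨z, rfl⟩ := Ideal.Quotient.mk_surjective z
    rw [Ideal.mem_bot, Ideal.Quotient.eq_zero_iff_mem, this]
    exact hz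
  have hdim1 : ringKrullDim (A ⧸ q) ≤ 1 := Goldman.dim_le_one_iff.2 fun Q hQ hQ0 =>
    ((Goldman.structure_of_inAll (fun h0 => hfq (Ideal.Quotient.eq_zero_iff_mem.1 h0)) hall).1 Q hQ hQ0).2
  let Q := q.comap (Ideal.Quotient.mk I')
  have hIQ : I' ≤ Q := fun x hx => by
    rw [Ideal.mem_comap, Ideal.Quotient.eq_zero_iff_mem.2 hx]; exact zero_mem _
  have eQ : ringKrullDim (R ⧸ Q) = ringKrullDim (A ⧸ q) := by
    refine ringKrullDim_eq_of_ringEquiv ((Ideal.quotEquivOfEq ?_).trans
      (RingHom.quotientKerEquivOfSurjective (f := (Ideal.Quotient.mk q).comp (Ideal.Quotient.mk I'))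
        (Ideal.Quotient.mk_surjective.comp Ideal.Quotient.mk_surjective)))
    ext x
    rw [RingHom.mem_ker, RingHom.comp_apply, Ideal.Quotient.eq_zero_iff_mem, Ideal.mem_comap]
  let RQ := Localization.AtPrime Q
  haveI : IsRegularLocalRing RQ := S0564.result R Q
  have hmQ : ∀ r ∈ rs.map (algebraMap R RQ), r ∈ maximalIdeal RQ := fun r hr => by
    obtain ⟨a, ha, rfl⟩ := List.mem_map.1 hr
    exact (IsLocalization.AtPrime.to_map_mem_maximal_iff RQ Q a).2 (hIQ (Ideal.subset_span ha))
  obtain ⟨ψ₀⟩ := RegLoc6.exists_quotLocalEquiv I' Q q rfl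
  let ψ : RQ ⧸ Ideal.ofList (rs.map (algebraMap R RQ)) ≃+* Localization.AtPrime q :=
    (Ideal.quotEquivOfEq (Ideal.map_ofList (algebraMap R RQ) rs).symm).trans ψ₀
  have h1 := ringKrullDim_add_length_eq_ringKrullDim_of_isRegular _
    (RegLoc6.isRegular_iff_weakly _ hmQ hreg.of_flat)
  rw [ringKrullDim_eq_of_ringEquiv ψ, IsLocalization.AtPrime.ringKrullDim_eq_height q,
    IsLocalization.AtPrime.ringKrullDim_eq_height Q, List.length_map] at h1
  have h2 := ringKrullDim_add_length_eq_ringKrullDim_of_isRegular rs (RegLoc6.isRegular_iff_weakly rs hmem hreg)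
  have h3 := FormCat.height_add_ringKrullDim_quotient_regular R Q
  rw [← h1, ← h2, eQ] at h3
  by_contra hlt
  rw [not_le] at hlt
  have hfin : (P.under A).height < (3 : ℕ∞) := WithBot.coe_lt_coe.1 hlt
  obtain ⟨n, hn⟩ := ENat.ne_top_iff_exists.1 hfin.ne_top
  rw [← hn] at hfin
  replace hfin : n < 3 := by exact_mod_cast hfin
  have hle : ringKrullDim (R ⧸ Ideal.ofList rs) + (rs.length : WithBot ℕ∞) ≤
      ((n + rs.length + 1 : ℕ) : WithBot ℕ∞) := by
    rw [← h3 Ideal.IsPrime.ne_top', ← hn]
    push_cast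
    exact (add_comm _ _).trans_le (add_le_add le_rfl hdim1)
  have h4 : ((4 + rs.length : ℕ) : WithBot ℕ∞) ≤ ((n + rs.length + 1 : ℕ) : WithBot ℕ∞) := by
    refine le_trans ?_ hle
    push_cast
    exact add_le_add hd le_rfl
  have : 4 + rs.length ≤ n + rs.length + 1 := by exact_mod_cast h4
  omega

/-- Purity for a quotient of a regular local ring by a regular sequence. -/
theorem purity_regular_quotient : ∀ (k : ℕ) (R : Type u) [CommRing R] [IsRegularLocalRing R] (rs : List R)
    [IsLocalRing (R ⧸ Ideal.ofList rs)],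
    rs.length = k → (∀ r ∈ rs, r ∈ maximalIdeal R) → IsWeaklyRegular R rs →
    (3 : WithBot ℕ∞) ≤ ringKrullDim (R ⧸ Ideal.ofList rs) → FEt.PurityHolds (R ⧸ Ideal.ofList rs) := by
  intro k
  induction k with
  | zero =>
    intro R _ _ rs _ hlen hmem hreg hd
    obtain rfl := List.length_eq_zero_iff.1 hlen
    let e : R ≃+* R ⧸ Ideal.ofList ([] : List R) :=
      ((RingEquiv.quotientBot R).symm.trans (Ideal.quotEquivOfEq Ideal.ofList_nil.symm))
    refine purityHolds_of_iso e.toCommRingCatIso (Pi1Ext.PuritySch.purityHolds_of_regular R ?_)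
    rw [ringKrullDim_eq_of_ringEquiv e]
    exact le_trans (by norm_num) hd
  | succ k ih =>
    -- it suffices to treat complete rings
    suffices key : ∀ (R : Type u) [CommRing R] [IsRegularLocalRing R] [IsAdicComplete (maximalIdeal R) R]
        (rs : List R) [IsLocalRing (R ⧸ Ideal.ofList rs)], rs.length = k + 1 →
        (∀ r ∈ rs, r ∈ maximalIdeal R) → IsWeaklyRegular R rs →
        (3 : WithBot ℕ∞) ≤ ringKrullDim (R ⧸ Ideal.ofList rs) → FEt.PurityHolds (R ⧸ Ideal.ofList rs) by
      intro R _ _ rs _ hlen hmem hreg hd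
      let C := R ⧸ Ideal.ofList rs
      let π : R →+* C := Ideal.Quotient.mk _
      obtain ⟨τ, hτ, hker⟩ := CILib.exists_completion_surjection π Ideal.Quotient.mk_surjective
      let Rh := AdicCompletion (maximalIdeal R) R
      let Ch := AdicCompletion (maximalIdeal C) C
      haveI := CILib.isRegularLocalRing_adicCompletion R
      haveI := CILib.isAdicComplete_adicCompletion R
      haveI : Module.FaithfullyFlat R Rh := LC.Canon.faithfullyFlat_completion
      let rs' := rs.map (algebraMap R Rh)
      have hk : RingHom.ker τ = Ideal.ofList rs' := by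
        rw [hker, Ideal.mk_ker, Ideal.map_ofList]
      let e : Rh ⧸ Ideal.ofList rs' ≃+* Ch :=
        (Ideal.quotEquivOfEq hk.symm).trans (RingHom.quotientKerEquivOfSurjective hτ)
      haveI : IsLocalRing (Rh ⧸ Ideal.ofList rs') := e.symm.isLocalRing
      refine purity_of_completion C (purityHolds_of_iso e.toCommRingCatIso
        (key Rh rs' (by rw [List.length_map]; exact hlen) ?_ hreg.of_flat ?_))
      · intro r hr
        obtain ⟨a, ha, rfl⟩ := List.mem_map.1 hr
        rw [AdicCompletion.maximalIdeal_eq_map (R := R)]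
        exact Ideal.mem_map_of_mem _ (hmem a ha)
      · rw [ringKrullDim_eq_of_ringEquiv e, CILib.ringKrullDim_adicCompletion]
        exact hd
    intro R _ _ _ rs _ hlen hmem hreg hd
    obtain ⟨rs', g, rfl⟩ : ∃ rs' g, rs = rs' ++ [g] := by
      rcases List.eq_nil_or_concat rs with rfl | ⟨rs', g, rfl⟩
      · simp at hlen
      · exact ⟨rs', g, by simp⟩
    have hlen' : rs'.length = k := by simpa using hlen
    have hmem' : ∀ r ∈ rs', r ∈ maximalIdeal R := fun r hr => hmem r (List.mem_append_left _ hr)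
    have hg : g ∈ maximalIdeal R := hmem g (by simp)
    rw [isWeaklyRegular_append_iff, isWeaklyRegular_singleton_iff] at hreg
    let I' := Ideal.ofList rs'
    let A := R ⧸ I'
    have hI' : I' ≤ maximalIdeal R := Ideal.span_le.2 hmem'
    haveI : Nontrivial A := Ideal.Quotient.nontrivial_iff.2
      fun h => (maximalIdeal.isMaximal R).ne_top (top_le_iff.1 (h ▸ hI'))
    haveI : IsLocalRing A := IsLocalRing.of_surjective' (Ideal.Quotient.mk I') Ideal.Quotient.mk_surjective
    haveI := CILib.isAdicComplete_quotient I'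
    let f : A := Ideal.Quotient.mk I' g
    have hf : f ∈ maximalIdeal A := by
      rw [← IsLocalRing.map_maximalIdeal_of_surjective (Ideal.Quotient.mk I') Ideal.Quotient.mk_surjective]
      exact Ideal.mem_map_of_mem _ hg
    haveI : IsAdicComplete (Ideal.span {f}) A :=
      S0546.result A _ (maximalIdeal A) ((Ideal.span_singleton_le_iff_mem _).2 hf) (Submodule.fg_span_singleton f) A
    have hsub : Ideal.ofList (rs' ++ [g]) = I' ⊔ Ideal.span {g} := by
      rw [Ideal.ofList_append, Ideal.ofList_singleton]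
    let e : (A ⧸ Ideal.span {f}) ≃+* R ⧸ Ideal.ofList (rs' ++ [g]) :=
      ((Ideal.quotEquivOfEq (by rw [Ideal.map_span, Set.image_singleton])).trans
        (DoubleQuot.quotQuotEquivQuotSup I' (Ideal.span {g}))).trans (Ideal.quotEquivOfEq hsub.symm)
    haveI : IsLocalRing (A ⧸ Ideal.span {f}) := e.symm.isLocalRing
    have hnz : f ∈ nonZeroDivisors A := by
      refine mem_nonZeroDivisors_iff_right.2 fun x hx => ?_
      obtain ⟨x, rfl⟩ := Ideal.Quotient.mk_surjective x
      rw [← map_mul, Ideal.Quotient.eq_zero_iff_mem, mul_comm] at hx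
      have := @hreg.2 (Submodule.Quotient.mk x) 0 (by
        show g • Submodule.Quotient.mk x = g • 0
        rw [smul_zero, ← Submodule.Quotient.mk_smul, Submodule.Quotient.mk_eq_zero]
        simp only [Ideal.smul_eq_mul, Ideal.mul_top, smul_eq_mul]
        exact hx)
      rw [Submodule.Quotient.mk_eq_zero, Ideal.smul_eq_mul, Ideal.mul_top] at this
      exact Ideal.Quotient.eq_zero_iff_mem.2 this
    have hdA : ringKrullDim (A ⧸ Ideal.span {f}) + 1 = ringKrullDim A :=
      ringKrullDim_quotient_span_singleton_succ_eq_ringKrullDim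
        (fun x y h => by
          have h' : f * (x - y) = 0 := by rw [mul_sub, sub_eq_zero]; exact h
          exact sub_eq_zero.1 ((mem_nonZeroDivisors_iff_right.1 hnz) _ (by rw [mul_comm]; exact h'))) hf
    have hdT : (3 : WithBot ℕ∞) ≤ ringKrullDim (A ⧸ Ideal.span {f}) := by
      rw [ringKrullDim_eq_of_ringEquiv e]; exact hd
    have hd4 : (4 : WithBot ℕ∞) ≤ ringKrullDim A := by
      rw [← hdA]; exact le_trans (by norm_num) (add_le_add hdT le_rfl)
    have hAp : FEt.PurityHolds A := ih R rs' hlen' hmem' hreg.1 (le_trans (by norm_num) hd4)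
    -- local cohomology of `A/fA` vanishes in degrees below three
    have hdep : ∀ i < 3, Subsingleton (LocCoh.H (maximalIdeal A) i (A ⧸ Ideal.span {f})) := by
      refine (LC.le_idealDepth_iff_H (maximalIdeal A) (A ⧸ Ideal.span {f}) 3).1 ?_
      show (3 : ℕ∞) ≤ LocCoh.depth A (A ⧸ Ideal.span {f})
      refine (three_le_depth_quotient (rs' ++ [g]) hmem
        ((isWeaklyRegular_append_iff R rs' [g]).2 ⟨hreg.1, (isWeaklyRegular_singleton_iff _ g).2 hreg.2⟩) hd).trans ?_
      refine (Alg6.depth_eq_of_semilinear (Ideal.Quotient.mk I') Ideal.Quotient.mk_surjective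
        e.symm.toAddEquiv fun r x => ?_).le
      obtain ⟨x, rfl⟩ := Ideal.Quotient.mk_surjective x
      show e.symm (Ideal.Quotient.mk _ (r * x)) = Ideal.Quotient.mk I' r • e.symm (Ideal.Quotient.mk _ x)
      rw [map_mul, map_mul]
      rfl
    have hfin : ∀ i < 3, Module.Finite A (LocCoh.H (maximalIdeal A) i (A ⧸ Ideal.span {f})) := fun i hi => by
      haveI := hdep i hi
      exact Module.Finite.of_surjective (0 : A →ₗ[A] _) fun x => ⟨0, Subsingleton.elim _ _⟩
    -- purity at the closed points of the complement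
    have hp : ∀ P : Ideal (Localization.Away f), ∀ _ : P.IsMaximal,
        FEt.PurityHolds (Localization.AtPrime P) := by
      intro P hP
      let q := P.under A
      have hdq := ((IsLocalization.isPrime_iff_isPrime_disjoint (Submonoid.powers f) (Localization.Away f) P).1
        hP.isPrime).2
      haveI : IsLocalization.AtPrime (Localization.AtPrime P) q :=
        IsLocalization.isLocalization_isLocalization_atPrime_isLocalization (.powers f) (Localization.AtPrime P) P
      let e₁ : Localization.AtPrime q ≃+* Localization.AtPrime P :=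
        (IsLocalization.algEquiv q.primeCompl (Localization.AtPrime q) (Localization.AtPrime P)).toRingEquiv
      let Q := q.comap (Ideal.Quotient.mk I')
      let RQ := Localization.AtPrime Q
      haveI : IsRegularLocalRing RQ := S0564.result R Q
      let rsQ := rs'.map (algebraMap R RQ)
      have hQI : ∀ r ∈ rs', r ∈ Q := fun r hr => by
        rw [Ideal.mem_comap, Ideal.Quotient.eq_zero_iff_mem.2 (show r ∈ I' from Ideal.subset_span hr)]
        exact zero_mem _
      obtain ⟨ψ₀⟩ := RegLoc6.exists_quotLocalEquiv I' Q q rfl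
      let ψ : RQ ⧸ Ideal.ofList rsQ ≃+* Localization.AtPrime q :=
        (Ideal.quotEquivOfEq (Ideal.map_ofList (algebraMap R RQ) rs').symm).trans ψ₀
      haveI : IsLocalRing (RQ ⧸ Ideal.ofList rsQ) := ψ.symm.isLocalRing
      refine purityHolds_of_iso e₁.toCommRingCatIso (purityHolds_of_iso ψ.toCommRingCatIso
        (ih RQ rsQ (by rw [List.length_map]; exact hlen') ?_ hreg.1.of_flat ?_))
      · intro r hr
        obtain ⟨a, ha, rfl⟩ := List.mem_map.1 hr
        exact (IsLocalization.AtPrime.to_map_mem_maximal_iff RQ Q a).2 (hQI a ha)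
      · rw [ringKrullDim_eq_of_ringEquiv ψ, IsLocalization.AtPrime.ringKrullDim_eq_height q]
        exact three_le_height_of_maximal_away hmem' hreg.1 f hf P hd4
    exact purityHolds_of_iso e.toCommRingCatIso
      (purity_quotient f hf hAp (exists_extension_punctured f hf hnz (hfin 1 (by norm_num)) (hfin 2 (by norm_num)) hp))

end Groth.Agent.P1Lef
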