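import Groth.Agent.P1Lef.Nbhd
import Groth.Agent.Pi1Ext.Spread
import Mathlib.AlgebraicGeometry.Restrict

/-!
Essential surjectivity of restriction to the punctured spectrum of a hypersurface, given purity at the
closed points of the complement, and descent of purity to the hypersurface.
-/

universe u

open CategoryTheory CategoryTheory.Limits AlgebraicGeometry IsLocalRing
open Groth.Agent.Pi1Ext.PuritySch

set_option linter.style.haveILetI false
set_option backward.isDefEq.respectTransparency false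
set_option backward.isDefEq.respectTransparency.types false

noncomputable section

namespace Groth.Agent.P1Lef

/-- Purity is invariant under isomorphisms. -/
theorem purityHolds_of_iso {R S : CommRingCat.{u}} [IsLocalRing R] [IsLocalRing S] (e : R ≅ S)
    (h : FEt.PurityHolds R) : FEt.PurityHolds S := by
  haveI : (FEt.restrict (FEt.puncturedSpec R).ι).EssSurj := h
  let s := Spec.map e.hom
  haveI : IsLocalHom e.hom.hom := by
    haveI : IsIso e.hom := inferInstance
    exact ⟨fun a ha => by
      have := ha.map e.inv.hom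
      rwa [e.hom_inv_id_apply] at this⟩
  have hcp : ∀ q : PrimeSpectrum S, s.base q = closedPoint R → q = closedPoint S := fun q hq => by
    refine PrimeSpectrum.ext ((IsLocalRing.maximalIdeal.isMaximal S).eq_of_le
      (Ideal.IsPrime.ne_top inferInstance) fun x hx => ?_).symm
    have h1 : e.inv.hom x ∈ maximalIdeal R := fun hu => hx (by
      have := hu.map e.hom.hom
      rwa [e.inv_hom_id_apply] at this)
    have h2 : e.inv.hom x ∈ (s.base q : PrimeSpectrum R).asIdeal := by rw [hq]; exact h1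
    have h3 : e.hom.hom (e.inv.hom x) ∈ q.asIdeal := h2
    rwa [e.inv_hom_id_apply] at h3
  have hr : Set.range ((FEt.puncturedSpec S).ι ≫ s).base ⊆ Set.range (FEt.puncturedSpec R).ι.base := by
    rw [Scheme.Opens.range_ι]
    rintro _ ⟨q, rfl⟩ hq
    exact q.2 (hcp _ hq)
  let κ := IsOpenImmersion.lift (FEt.puncturedSpec R).ι _ hr
  have hκ : κ ≫ (FEt.puncturedSpec R).ι = (FEt.puncturedSpec S).ι ≫ s := IsOpenImmersion.lift_fac _ _ _
  haveI : IsOpenImmersion κ := by
    haveI : IsOpenImmersion (κ ≫ (FEt.puncturedSpec R).ι) := by rw [hκ]; infer_instance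
    exact IsOpenImmersion.of_comp κ (FEt.puncturedSpec R).ι
  haveI : Surjective κ := by
    refine ⟨fun y => ?_⟩
    obtain ⟨q, hq⟩ := s.surjective ((FEt.puncturedSpec R).ι.base y)
    have hq' : q ≠ closedPoint S := by
      rintro rfl
      refine y.2 (hq.symm.trans ?_)
      exact PrimeSpectrum.ext (Ideal.ext fun x => by
        show e.hom.hom x ∈ maximalIdeal S ↔ x ∈ maximalIdeal R
        simp only [mem_maximalIdeal, mem_nonunits_iff]
        exact not_congr ⟨fun hu => isUnit_of_map_unit e.hom.hom x hu, fun hu => hu.map _⟩)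
    refine ⟨⟨q, hq'⟩, (FEt.puncturedSpec R).ι.isOpenEmbedding.injective ?_⟩
    rw [← Scheme.Hom.comp_apply, hκ]
    exact hq
  haveI : IsIso κ := (isIso_iff_isOpenImmersion_and_surjective κ).2 ⟨inferInstance, inferInstance⟩
  refine ⟨fun V => ?_⟩
  let V' := (FEt.restrict (inv κ)).obj V
  refine ⟨(FEt.restrict s).obj ((FEt.restrict (FEt.puncturedSpec R).ι).objPreimage V'), ⟨?_⟩⟩
  exact Pi1Ext.Spread.restrictSquare _ _ κ (FEt.puncturedSpec R).ι hκ.symm _ ≪≫
    (FEt.restrict κ).mapIso ((FEt.restrict (FEt.puncturedSpec R).ι).objObjPreimageIso V') ≪≫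
    (Pi1Ext.Spread.restrictComp κ (inv κ) (𝟙 _) (IsIso.hom_inv_id κ).symm V).symm ≪≫
    Pi1Ext.Spread.restrictId V

/-- A prime whose proper specializations avoiding `V(f)` are only the closed point is maximal in `A_f`. -/
theorem isMaximal_map {A : Type u} [CommRing A] [IsNoetherianRing A] [IsLocalRing A] (f : A)
    (hf : f ∈ maximalIdeal A) (p : Ideal A) [p.IsPrime] (hfp : f ∉ p)
    (h : ∀ q : Ideal A, q.IsPrime → p ≤ q → f ∈ q → q = maximalIdeal A) :
    (p.map (algebraMap A (Localization.Away f))).IsMaximal := by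
  have hd : Disjoint (Submonoid.powers f : Set A) (p : Set A) :=
    Set.disjoint_left.2 fun y ⟨n, hn⟩ hy => hfp (Ideal.IsPrime.mem_of_pow_mem inferInstance n
      (show f ^ n ∈ p by subst hn; exact hy))
  haveI hprime := IsLocalization.isPrime_of_isPrime_disjoint (Submonoid.powers f) (Localization.Away f) p
    inferInstance hd
  obtain ⟨P, hP, hle⟩ := Ideal.exists_le_maximal _ hprime.ne_top
  suffices hPp : P.under A = p by
    rwa [← hPp, IsLocalization.map_under (Submonoid.powers f) (Localization.Away f) P]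
  have hdP := ((IsLocalization.isPrime_iff_isPrime_disjoint (Submonoid.powers f) (Localization.Away f) P).1
    hP.isPrime).2
  have hfq : f ∉ P.under A := fun hh => Set.disjoint_left.1 hdP (Submonoid.mem_powers f) hh
  have hpq : p ≤ P.under A := fun x hx => hle (Ideal.mem_map_of_mem _ hx)
  by_contra hne
  -- `P.under A` and `p` are distinct primes not containing `f`; a minimal prime over `(f) + p` is the
  -- maximal ideal, which has height one in `A/p`.
  let π := Ideal.Quotient.mk p
  haveI : Nontrivial (A ⧸ p) := Ideal.Quotient.nontrivial_iff.2 (Ideal.IsPrime.ne_top inferInstance)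
  haveI : IsLocalRing (A ⧸ p) := IsLocalRing.of_surjective' π Ideal.Quotient.mk_surjective
  have hmin : maximalIdeal (A ⧸ p) ∈ (Ideal.span {π f}).minimalPrimes := by
    refine ⟨⟨inferInstance, ?_⟩, fun Q ⟨hQ, hfQ⟩ _ => ?_⟩
    · rw [Ideal.span_singleton_le_iff_mem, ← IsLocalRing.map_maximalIdeal_of_surjective π Ideal.Quotient.mk_surjective]
      exact Ideal.mem_map_of_mem _ hf
    · have := h (Q.comap π) (hQ.comap π) (by
        intro x hx
        rw [Ideal.mem_comap, show π x = 0 from Ideal.Quotient.eq_zero_iff_mem.2 hx]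
        exact zero_mem _) (Ideal.mem_comap.2 ((Ideal.span_singleton_le_iff_mem _).1 hfQ))
      rw [← Ideal.map_comap_of_surjective π Ideal.Quotient.mk_surjective Q, this,
        IsLocalRing.map_maximalIdeal_of_surjective π Ideal.Quotient.mk_surjective]
  have hht := Ideal.height_le_one_of_isPrincipal_of_mem_minimalPrimes (Ideal.span {π f}) _ hmin
  let Q := (P.under A).map π
  have hQp : Q.IsPrime := Ideal.map_isPrime_of_surjective Ideal.Quotient.mk_surjective
    (by rw [Ideal.mk_ker]; exact hpq)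
  have hQc : Q.comap π = P.under A := by
    rw [Ideal.comap_map_of_surjective π Ideal.Quotient.mk_surjective, ← RingHom.ker_eq_comap_bot, Ideal.mk_ker,
      sup_eq_left]
    exact hpq
  have hQ0 : (⊥ : Ideal (A ⧸ p)) < Q := by
    refine bot_lt_iff_ne_bot.2 fun h0 => hne ?_
    rw [← hQc, h0, ← RingHom.ker_eq_comap_bot, Ideal.mk_ker]
  have hQlt : Q < maximalIdeal (A ⧸ p) := by
    refine lt_of_le_of_ne (IsLocalRing.le_maximalIdeal hQp.ne_top) fun hh => hfq ?_
    rw [← hQc, hh, ← IsLocalRing.map_maximalIdeal_of_surjective π Ideal.Quotient.mk_surjective]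
    exact Ideal.mem_map_of_mem _ hf
  haveI : Ideal.FiniteHeight (maximalIdeal (A ⧸ p)) := inferInstance
  haveI := hQp
  haveI : (⊥ : Ideal (A ⧸ p)).IsPrime := Ideal.isPrime_bot
  have h1 := Ideal.height_strict_mono_of_isPrime hQ0
  have h2 := Ideal.height_strict_mono_of_isPrime hQlt
  have h3 : (1 : ℕ∞) ≤ Q.height := Order.one_le_iff_pos.2 (lt_of_le_of_lt bot_le h1)
  exact absurd ((h3.trans_lt h2).trans_le hht) (lt_irrefl _)

variable {A : Type u} [CommRing A] [IsNoetherianRing A] [IsLocalRing A]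

/-- Essential surjectivity. -/
theorem exists_extension_punctured (f : A) (hf : f ∈ maximalIdeal A) [IsAdicComplete (Ideal.span {f}) A]
    (hnz : f ∈ nonZeroDivisors A)
    (h1 : Module.Finite A (LocCoh.H (maximalIdeal A) 1 (A ⧸ Ideal.span {f})))
    (h2 : Module.Finite A (LocCoh.H (maximalIdeal A) 2 (A ⧸ Ideal.span {f})))
    (hp : ∀ P : Ideal (Localization.Away f), ∀ _ : P.IsMaximal, FEt.PurityHolds (Localization.AtPrime P)) :
    (FEt.restrict (pullback.fst (FEt.puncturedSpec A).ι
      (Spec.map (CommRingCat.ofHom (Ideal.Quotient.mk (Ideal.span {f})))))).EssSurj := by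
  refine ⟨fun V₀ => ?_⟩
  obtain ⟨U', hU', u', hu', V', ⟨eV⟩⟩ := exists_nbhd f hf hnz h1 h2 V₀
  let U := FEt.puncturedSpec A
  let mk := Spec.map (CommRingCat.ofHom (Ideal.Quotient.mk (Ideal.span {f})))
  let p₁ := pullback.fst U.ι mk
  let W : (U : Scheme.{u}).Opens := U.ι ⁻¹ᵁ U'
  have hWr : Set.range (W.ι ≫ U.ι).base ⊆ Set.range U'.ι.base := by
    rw [Scheme.Opens.range_ι]
    rintro _ ⟨w, rfl⟩
    exact w.2
  let w := IsOpenImmersion.lift U'.ι (W.ι ≫ U.ι) hWr
  have hw : w ≫ U'.ι = W.ι ≫ U.ι := IsOpenImmersion.lift_fac _ _ _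
  have hmem : ∀ x, p₁.base x ∈ W := fun x => by
    show U.ι.base (p₁.base x) ∈ U'
    rw [← Scheme.Hom.comp_apply, ← hu', Scheme.Hom.comp_apply]
    exact (u'.base x).2
  let v := IsOpenImmersion.lift W.ι p₁ (by rw [Scheme.Opens.range_ι]; rintro _ ⟨x, rfl⟩; exact hmem x)
  have hv : v ≫ W.ι = p₁ := IsOpenImmersion.lift_fac _ _ _
  have hvw : u' = v ≫ w := by rw [← cancel_mono U'.ι, Category.assoc, hw, reassoc_of% hv, hu']
  haveI : CompactSpace (U : Scheme.{u}) := isCompact_iff_compactSpace.1 (TopologicalSpace.NoetherianSpace.isCompact _)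
  haveI : IsNoetherian (U : Scheme.{u}) := { }
  obtain ⟨Y, ⟨eY⟩⟩ := Pi1Ext.Spread.exists_extend_all {x : (U : Scheme.{u}) | FEt.PurityHolds ((U : Scheme.{u}).presheaf.stalk x)}
    (fun U'' V'' x hx hxS hmin => Pi1Ext.Spread.exists_local_extension U'' V'' x hxS hx hmin) W
    (fun x hx => by
      let p : Ideal A := (U.ι.base x : PrimeSpectrum A).asIdeal
      have hnot : ∀ q : PrimeSpectrum A, q ≠ closedPoint A → f ∈ q.asIdeal → q ∈ U' := by
        intro q hq hfq
        obtain ⟨z, hz⟩ : q ∈ Set.range (p₁ ≫ U.ι).base := by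
          have hr : Set.range p₁.base = U.ι.base ⁻¹' PrimeSpectrum.zeroLocus {f} := by
            rw [Scheme.Pullback.range_fst, HensCouple7.range_specMap_mk, PrimeSpectrum.zeroLocus_span]
          obtain ⟨z, hz⟩ : (⟨q, hq⟩ : (U : Scheme.{u})) ∈ Set.range p₁.base := by
            rw [hr]
            exact Set.singleton_subset_iff.2 hfq
          exact ⟨z, by rw [Scheme.Hom.comp_apply, hz]; rfl⟩
        rw [← hz, ← hu', Scheme.Hom.comp_apply]
        exact (u'.base z).2
      have hxU : (U.ι.base x : PrimeSpectrum A) ≠ closedPoint A := x.2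
      have hfp : f ∉ p := fun hh => hx (hnot _ hxU hh)
      haveI hM := isMaximal_map f hf p hfp fun q hq hpq hfq => by
        by_contra hne
        have hq' := hnot ⟨q, hq⟩ (fun hh => hne (congrArg PrimeSpectrum.asIdeal hh)) hfq
        refine hx ?_
        exact ((PrimeSpectrum.le_iff_specializes (U.ι.base x : PrimeSpectrum A) ⟨q, hq⟩).1 hpq).mem_open U'.2 hq'
      let P := p.map (algebraMap A (Localization.Away f))
      have hd : Disjoint (Submonoid.powers f : Set A) (p : Set A) :=
        Set.disjoint_left.2 fun y ⟨n, hn⟩ hy => hfp (Ideal.IsPrime.mem_of_pow_mem inferInstance n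
          (show f ^ n ∈ p by subst hn; exact hy))
      have hPu : P.under A = p := IsLocalization.under_map_of_isPrime_disjoint _ _ inferInstance hd
      haveI : IsLocalization.AtPrime (Localization.AtPrime P) p := by
        have := IsLocalization.isLocalization_isLocalization_atPrime_isLocalization
          (.powers f) (Localization.AtPrime P) P
        convert this using 2
        exact hPu.symm
      let e₁ : CommRingCat.of (Localization.AtPrime P) ≅ CommRingCat.of (Localization.AtPrime p) :=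
        (IsLocalization.algEquiv p.primeCompl (Localization.AtPrime P) (Localization.AtPrime p)).toRingEquiv.toCommRingCatIso
      let e₂ : CommRingCat.of (Localization.AtPrime p) ≅ (Spec (CommRingCat.of A)).presheaf.stalk (U.ι.base x) :=
        (IsLocalization.algEquiv p.primeCompl (Localization.AtPrime p)
          ((Spec.structureSheaf A).presheaf.stalk (U.ι.base x : PrimeSpectrum A))).toRingEquiv.toCommRingCatIso
      exact purityHolds_of_iso (e₂ ≪≫ (U.stalkIso x).symm) (purityHolds_of_iso e₁ (hp P hM)))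
    ((FEt.restrict w).obj V')
  exact ⟨Y, ⟨Pi1Ext.Spread.restrictComp v W.ι p₁ hv.symm Y ≪≫ (FEt.restrict v).mapIso eY ≪≫
    (Pi1Ext.Spread.restrictComp v w u' hvw V').symm ≪≫ eV⟩⟩

/-- Purity passes to the hypersurface. -/
theorem purity_quotient (f : A) (hf : f ∈ maximalIdeal A) [IsLocalRing (A ⧸ Ideal.span {f})]
    (hA : FEt.PurityHolds A)
    (hS : (FEt.restrict (pullback.fst (FEt.puncturedSpec A).ι
      (Spec.map (CommRingCat.ofHom (Ideal.Quotient.mk (Ideal.span {f})))))).EssSurj) :
    FEt.PurityHolds (A ⧸ Ideal.span {f}) := by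
  let T := A ⧸ Ideal.span {f}
  have hm : (maximalIdeal A).map (algebraMap A T) = maximalIdeal T :=
    IsLocalRing.map_maximalIdeal_of_surjective (algebraMap A T) Ideal.Quotient.mk_surjective
  let mk := Spec.map (CommRingCat.ofHom (Ideal.Quotient.mk (Ideal.span {f})))
  let p₁ := pullback.fst (FEt.puncturedSpec A).ι mk
  let p₂ := pullback.snd (FEt.puncturedSpec A).ι mk
  let θ := IsOpenImmersion.lift (FEt.puncturedSpec T).ι p₂
    (by rw [Scheme.Opens.range_ι]; exact (P1Glue.range_punc T hm).le)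
  have hθ : θ ≫ (FEt.puncturedSpec T).ι = p₂ := IsOpenImmersion.lift_fac _ _ _
  haveI : IsOpenImmersion θ := by
    haveI : IsClosedImmersion mk := IsClosedImmersion.spec_of_surjective _ Ideal.Quotient.mk_surjective
    haveI : IsOpenImmersion (θ ≫ (FEt.puncturedSpec T).ι) := by rw [hθ]; infer_instance
    exact IsOpenImmersion.of_comp θ (FEt.puncturedSpec T).ι
  haveI : Surjective θ := by
    refine ⟨fun y => ?_⟩
    have hy : (FEt.puncturedSpec T).ι.base y ∈ Set.range p₂.base := (P1Glue.range_punc T hm).ge y.2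
    obtain ⟨x, hx⟩ := hy
    refine ⟨x, (FEt.puncturedSpec T).ι.isOpenEmbedding.injective ?_⟩
    rw [← Scheme.Hom.comp_apply, hθ]
    exact hx
  haveI : IsIso θ := (isIso_iff_isOpenImmersion_and_surjective θ).2 ⟨inferInstance, inferInstance⟩
  haveI := hS
  haveI : (FEt.restrict (FEt.puncturedSpec A).ι).EssSurj := hA
  refine ⟨fun V => ?_⟩
  let V₀ := (FEt.restrict θ).obj V
  let Y := (FEt.restrict p₁).objPreimage V₀
  let Y' := (FEt.restrict (FEt.puncturedSpec A).ι).objPreimage Y
  refine ⟨(FEt.restrict mk).obj Y', ⟨?_⟩⟩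
  have hsq : (inv θ ≫ p₁) ≫ (FEt.puncturedSpec A).ι = (FEt.puncturedSpec T).ι ≫ mk := by
    rw [Category.assoc, pullback.condition, show pullback.snd (FEt.puncturedSpec A).ι mk = θ ≫ (FEt.puncturedSpec T).ι from hθ.symm,
      Category.assoc, IsIso.inv_hom_id_assoc]
  exact Pi1Ext.Spread.restrictSquare _ _ (inv θ ≫ p₁) (FEt.puncturedSpec A).ι hsq.symm Y' ≪≫
    (FEt.restrict (inv θ ≫ p₁)).mapIso ((FEt.restrict (FEt.puncturedSpec A).ι).objObjPreimageIso Y) ≪≫
    Pi1Ext.Spread.restrictComp (inv θ) p₁ _ rfl Y ≪≫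
    (FEt.restrict (inv θ)).mapIso ((FEt.restrict p₁).objObjPreimageIso V₀) ≪≫
    (Pi1Ext.Spread.restrictComp (inv θ) θ (𝟙 _) (IsIso.inv_hom_id θ).symm V).symm ≪≫
    Pi1Ext.Spread.restrictId V

end Groth.Agent.P1Lef
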