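import Groth.Agent.P1Lef.Algebraize
import Mathlib.RingTheory.Spectrum.Prime.Topology
import Mathlib.RingTheory.Henselian

/-!
Clopen subsets of a finite algebra along `V(f)`, away from the closed point, extend to a neighbourhood.
-/

universe u

open IsLocalRing TensorProduct Groth.Agent.Pi1Ext.RegPurity

set_option linter.style.haveILetI false
set_option synthInstance.maxHeartbeats 200000

noncomputable section

namespace Groth.Agent.P1Lef

/-- Idempotents lift along a complete principal ideal. -/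
theorem exists_idem_lift {A : Type u} [CommRing A] {f : A} {C : Type u} [CommRing C] [Algebra A C]
    (X : CLift A f C) {c : C} (hc : c * c = c) : ∃ x : X.E, x * x = x ∧ X.π x = c := by
  obtain ⟨y, rfl⟩ := X.surj c
  let J : Ideal X.E := Ideal.span {algebraMap A X.E f}
  haveI : HenselianRing X.E J := IsAdicComplete.henselianRing X.E J
  have hy : y * y - y ∈ J := (mem_span_iff f _).2 ((X.ker_iff _).1 (by rw [map_sub, map_mul, hc, sub_self]))
  obtain ⟨x, hx, hxy⟩ := HenselianRing.is_henselian (I := J) (Polynomial.X ^ 2 - Polynomial.X)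
    (Polynomial.monic_X_pow_sub (Polynomial.degree_X_le.trans_lt (by norm_num))) y
    (by simpa [sq] using hy)
    (by
      have h1 : Ideal.Quotient.mk J (Polynomial.eval y (Polynomial.derivative (Polynomial.X ^ 2 - Polynomial.X))) *
          Ideal.Quotient.mk J (Polynomial.eval y (Polynomial.derivative (Polynomial.X ^ 2 - Polynomial.X))) = 1 := by
        rw [← map_mul, ← map_one (Ideal.Quotient.mk J), Ideal.Quotient.eq]
        have he : Polynomial.eval y (Polynomial.derivative (Polynomial.X ^ 2 - Polynomial.X)) = 2 * y - 1 := by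
          simp [two_mul, add_mul]
        rw [he, show (2 * y - 1) * (2 * y - 1) - 1 = 4 * (y * y - y) by ring]
        exact J.mul_mem_left _ hy
      exact IsUnit.of_mul_eq_one _ h1)
  refine ⟨x, ?_, ?_⟩
  · have : x ^ 2 - x = 0 := by simpa using hx
    rw [← sq]; exact sub_eq_zero.1 this
  · rw [← sub_eq_zero, ← map_sub]
    exact (X.ker_iff _).2 ((mem_span_iff f _).1 hxy)

theorem idem_eq {A : Type u} [CommRing A] {f : A} {C : Type u} [CommRing C] [Algebra A C]
    (X : CLift A f C) {x y : X.E} (hx : x * x = x) (hy : y * y = y) (h : X.π x = X.π y) : x = y := by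
  let J : Ideal X.E := Ideal.span {algebraMap A X.E f}
  have hJ : J ≤ Ideal.jacobson ⊥ := IsAdicComplete.le_jacobson_bot J
  have hz : x - y ∈ J := (mem_span_iff f _).2 ((X.ker_iff _).1 (by rw [map_sub, h, sub_self]))
  have hu : IsUnit (1 - (x - y) * (x - y)) := by
    have := (Ideal.mem_jacobson_bot.1 (hJ hz)) (-(x - y))
    rwa [show (x - y) * -(x - y) + 1 = 1 - (x - y) * (x - y) by ring] at this
  have h3 : (1 - (x - y) * (x - y)) * (x - y) = 0 := by
    linear_combination (3 * y - x - 1) * hx + (y + 1 - 3 * x) * hy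
  exact sub_eq_zero.1 (hu.mul_right_eq_zero.1 h3)

theorem isUnit_of_π {A : Type u} [CommRing A] {f : A} {C : Type u} [CommRing C] [Algebra A C]
    (X : CLift A f C) {x : X.E} (h : IsUnit (X.π x)) : IsUnit x := by
  obtain ⟨y, hy⟩ := X.surj ((h.unit⁻¹ : Cˣ) : C)
  have hz : x * y - 1 ∈ Ideal.span {algebraMap A X.E f} :=
    (mem_span_iff f _).2 ((X.ker_iff _).1 (by rw [map_sub, map_mul, map_one, hy, IsUnit.mul_val_inv, sub_self]))
  have := Ideal.mem_jacobson_bot.1 (IsAdicComplete.le_jacobson_bot _ hz) 1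
  rw [mul_one, sub_add_cancel] at this
  exact isUnit_of_mul_isUnit_left this

/-- Finite sections, from the finiteness of the first local cohomology alone. -/
theorem finite_sec {R : Type u} [CommRing R] [IsNoetherianRing R] {l : ℕ} (g : Fin l → R) (I : Ideal R)
    (hI : I = Ideal.span (Set.range g)) (M₀ : Type u) [AddCommGroup M₀] [Module R M₀] [Module.Finite R M₀]
    (h1 : Module.Finite R ((localCohomology I 1).obj (ModuleCat.of R M₀)))
    (C : Type u) [AddCommGroup C] [Module R C]
    (hret : ∀ i, ∃ (d k : ℕ) (s : C →ₗ[R] Fin d → M₀) (π : (Fin d → M₀) →ₗ[R] C),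
      ∀ x, π (s x) = g i ^ k • x) :
    Module.Finite R (sec g C) := by
  classical
  choose d k s π hπ using hret
  haveI := finite_sec_quot g I hI h1
  haveI : Module.Finite R (sec g M₀) :=
    Module.Finite.of_submodule_quotient (LinearMap.range (augS g (M := M₀)))
  let ι : Type u := ULift.{u} (Σ i, Fin (d i))
  haveI : Module.Finite R (sec g (ι → M₀)) := finite_sec_pi g ι
  let S : C →ₗ[R] ι → M₀ := LinearMap.pi fun p => LinearMap.proj p.down.2 ∘ₗ s p.down.1
  let pr : ∀ i, (ι → M₀) →ₗ[R] Fin (d i) → M₀ := fun i =>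
    LinearMap.pi fun t => LinearMap.proj (ULift.up ⟨i, t⟩)
  have hpr : ∀ i x, pr i (S x) = s i x := fun i x => rfl
  have hli : LocInj g S := fun i x hx => ⟨k i, by rw [← hπ, ← hpr, hx, map_zero, map_zero]⟩
  exact Module.Finite.of_injective (secMap g S) fun x y e => Subtype.ext (hli.m0 (congrArg Subtype.val e))

/-- A zero algebra map into a trivial ring. -/
def algHomOfSubsingleton (A B C : Type u) [CommRing A] [CommRing B] [Algebra A B] [CommRing C] [Algebra A C]
    [Subsingleton C] : B →ₐ[A] C where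
  toFun _ := 0
  map_one' := Subsingleton.elim _ _
  map_mul' _ _ := Subsingleton.elim _ _
  map_zero' := rfl
  map_add' _ _ := Subsingleton.elim _ _
  commutes' _ := Subsingleton.elim _ _

/-- A finitely generated module on which `f` acts surjectively after inverting `h` vanishes at every
prime containing `f` but not `h`. -/
theorem not_mem_support_of_nakayama {A : Type u} [CommRing A] {N : Type u} [AddCommGroup N] [Module A N]
    [Module.Finite A N] {f h : A} (H : ∀ x : N, ∃ (k : ℕ) (y : N), h ^ k • x = f • y)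
    (p : PrimeSpectrum A) (hf : f ∈ p.asIdeal) (hh : h ∉ p.asIdeal) : p ∉ Module.support A N := by
  rw [Module.notMem_support_iff]
  let Ap := Localization.AtPrime p.asIdeal
  let Np := LocalizedModule.AtPrime p.asIdeal N
  let mk := LocalizedModule.mkLinearMap p.asIdeal.primeCompl N
  have hu : ∀ k : ℕ, IsUnit (algebraMap A Ap (h ^ k)) := fun k => by
    rw [map_pow]
    exact (IsLocalization.map_units Ap (⟨h, hh⟩ : p.asIdeal.primeCompl)).pow k
  haveI : Module.Finite Ap Np := Module.Finite.of_isLocalizedModule p.asIdeal.primeCompl mk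
  have hle : (⊤ : Submodule Ap Np) ≤ Ideal.span {algebraMap A Ap f} • ⊤ := by
    rintro x -
    obtain ⟨⟨m, s⟩, hx⟩ := IsLocalizedModule.surj p.asIdeal.primeCompl mk x
    obtain ⟨k, y, hy⟩ := H m
    have hm : mk m ∈ Ideal.span {algebraMap A Ap f} • (⊤ : Submodule Ap Np) := by
      have h1 : algebraMap A Ap (h ^ k) • mk m = algebraMap A Ap f • mk y := by
        rw [algebraMap_smul, algebraMap_smul, ← map_smul, ← map_smul, hy]
      rw [← one_smul Ap (mk m), ← (hu k).val_inv_mul, mul_smul]
      refine Submodule.smul_mem _ _ ?_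
      rw [h1]
      exact Submodule.smul_mem_smul (Ideal.mem_span_singleton_self _) trivial
    rw [← one_smul Ap x, ← (IsLocalization.map_units Ap s).val_inv_mul, mul_smul]
    refine Submodule.smul_mem _ _ ?_
    rw [algebraMap_smul]
    exact (show (s : A) • x = mk m from hx) ▸ hm
  have hjac : Ideal.span {algebraMap A Ap f} ≤ Ideal.jacobson ⊥ := by
    rw [IsLocalRing.jacobson_eq_maximalIdeal ⊥ bot_ne_top, Ideal.span_singleton_le_iff_mem]
    exact (IsLocalization.AtPrime.to_map_mem_maximal_iff Ap p.asIdeal f).2 hf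
  have htop : (⊤ : Submodule Ap Np) = ⊥ :=
    Submodule.eq_bot_of_le_smul_of_le_jacobson_bot _ _ Module.Finite.fg_top hle hjac
  exact (Submodule.subsingleton_iff Ap).1 (subsingleton_iff_bot_eq_top.1 htop.symm)

section

variable {A : Type u} [CommRing A] [IsNoetherianRing A] [IsLocalRing A]

/-- Over an open on which a map of finite algebras is an isomorphism, an idempotent upstairs cuts out
a clopen subset downstairs. -/
theorem clopen_of_idem {C M : Type u} [CommRing C] [CommRing M] [Algebra A C] [Algebra A M]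
    [Module.Finite A M] [Module.Finite A C] (φ : C →ₐ[A] M) (e : M) (he : e * e = e) (T : Set (PrimeSpectrum A))
    (hK : Module.support A (LinearMap.ker φ.toLinearMap) ⊆ T)
    (hQ : Module.support A (M ⧸ LinearMap.range φ.toLinearMap) ⊆ T) :
    ∃ G : Set (PrimeSpectrum C),
      IsClopen (Subtype.val ⁻¹' G : Set ↥(PrimeSpectrum.comap (algebraMap A C) ⁻¹' Tᶜ)) ∧
      ∀ P : PrimeSpectrum M, PrimeSpectrum.comap (algebraMap A M) P ∉ T →
        (PrimeSpectrum.comap φ.toRingHom P ∈ G ↔ e ∉ P.asIdeal) := by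
  let cφ : PrimeSpectrum M → PrimeSpectrum C := PrimeSpectrum.comap φ.toRingHom
  have hcA : ∀ P, PrimeSpectrum.comap (algebraMap A C) (cφ P) = PrimeSpectrum.comap (algebraMap A M) P :=
    fun P => PrimeSpectrum.ext (Ideal.ext fun a => by
      show φ (algebraMap A C a) ∈ P.asIdeal ↔ algebraMap A M a ∈ P.asIdeal
      rw [φ.commutes])
  -- `φ` is an isomorphism after inverting a suitable element
  have hiso : ∀ p ∉ T, ∃ a : A, a ∉ p.asIdeal ∧ (∀ m : M, ∃ c, a • m = φ c) ∧ ∀ c, φ c = 0 → a • c = 0 := by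
    intro p hp
    obtain ⟨s, hs, hsK⟩ : ∃ s, s ∈ Module.annihilator A (LinearMap.ker φ.toLinearMap) ∧ s ∉ p.asIdeal := by
      by_contra hcon
      push Not at hcon
      exact hp (hK ((Module.mem_support_iff_of_finite).2 hcon))
    obtain ⟨t, ht, htQ⟩ : ∃ t, t ∈ Module.annihilator A (M ⧸ LinearMap.range φ.toLinearMap) ∧ t ∉ p.asIdeal := by
      by_contra hcon
      push Not at hcon
      exact hp (hQ ((Module.mem_support_iff_of_finite).2 hcon))
    refine ⟨s * t, fun h => (p.2.mem_or_mem h).elim hsK htQ, fun m => ?_, fun c hc => ?_⟩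
    · have := Module.mem_annihilator.1 ht (Submodule.Quotient.mk m)
      rw [← Submodule.Quotient.mk_smul, Submodule.Quotient.mk_eq_zero] at this
      obtain ⟨c, hc⟩ := this
      exact ⟨s • c, by rw [map_smul, mul_smul]; exact congrArg (s • ·) hc.symm⟩
    · rw [mul_comm, mul_smul]
      have := congrArg Subtype.val (Module.mem_annihilator.1 hs ⟨c, LinearMap.mem_ker.2 hc⟩)
      rw [Submodule.coe_smul] at this
      rw [show s • c = 0 from this, smul_zero]
  have hinj : ∀ P P', PrimeSpectrum.comap (algebraMap A M) P ∉ T → cφ P = cφ P' → P = P' := by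
    intro P P' hP hPP'
    obtain ⟨a, ha, hs, -⟩ := hiso _ hP
    have hP' : a ∉ (PrimeSpectrum.comap (algebraMap A M) P').asIdeal := by
      rw [← hcA, ← hPP', hcA]; exact ha
    refine PrimeSpectrum.ext (Ideal.ext fun m => ?_)
    obtain ⟨c, hc⟩ := hs m
    have e1 : φ c ∈ P.asIdeal ↔ φ c ∈ P'.asIdeal :=
      Iff.of_eq (congrArg (fun q : PrimeSpectrum C => c ∈ q.asIdeal) hPP')
    rw [← hc, Algebra.smul_def, P.2.mul_mem_iff_mem_or_mem, P'.2.mul_mem_iff_mem_or_mem] at e1
    exact ⟨fun h => (e1.1 (.inr h)).resolve_left hP', fun h => (e1.2 (.inr h)).resolve_left ha⟩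
  have hsurj : ∀ q : PrimeSpectrum C, PrimeSpectrum.comap (algebraMap A C) q ∉ T → q ∈ Set.range cφ := by
    intro q hq
    obtain ⟨a, ha, -, hk⟩ := hiso _ hq
    have hker : RingHom.ker φ.toRingHom ≤ q.asIdeal := fun c hc => by
      have h0 : a • c = 0 := hk c hc
      rw [Algebra.smul_def] at h0
      exact (q.2.mem_or_mem (show algebraMap A C a * c ∈ q.asIdeal by rw [h0]; exact zero_mem _)).resolve_left ha
    letI := φ.toRingHom.toAlgebra
    haveI : IsScalarTower A C M := IsScalarTower.of_algebraMap_eq fun x => (φ.commutes x).symm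
    haveI : Module.Finite C M := Module.Finite.of_restrictScalars_finite A C M
    obtain ⟨P, hP, hPq⟩ := Ideal.exists_ideal_over_prime_of_isIntegral (R := C) (S := M) q.asIdeal ⊥
      (by rwa [← RingHom.ker_eq_comap_bot])
    exact ⟨⟨P, hPq.1⟩, PrimeSpectrum.ext hPq.2⟩
  have hclosed : IsClosedMap cφ := by
    refine PrimeSpectrum.isClosedMap_comap_of_isIntegral φ.toRingHom (RingHom.IsIntegral.tower_top
      (algebraMap A C) φ.toRingHom ?_)
    rw [show φ.toRingHom.comp (algebraMap A C) = algebraMap A M from φ.comp_algebraMap]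
    exact algebraMap_isIntegral_iff.2 inferInstance
  refine ⟨cφ '' PrimeSpectrum.zeroLocus {1 - e}, ⟨(hclosed _ (PrimeSpectrum.isClosed_zeroLocus _)).preimage
    continuous_subtype_val, ?_⟩, fun P hP => ?_⟩
  · have hcompl : (Subtype.val ⁻¹' (cφ '' PrimeSpectrum.zeroLocus {1 - e}) :
        Set ↥(PrimeSpectrum.comap (algebraMap A C) ⁻¹' Tᶜ)) =
        (Subtype.val ⁻¹' (cφ '' PrimeSpectrum.zeroLocus {e}))ᶜ := by
      ext ⟨q, hq⟩
      simp only [Set.mem_preimage, Set.mem_compl_iff, Set.mem_image]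
      constructor
      · rintro ⟨P, hP, rfl⟩ ⟨P', hP', hPP'⟩
        have := hinj P P' (by rw [← hcA]; exact hq) hPP'.symm
        subst this
        rw [PrimeSpectrum.mem_zeroLocus, Set.singleton_subset_iff] at hP hP'
        exact P.2.ne_top ((Ideal.eq_top_iff_one _).2 (by simpa using add_mem hP hP'))
      · intro hn
        obtain ⟨P, rfl⟩ := hsurj q hq
        refine ⟨P, ?_, rfl⟩
        rw [PrimeSpectrum.mem_zeroLocus, Set.singleton_subset_iff]
        refine (P.2.mem_or_mem (show e * (1 - e) ∈ P.asIdeal by rw [mul_sub, mul_one, he, sub_self]; exact zero_mem _)).resolve_left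
          fun h => hn ⟨P, ?_, rfl⟩
        rwa [PrimeSpectrum.mem_zeroLocus, Set.singleton_subset_iff]
    rw [hcompl]
    exact ((hclosed _ (PrimeSpectrum.isClosed_zeroLocus _)).preimage continuous_subtype_val).isOpen_compl
  · refine ⟨?_, fun h => ⟨P, ?_, rfl⟩⟩
    · rintro ⟨P', hP', hPP'⟩ h
      have := hinj P P' hP hPP'.symm
      subst this
      rw [PrimeSpectrum.mem_zeroLocus, Set.singleton_subset_iff] at hP'
      exact P.2.ne_top ((Ideal.eq_top_iff_one _).2 (by simpa using add_mem h hP'))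
    · rw [PrimeSpectrum.mem_zeroLocus, Set.singleton_subset_iff]
      exact (P.2.mem_or_mem (show e * (1 - e) ∈ P.asIdeal by rw [mul_sub, mul_one, he, sub_self]; exact zero_mem _)).resolve_left h

/-- The finite algebra of formal sections, with its structure map from `C`. -/
theorem exists_compare (f : A) [IsAdicComplete (Ideal.span {f}) A] {C Cb : Type u} [CommRing C] [Algebra A C]
    [CommRing Cb] [Algebra A Cb] (r : C →ₐ[A] Cb) {l : ℕ} (g : Fin l → A)
    (E1 : ∀ i, CLift A f (Cl Cb (g i))) (E2 : ∀ p : Fin l × Fin l, CLift A f (Cl Cb (g p.1 * g p.2)))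
    [Module.Finite A (sec g Cb)]
    (ψ : ∀ i, C →ₐ[A] (E1 i).E) (hψ : ∀ i c, (E1 i).π (ψ i c) = algebraMap Cb _ (r c))
    (huniq : ∀ (p : Fin l × Fin l) (y₁ y₂ : C →ₐ[A] (E2 p).E),
      (∀ c, (E2 p).π (y₁ c) = algebraMap Cb _ (r c)) → (∀ c, (E2 p).π (y₂ c) = algebraMap Cb _ (r c)) → y₁ = y₂) :
    ∃ (M : Type u) (_ : CommRing M) (_ : Algebra A M) (_ : Module.Finite A M)
      (_ : ∀ b : M, f • b = 0 → b = 0) (q : M →ₐ[A] ∀ i, Cl Cb (g i)) (φ : C →ₐ[A] M),
      (∀ c i, q (φ c) i = algebraMap Cb (Cl Cb (g i)) (r c)) ∧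
      (∀ b i, q b i = 0 → ∃ (e : ℕ) (b' : M), g i ^ e • b = f • b') ∧
      ∀ eb : ∀ i, Cl Cb (g i), (∀ i, eb i * eb i = eb i) →
        (∀ p : Fin l × Fin l, rCa Cb (dvd_mul_right (g p.1) (g p.2)) (eb p.1) =
          rCa Cb (dvd_mul_left (g p.2) (g p.1)) (eb p.2)) →
        ∃ e : M, e * e = e ∧ q e = eb := by
  have hcompat : ∀ c, (fun i => ψ i c) ∈ M E1 E2 := fun c => by
    rw [M, Algebra.mem_iInf]
    intro p
    rw [AlgHom.mem_equalizer]
    exact AlgHom.congr_fun (huniq p (((E1 p.1).map (E2 p) (rCa Cb (dvd_mul_right (g p.1) (g p.2)))).comp (ψ p.1))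
      (((E1 p.2).map (E2 p) (rCa Cb (dvd_mul_left (g p.2) (g p.1)))).comp (ψ p.2))
      (fun c => by rw [AlgHom.comp_apply, CLift.map_π, hψ, rCa_algebraMap])
      (fun c => by rw [AlgHom.comp_apply, CLift.map_π, hψ, rCa_algebraMap])) c
  refine ⟨M E1 E2, inferInstance, inferInstance, finite_M E1 E2, nzd_M E1 E2, q E1 E2,
    (AlgHom.pi ψ).codRestrict _ hcompat, fun c i => hψ i c, fun b i => exists_q_smul_eq_zero E1 E2 b i,
    fun eb heb hc => ?_⟩
  choose ee hee heeπ using fun i => exists_idem_lift (E1 i) (heb i)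
  have heM : (fun i => ee i) ∈ M E1 E2 := by
    rw [M, Algebra.mem_iInf]
    intro p
    rw [AlgHom.mem_equalizer]
    refine idem_eq (E2 p) (by rw [← map_mul]; congr 1; funext i; exact hee i)
      (by rw [← map_mul]; congr 1; funext i; exact hee i) ?_
    show (E2 p).π ((E1 p.1).map (E2 p) _ (ee p.1)) = (E2 p).π ((E1 p.2).map (E2 p) _ (ee p.2))
    rw [CLift.map_π, CLift.map_π, heeπ, heeπ]
    exact hc p
  exact ⟨⟨fun i => ee i, heM⟩, Subtype.ext (funext hee), funext heeπ⟩

/-- The comparison map is an isomorphism along `V(f)`, away from `V(g)`. -/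
theorem not_mem_support_compare (f g : A) {C Cb M : Type u} [CommRing C] [Algebra A C] [Module.Finite A C]
    [CommRing Cb] [Algebra A Cb] [CommRing M] [Algebra A M] [Module.Finite A M]
    (hnzM : ∀ b : M, f • b = 0 → b = 0) (r : C →ₐ[A] Cb) (hrsurj : Function.Surjective r)
    (hrker : ∀ c, r c = 0 → ∃ c', c = f • c') (φ : C →ₐ[A] M) (π : M →ₐ[A] Cl Cb g)
    (hπφ : ∀ c, π (φ c) = algebraMap Cb (Cl Cb g) (r c))
    (hπker : ∀ b, π b = 0 → ∃ (e : ℕ) (b' : M), g ^ e • b = f • b')
    (p : PrimeSpectrum A) (hf : f ∈ p.asIdeal) (hg : g ∉ p.asIdeal) :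
    p ∉ Module.support A (LinearMap.ker φ.toLinearMap) ∪ Module.support A (M ⧸ LinearMap.range φ.toLinearMap) := by
  rintro (hp | hp)
  · refine not_mem_support_of_nakayama (f := f) (h := g) (fun x => ?_) p hf hg hp
    have hx : φ x.1 = 0 := x.2
    have h0 : algebraMap Cb (Cl Cb g) (r x.1) = 0 := by rw [← hπφ, hx, map_zero]
    obtain ⟨⟨_, k, rfl⟩, hk⟩ :=
      (IsLocalization.map_eq_zero_iff (Submonoid.powers (algebraMap A Cb g)) _ _).1 h0
    obtain ⟨c', hc'⟩ := hrker (g ^ k • x.1) (by rw [map_smul, Algebra.smul_def, map_pow]; exact hk)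
    refine ⟨k, ⟨c', LinearMap.mem_ker.2 (hnzM _ ?_)⟩, Subtype.ext hc'⟩
    show f • φ c' = 0
    rw [← map_smul, ← hc', map_smul, hx, smul_zero]
  · refine not_mem_support_of_nakayama (f := f) (h := g) (fun z => ?_) p hf hg hp
    obtain ⟨z, rfl⟩ := Submodule.Quotient.mk_surjective _ z
    obtain ⟨k, cb, hcb⟩ := IsLocalization.Away.surj (algebraMap A Cb g) (π z)
    obtain ⟨c, rfl⟩ := hrsurj cb
    have h0 : π (g ^ k • z - φ c) = 0 := by
      rw [map_sub, map_smul, hπφ, ← hcb, Algebra.smul_def, map_pow,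
        IsScalarTower.algebraMap_apply A Cb (Cl Cb g), mul_comm, sub_self]
    obtain ⟨e', z', hz'⟩ := hπker _ h0
    refine ⟨e' + k, Submodule.Quotient.mk z', ?_⟩
    rw [← Submodule.Quotient.mk_smul, ← Submodule.Quotient.mk_smul, Submodule.Quotient.eq, pow_add, mul_smul,
      ← hz', smul_sub, sub_sub_cancel]
    exact Submodule.smul_mem _ _ (LinearMap.mem_range_self φ.toLinearMap c)

/-- A clopen subset of the trace on `V(f)` of a finite algebra extends to a neighbourhood. -/
theorem exists_clopen_nbhd (f : A) (hf : f ∈ maximalIdeal A) [IsAdicComplete (Ideal.span {f}) A]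
    (hnz : f ∈ nonZeroDivisors A)
    (h1 : Module.Finite A (LocCoh.H (maximalIdeal A) 1 (A ⧸ Ideal.span {f})))
    (I : Ideal A) (hIm : I ≤ maximalIdeal A) (hI : maximalIdeal A ≤ (I ⊔ Ideal.span {f}).radical)
    (C : Type u) [CommRing C] [Algebra A C] [Module.Finite A C] (het : ∀ a ∈ I, EtAway A C a)
    (Z : Set (PrimeSpectrum C))
    (hZ : Z = {q | algebraMap A C f ∈ q.asIdeal ∧ ¬ maximalIdeal A ≤ q.asIdeal.comap (algebraMap A C)})
    (D : Set (PrimeSpectrum C)) (hD : IsClopen (Subtype.val ⁻¹' D : Set Z)) :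
    ∃ T : Set (PrimeSpectrum A), IsClosed T ∧ (∀ p ∈ T, f ∈ p.asIdeal → maximalIdeal A ≤ p.asIdeal) ∧
      ∃ G : Set (PrimeSpectrum C),
        IsClopen (Subtype.val ⁻¹' G : Set ↥(PrimeSpectrum.comap (algebraMap A C) ⁻¹' Tᶜ)) ∧
        ∀ q ∈ Z, q ∈ G ↔ q ∈ D := by
  classical
  let S := A ⧸ Ideal.span {f}
  let Cb := S ⊗[A] C
  -- the family of elements
  obtain ⟨m, g₀, hg₀⟩ := Submodule.fg_iff_exists_fin_generating_family.1 (IsNoetherian.noetherian I)
  let g : Fin (m + 1) → A := Fin.snoc g₀ f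
  have hgI : ∀ i, g i ∈ I ∨ g i = f := Fin.lastCases (.inr (Fin.snoc_last _ _))
    (fun i => .inl (by
      rw [show g (Fin.castSucc i) = g₀ i from Fin.snoc_castSucc _ _ _, ← hg₀]
      exact Submodule.subset_span ⟨i, rfl⟩))
  have hspan : I ⊔ Ideal.span {f} = Ideal.span (Set.range g) := by
    refine le_antisymm (sup_le ?_ ?_) (Ideal.span_le.2 ?_)
    · rw [← hg₀]
      refine Submodule.span_le.2 ?_
      rintro _ ⟨i, rfl⟩
      exact Ideal.subset_span ⟨Fin.castSucc i, Fin.snoc_castSucc _ _ _⟩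
    · exact Ideal.span_le.2 (Set.singleton_subset_iff.2 (Ideal.subset_span ⟨Fin.last m, Fin.snoc_last _ _⟩))
    · rintro _ ⟨i, rfl⟩
      rcases hgI i with hi | hi
      · exact Ideal.mem_sup_left hi
      · rw [hi]; exact Ideal.mem_sup_right (Ideal.mem_span_singleton_self f)
  have hmul : ∀ i (a : A), g i * a ∈ I ∨ g i * a ∈ Ideal.span {f} := fun i a =>
    (hgI i).imp (Ideal.mul_mem_right _ _) fun h => by rw [h]; exact Ideal.mul_mem_right _ _ (Ideal.mem_span_singleton_self f)
  have hgI' : ∀ i, g i ∈ I ∨ g i ∈ Ideal.span {f} := fun i => by simpa using hmul i 1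
  -- étaleness of the reduction
  have hetS : ∀ h, (h ∈ I ∨ h ∈ Ideal.span {f}) → EtAway S Cb (Ideal.Quotient.mk _ h) := by
    intro h hh
    let Sh := Localization.Away (Ideal.Quotient.mk (Ideal.span {f}) h)
    haveI : Algebra.Etale Sh (Sh ⊗[S] Cb) := by
      rcases hh with hh | hh
      · haveI := etale_tensor_of_etAway (het h hh) Sh (by
          rw [IsScalarTower.algebraMap_apply A S Sh, Ideal.Quotient.algebraMap_eq]
          exact IsLocalization.Away.algebraMap_isUnit _)
        exact Algebra.Etale.of_equiv (Algebra.TensorProduct.cancelBaseChange A S Sh Sh C).symm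
      · haveI : Subsingleton Sh := IsLocalization.subsingleton (M := Submonoid.powers (Ideal.Quotient.mk (Ideal.span {f}) h))
          (⟨1, by simp only [pow_one]; exact Ideal.Quotient.eq_zero_iff_mem.2 hh⟩)
        haveI : Subsingleton (Sh ⊗[S] Cb) := Module.subsingleton Sh _
        exact Algebra.Etale.of_equiv (R := Sh) (A := Sh)
          { toFun := fun _ => 0, invFun := fun _ => 0
            left_inv := fun _ => Subsingleton.elim _ _, right_inv := fun _ => Subsingleton.elim _ _
            map_mul' := fun _ _ => Subsingleton.elim _ _, map_add' := fun _ _ => Subsingleton.elim _ _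
            commutes' := fun _ => Subsingleton.elim _ _ }
    exact Pi1Ext.PuritySch.etAway_of_etale _
  have hetCl : ∀ h, (h ∈ I ∨ h ∈ Ideal.span {f}) → Algebra.Etale S (Cl Cb h) := fun h hh => by
    have h' := hetS h hh
    unfold EtAway at h'
    rw [show algebraMap S Cb (Ideal.Quotient.mk _ h) = algebraMap A Cb h from
      (IsScalarTower.algebraMap_apply A S Cb h).symm] at h'
    exact h'
  have hlift : ∀ h, (h ∈ I ∨ h ∈ Ideal.span {f}) → Nonempty (CLift A f (Cl Cb h)) := fun h hh => by
    haveI := hetCl h hh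
    exact exists_cLift f hnz (Cl Cb h)
  have E1 : ∀ i, CLift A f (Cl Cb (g i)) := fun i => (hlift _ (hgI' i)).some
  have E2 : ∀ p : Fin (m + 1) × Fin (m + 1), CLift A f (Cl Cb (g p.1 * g p.2)) := fun p =>
    (hlift _ (hmul p.1 (g p.2))).some
  -- finiteness
  have hrad : (I ⊔ Ideal.span {f}).radical = (maximalIdeal A).radical := by
    rw [(Ideal.IsMaximal.isPrime (maximalIdeal.isMaximal A)).radical]
    exact le_antisymm ((Ideal.IsMaximal.isPrime (maximalIdeal.isMaximal A)).radical_le_iff.2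
      (sup_le hIm ((Ideal.span_singleton_le_iff_mem _).2 hf))) hI
  haveI : Module.Finite A ((localCohomology (maximalIdeal A) 1).obj (ModuleCat.of A S)) := h1
  have h1' : Module.Finite A ((localCohomology (I ⊔ Ideal.span {f}) 1).obj (ModuleCat.of A S)) :=
    Module.Finite.equiv
      ((localCohomology.isoOfSameRadical hrad 1).app (ModuleCat.of A S)).toLinearEquiv.symm
  haveI : Module.Finite A (sec g Cb) := finite_sec g (I ⊔ Ideal.span {f}) hspan S h1' Cb fun i => by
    obtain ⟨d, k, s, π, hπ⟩ := P1Punct.exists_retract S Cb (Ideal.Quotient.mk _ (g i)) (hetS _ (hgI' i))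
    refine ⟨d, k, s.restrictScalars A, π.restrictScalars A, fun x => ?_⟩
    show π (s x) = _
    rw [hπ, ← map_pow, ← algebraMap_smul S (g i ^ k) x]
    rfl
  -- the comparison map
  let r : C →ₐ[A] Cb := Algebra.TensorProduct.includeRight
  let nat : ∀ h : A, C →ₐ[A] Cl Cb h := fun h => (IsScalarTower.toAlgHom A Cb (Cl Cb h)).comp r
  have hnat : ∀ h c, nat h c = algebraMap Cb (Cl Cb h) (r c) := fun h c => rfl
  have hu : ∀ h, IsUnit (algebraMap Cb (Cl Cb h) (r (algebraMap A C h))) := fun h => by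
    rw [r.commutes]; exact IsLocalization.Away.algebraMap_isUnit _
  -- lifting, uniquely, over the opens where `C` is étale
  have huniq : ∀ (h : A), (h ∈ I ∨ h ∈ Ideal.span {f}) → ∀ X : CLift A f (Cl Cb h),
      ∃! ψ : C →ₐ[A] X.E, X.π.comp ψ = nat h := by
    intro h hh X
    rcases hh with hh | hh
    · haveI : Algebra.Etale A (Localization.Away (algebraMap A C h)) := het h hh
      let φ' : Localization.Away (algebraMap A C h) →ₐ[A] Cl Cb h :=
        IsLocalization.liftAlgHom (M := Submonoid.powers (algebraMap A C h)) (f := nat h) (by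
          rintro ⟨_, n, rfl⟩; rw [map_pow, hnat]; exact (hu h).pow n)
      obtain ⟨ψ, hψ, hψu⟩ := existsUnique_lift_of_etale X.π X.surj X.ker_iff φ'
      refine ⟨ψ.comp (IsScalarTower.toAlgHom A C _), AlgHom.ext fun c => ?_, fun ψ' hψ' => ?_⟩
      · show X.π (ψ (algebraMap C _ c)) = _
        rw [← AlgHom.comp_apply, hψ]
        exact IsLocalization.lift_eq _ c
      · have hunit : ∀ y : Submonoid.powers (algebraMap A C h), IsUnit (ψ' y) := by
          rintro ⟨_, n, rfl⟩
          rw [map_pow]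
          refine IsUnit.pow _ (isUnit_of_π X ?_)
          rw [← AlgHom.comp_apply, hψ', hnat]
          exact hu h
        let ψ'' : Localization.Away (algebraMap A C h) →ₐ[A] X.E :=
          IsLocalization.liftAlgHom (M := Submonoid.powers (algebraMap A C h)) (f := ψ') hunit
        have : ψ'' = ψ := hψu ψ'' (IsLocalization.algHom_ext (Submonoid.powers (algebraMap A C h))
          (AlgHom.ext fun c => by
            show X.π (ψ'' (algebraMap C _ c)) = φ' (algebraMap C _ c)
            rw [show ψ'' (algebraMap C _ c) = ψ' c from IsLocalization.lift_eq _ c,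
              show φ' (algebraMap C _ c) = nat h c from IsLocalization.lift_eq _ c, ← hψ']
            rfl))
        refine AlgHom.ext fun c => ?_
        show ψ' c = ψ (algebraMap C _ c)
        rw [← this]
        exact (IsLocalization.lift_eq _ c).symm
    · haveI : Subsingleton (Cl Cb h) := IsLocalization.subsingleton (M := Submonoid.powers (algebraMap A Cb h))
        (⟨1, by
          simp only [pow_one]
          rw [IsScalarTower.algebraMap_apply A S Cb, Ideal.Quotient.algebraMap_eq,
            Ideal.Quotient.eq_zero_iff_mem.2 hh, map_zero]⟩)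
      haveI : Subsingleton X.E := subsingleton_of_forall_eq 0 fun x => by
        refine (IsHausdorff.eq_iff_smodEq (I := Ideal.span {algebraMap A X.E f})).2 fun n => ?_
        rw [SModEq.sub_mem, sub_zero, Ideal.smul_eq_mul, Ideal.mul_top]
        induction n generalizing x with
        | zero => simp
        | succ n ih =>
          obtain ⟨y, rfl⟩ := (X.ker_iff x).1 (Subsingleton.elim _ _)
          rw [pow_succ', Algebra.smul_def]
          exact Ideal.mul_mem_mul (Ideal.mem_span_singleton_self _) (ih y)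
      exact ⟨algHomOfSubsingleton A C X.E, AlgHom.ext fun c => Subsingleton.elim _ _,
        fun ψ' _ => AlgHom.ext fun c => Subsingleton.elim _ _⟩
  choose ψ hψ using fun i => (huniq _ (hgI' i) (E1 i)).exists
  obtain ⟨M, _, _, _, hnzM, q, φ, hqφ, hqker, hidlift⟩ := exists_compare f r g E1 E2 ψ
    (fun i c => AlgHom.congr_fun (hψ i) c)
    (fun p y₁ y₂ e₁ e₂ => (huniq _ (hmul p.1 (g p.2)) (E2 p)).unique (AlgHom.ext e₁) (AlgHom.ext e₂))
  have hrsurj : Function.Surjective r := fun z => by
    induction z using TensorProduct.induction_on with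
    | zero => exact ⟨0, map_zero r⟩
    | tmul s c =>
      obtain ⟨a, rfl⟩ := Ideal.Quotient.mk_surjective s
      refine ⟨a • c, ?_⟩
      show (1 : S) ⊗ₜ[A] (a • c) = _
      rw [← TensorProduct.smul_tmul, Algebra.smul_def, mul_one, Ideal.Quotient.algebraMap_eq]
    | add x y hx hy =>
      obtain ⟨a, rfl⟩ := hx; obtain ⟨b, rfl⟩ := hy
      exact ⟨a + b, map_add r a b⟩
  have hrker : ∀ c, r c = 0 → ∃ c', c = f • c' := fun c hc => by
    rw [← mem_span_iff, ← Set.image_singleton (f := algebraMap A C), ← Ideal.map_span, ← Ideal.Quotient.eq_zero_iff_mem]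
    refine (Algebra.TensorProduct.quotIdealMapEquivTensorQuot C (Ideal.span {f})).injective ?_
    rw [map_zero]
    show TensorProduct.comm A S C ((1 : S) ⊗ₜ[A] c) = 0
    rw [show (1 : S) ⊗ₜ[A] c = 0 from hc, map_zero]
  -- the kernel and cokernel are supported away from `V(f)`
  let T : Set (PrimeSpectrum A) := Module.support A (LinearMap.ker φ.toLinearMap) ∪
    Module.support A (M ⧸ LinearMap.range φ.toLinearMap)
  have hTcl : IsClosed T := by
    refine IsClosed.union ?_ ?_ <;>
    · rw [Module.support_eq_zeroLocus]; exact PrimeSpectrum.isClosed_zeroLocus _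
  have hexi : ∀ p : PrimeSpectrum A, f ∈ p.asIdeal → ¬ maximalIdeal A ≤ p.asIdeal → ∃ i, g i ∉ p.asIdeal := by
    intro p hfp hm
    by_contra hcon
    push Not at hcon
    refine hm (hI.trans (p.2.radical_le_iff.2 ?_))
    rw [hspan, Ideal.span_le]
    rintro _ ⟨i, rfl⟩
    exact hcon i
  let π : ∀ i, M →ₐ[A] Cl Cb (g i) := fun i => (Pi.evalAlgHom A (fun j => Cl Cb (g j)) i).comp q
  have hT : ∀ p ∈ T, f ∈ p.asIdeal → maximalIdeal A ≤ p.asIdeal := by
    intro p hp hfp
    by_contra hm
    obtain ⟨i, hi⟩ := hexi p hfp hm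
    exact not_mem_support_compare f (g i) hnzM r hrsurj hrker φ (π i) (fun c => hqφ c i)
      (fun b hb => hqker b i hb) p hfp hi hp
  -- the idempotents
  let pt : ∀ h : A, PrimeSpectrum (Cl Cb h) → PrimeSpectrum C := fun h => PrimeSpectrum.comap (nat h).toRingHom
  have hpt : ∀ h, (h ∈ I ∨ h ∈ Ideal.span {f}) → ∀ P, pt h P ∈ Z := fun h hh P => by
    rw [hZ]
    refine ⟨?_, fun hle => ?_⟩
    · show nat h (algebraMap A C f) ∈ P.asIdeal
      rw [AlgHom.commutes, IsScalarTower.algebraMap_apply A S (Cl Cb h), Ideal.Quotient.algebraMap_eq,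
        Ideal.Quotient.eq_zero_iff_mem.2 (Ideal.mem_span_singleton_self f), map_zero]
      exact zero_mem _
    · have hh' : h ∈ maximalIdeal A := hh.elim (fun hh => hIm hh)
        fun hh => (Ideal.span_singleton_le_iff_mem _).2 hf hh
      refine P.2.ne_top (Ideal.eq_top_of_isUnit_mem _ (hle hh') ?_)
      show IsUnit (nat h (algebraMap A C h))
      rw [hnat, r.commutes]
      exact IsLocalization.Away.algebraMap_isUnit _
  have hidem : ∀ h, (h ∈ I ∨ h ∈ Ideal.span {f}) →
      ∃ e : Cl Cb h, IsIdempotentElem e ∧ ∀ P, e ∉ P.asIdeal ↔ pt h P ∈ D := fun h hh => by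
    obtain ⟨e, he, hP⟩ := PrimeSpectrum.exists_idempotent_basicOpen_eq_of_isClopen
      (s := (fun P => (⟨pt h P, hpt h hh P⟩ : Z)) ⁻¹' (Subtype.val ⁻¹' D))
      (hD.preimage ((PrimeSpectrum.continuous_comap _).subtype_mk _))
    exact ⟨e, he, fun P => (Set.ext_iff.1 hP P).symm⟩
  choose eb heb hebP using fun i => hidem _ (hgI' i)
  have hptr : ∀ {h h' : A} (hh : h ∣ h') P, pt h (PrimeSpectrum.comap (rCa Cb hh).toRingHom P) = pt h' P :=
    fun hh P => PrimeSpectrum.ext (Ideal.ext fun c => by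
      show rCa Cb hh (nat _ c) ∈ P.asIdeal ↔ nat _ c ∈ P.asIdeal
      rw [hnat, rCa_algebraMap, hnat])
  obtain ⟨e, he, hqe⟩ := hidlift eb (fun i => (heb i).eq) fun p => by
    refine PrimeSpectrum.basicOpen_injOn_isIdempotentElem ((heb p.1).map _) ((heb p.2).map _)
      (TopologicalSpace.Opens.ext (Set.ext fun P => ?_))
    show rCa Cb _ (eb p.1) ∉ P.asIdeal ↔ rCa Cb _ (eb p.2) ∉ P.asIdeal
    refine ((hebP p.1 (PrimeSpectrum.comap (rCa Cb (dvd_mul_right (g p.1) (g p.2))).toRingHom P)).trans ?_).trans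
      (hebP p.2 (PrimeSpectrum.comap (rCa Cb (dvd_mul_left (g p.2) (g p.1))).toRingHom P)).symm
    rw [hptr, hptr]
  obtain ⟨G, hG, hGP⟩ := clopen_of_idem φ e he T Set.subset_union_left Set.subset_union_right
  refine ⟨T, hTcl, hT, G, hG, fun x hx => ?_⟩
  rw [hZ] at hx
  obtain ⟨i, hi⟩ := hexi (PrimeSpectrum.comap (algebraMap A C) x) hx.1 hx.2
  -- the point of the reduction over `x`
  obtain ⟨P, rfl⟩ : ∃ P, pt (g i) P = x := by
    have hker : RingHom.ker r.toRingHom ≤ x.asIdeal := fun c hc => by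
      obtain ⟨c', rfl⟩ := hrker c hc
      rw [Algebra.smul_def]
      exact Ideal.mul_mem_right _ _ hx.1
    obtain ⟨Q, hQ⟩ : x ∈ Set.range (PrimeSpectrum.comap r.toRingHom) := by
      rw [range_comap_of_surjective _ r.toRingHom hrsurj]
      exact hker
    obtain ⟨P, hP⟩ : Q ∈ Set.range (PrimeSpectrum.comap (algebraMap Cb (Cl Cb (g i)))) := by
      rw [PrimeSpectrum.localization_away_comap_range (Cl Cb (g i)) (algebraMap A Cb (g i))]
      show algebraMap A Cb (g i) ∉ Q.asIdeal
      rw [← r.commutes]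
      exact fun h => hi (show algebraMap A C (g i) ∈ x.asIdeal by rw [← hQ]; exact h)
    exact ⟨P, by rw [← hQ, ← hP]; rfl⟩
  have h1 : PrimeSpectrum.comap φ.toRingHom (PrimeSpectrum.comap (π i).toRingHom P) = pt (g i) P :=
    PrimeSpectrum.ext (Ideal.ext fun c => by
      show q (φ c) i ∈ P.asIdeal ↔ nat (g i) c ∈ P.asIdeal
      rw [hqφ, hnat])
  have h2 : PrimeSpectrum.comap (algebraMap A M) (PrimeSpectrum.comap (π i).toRingHom P) ∉ T := by
    intro hmem
    refine hi ?_
    show nat (g i) (algebraMap A C (g i)) ∈ P.asIdeal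
    rw [AlgHom.commutes, ← AlgHom.commutes (π i)]
    refine hT _ hmem ?_ ?_
    · show π i (algebraMap A _ f) ∈ P.asIdeal
      rw [(π i).commutes, ← AlgHom.commutes (nat (g i))]
      exact hx.1
    · rcases hgI i with hI' | hI'
      · exact hIm hI'
      · rw [hI']; exact hf
  rw [← h1, hGP _ h2, h1, ← hebP i P]
  show q e i ∉ P.asIdeal ↔ _
  rw [hqe]

end

end Groth.Agent.P1Lef
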