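import Groth.Agent.P1Lef.Model
import Groth.Agent.P1Lef.IdemNbhd
import Groth.Agent.Pi1X.FEtFull
import Mathlib.Topology.NoetherianSpace

/-!
Restriction of finite étale covers from the neighbourhoods of the punctured hypersurface is fully faithful.
-/

universe u

open CategoryTheory CategoryTheory.Limits AlgebraicGeometry IsLocalRing Groth.Agent.Pi1Ext.RegPurity

set_option linter.style.haveILetI false
set_option backward.isDefEq.respectTransparency false
set_option backward.isDefEq.respectTransparency.types false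

noncomputable section

namespace Groth.Agent.P1Lef

/-- A Noetherian space has only finitely many clopen subsets. -/
theorem finite_clopens (α : Type u) [TopologicalSpace α] [TopologicalSpace.NoetherianSpace α] :
    {C : Set α | IsClopen C}.Finite := by
  let key : Set α → Set (Set α) := fun C => {Z | Z ∈ irreducibleComponents α ∧ Z ⊆ C}
  refine Set.Finite.of_finite_image ((TopologicalSpace.NoetherianSpace.finite_irreducibleComponents (α := α)).finite_subsets.subset
    (show key '' {C : Set α | IsClopen C} ⊆ {t | t ⊆ irreducibleComponents α} from ?_)) ?_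
  · rintro _ ⟨C, -, rfl⟩ Z hZ
    exact hZ.1
  · have hsub : ∀ C C' : Set α, IsClopen C → key C = key C' → C ⊆ C' := fun C C' hC h x hx => by
      have hZ : irreducibleComponent x ∈ key C :=
        ⟨irreducibleComponent_mem_irreducibleComponents x,
          isIrreducible_irreducibleComponent.isConnected.isPreconnected.subset_isClopen hC
            ⟨x, mem_irreducibleComponent, hx⟩⟩
      rw [h] at hZ
      exact hZ.2 mem_irreducibleComponent
    exact fun C hC C' hC' h => Set.Subset.antisymm (hsub C C' hC h) (hsub C' C hC' h.symm)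

variable {A : Type u} [CommRing A] [IsNoetherianRing A] [IsLocalRing A]

/-- Clopen subsets of the restriction of a cover to `V(f)` extend to a neighbourhood. -/
theorem exists_clopen_extend (f : A) (hf : f ∈ maximalIdeal A) [IsAdicComplete (Ideal.span {f}) A]
    (hnz : f ∈ nonZeroDivisors A)
    (h1 : Module.Finite A (LocCoh.H (maximalIdeal A) 1 (A ⧸ Ideal.span {f})))
    (U' : (Spec (CommRingCat.of A)).Opens) (hU' : U' ≤ FEt.puncturedSpec A) {X₀ : Scheme.{u}}
    (u' : X₀ ⟶ (U' : Scheme.{u})) [IsImmersion u']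
    (hrange : Set.range (u' ≫ U'.ι).base =
      {p : PrimeSpectrum A | f ∈ p.asIdeal ∧ ¬ maximalIdeal A ≤ p.asIdeal})
    (W : FEt.Cat (U' : Scheme.{u})) (D : Set ↥(pullback W.hom u')) (hD : IsClopen D) :
    ∃ U'' : (Spec (CommRingCat.of A)).Opens, U'' ≤ U' ∧
      Set.range (u' ≫ U'.ι).base ⊆ (U'' : Set (Spec (CommRingCat.of A))) ∧
      ∃ G : Set W.left, IsClopen (Subtype.val ⁻¹' G :
          Set ↥((W.hom ≫ U'.ι).base ⁻¹' (U'' : Set (Spec (CommRingCat.of A))))) ∧
        (pullback.fst W.hom u').base ⁻¹' G = D := by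
  obtain ⟨C, _, _, _, het, s, hs, hscomm, hsrange⟩ := exists_finite_of_open U' W
  let I : Ideal A := PrimeSpectrum.vanishingIdeal (show Set (PrimeSpectrum A) from ((U' : Set (Spec (CommRingCat.of A)))ᶜ))
  have hIU : ∀ a ∈ I, PrimeSpectrum.basicOpen a ≤ U' := fun a ha p hp => by
    by_contra hpU
    exact hp ((PrimeSpectrum.mem_vanishingIdeal _ a).1 ha p hpU)
  have hclosed : IsClosed (show Set (PrimeSpectrum A) from ((U' : Set (Spec (CommRingCat.of A)))ᶜ)) :=
    U'.2.isClosed_compl
  have hIm : I ≤ maximalIdeal A := fun a ha =>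
    (PrimeSpectrum.mem_vanishingIdeal _ a).1 ha (IsLocalRing.closedPoint A) fun h => hU' h rfl
  have hI : maximalIdeal A ≤ (I ⊔ Ideal.span {f}).radical := by
    rw [Ideal.radical_eq_sInf]
    refine le_sInf ?_
    rintro P ⟨hle, hP⟩
    by_contra hm
    have h1 : (⟨P, hP⟩ : PrimeSpectrum A) ∈ Set.range (u' ≫ U'.ι).base := by
      rw [hrange]
      exact ⟨hle (Ideal.mem_sup_right (Ideal.mem_span_singleton_self f)), hm⟩
    obtain ⟨y, hy⟩ := h1
    have h2 : (⟨P, hP⟩ : PrimeSpectrum A) ∈ PrimeSpectrum.zeroLocus (I : Set A) := fun a ha => hle (Ideal.mem_sup_left ha)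
    rw [PrimeSpectrum.zeroLocus_vanishingIdeal_eq_closure, hclosed.closure_eq] at h2
    refine h2 ?_
    rw [← hy, Scheme.Hom.comp_apply]
    exact (u'.base y).2
  let j := pullback.fst W.hom u'
  haveI : IsImmersion j := MorphismProperty.pullback_fst _ _ inferInstance
  let Z : Set (PrimeSpectrum C) :=
    {q | algebraMap A C f ∈ q.asIdeal ∧ ¬ maximalIdeal A ≤ q.asIdeal.comap (algebraMap A C)}
  have hemb : Topology.IsEmbedding (fun x => s (j.base x)) := hs.isEmbedding.comp j.isEmbedding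
  have hZ : Set.range (fun x => s (j.base x)) = Z := by
    refine Set.Subset.antisymm ?_ fun q hq => ?_
    · rintro _ ⟨x, rfl⟩
      have h := hrange.le (Set.mem_range_self ((pullback.snd W.hom u').base x))
      have he : (u' ≫ U'.ι).base ((pullback.snd W.hom u').base x) =
          PrimeSpectrum.comap (algebraMap A C) (s (j.base x)) := by
        refine Eq.trans ?_ (hscomm _).symm
        show (pullback.snd W.hom u' ≫ u' ≫ U'.ι).base x = (j ≫ W.hom ≫ U'.ι).base x
        rw [← pullback.condition_assoc]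
      rw [he] at h
      exact h
    · obtain ⟨y, hy⟩ : (PrimeSpectrum.comap (algebraMap A C) q : PrimeSpectrum A) ∈ Set.range (u' ≫ U'.ι).base := by
        rw [hrange]; exact hq
      obtain ⟨w, rfl⟩ : q ∈ Set.range s := by
        rw [hsrange]
        show (PrimeSpectrum.comap (algebraMap A C) q : PrimeSpectrum A) ∈ (U' : Set (Spec (CommRingCat.of A)))
        rw [← hy, Scheme.Hom.comp_apply]
        exact (u'.base y).2
      obtain ⟨x, hx, -⟩ := Scheme.Pullback.exists_preimage_pullback (f := W.hom) (g := u') w y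
        (U'.ι.isOpenEmbedding.injective (((hscomm w).symm.trans hy.symm).trans (Scheme.Hom.comp_apply _ _ _)))
      exact ⟨x, congrArg s hx⟩
  let D' : Set (PrimeSpectrum C) := (fun x => s (j.base x)) '' D
  have hD' : IsClopen (Subtype.val ⁻¹' D' : Set Z) := by
    have e : (Subtype.val ⁻¹' D' : Set Z) =
        (hemb.toHomeomorph.trans (Homeomorph.setCongr hZ)).symm ⁻¹' D := by
      ext z
      obtain ⟨x, hx⟩ := (hemb.toHomeomorph.trans (Homeomorph.setCongr hZ)).surjective z
      subst hx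
      rw [Set.mem_preimage, Set.mem_preimage, Homeomorph.symm_apply_apply]
      exact ⟨fun ⟨x', hx', he⟩ => hemb.injective he ▸ hx', fun h => ⟨x, h, rfl⟩⟩
    rw [e]
    exact hD.preimage (Homeomorph.continuous _)
  obtain ⟨T, hT, hTf, G, hG, hGD⟩ := exists_clopen_nbhd f hf hnz h1 I hIm hI C (fun a ha => het a (hIU a ha))
    Z rfl D' hD'
  let U'' : (Spec (CommRingCat.of A)).Opens := U' ⊓ ⟨Tᶜ, hT.isOpen_compl⟩
  refine ⟨U'', inf_le_left, ?_, s ⁻¹' G, ?_, ?_⟩
  · rintro _ ⟨y, rfl⟩
    refine ⟨by rw [Scheme.Hom.comp_apply]; exact (u'.base y).2, fun hmem => ?_⟩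
    have h := hrange.le (Set.mem_range_self y)
    exact h.2 (hTf _ hmem h.1)
  · refine hG.preimage (f := fun w : ↥((W.hom ≫ U'.ι).base ⁻¹' (U'' : Set (Spec (CommRingCat.of A)))) =>
      (⟨s w.1, show PrimeSpectrum.comap (algebraMap A C) (s w.1) ∉ T from by
        rw [hscomm]; exact w.2.2⟩ :
        ↥(PrimeSpectrum.comap (algebraMap A C) ⁻¹' Tᶜ))) ?_
    exact (hs.continuous.comp continuous_subtype_val).subtype_mk _
  · ext x
    show s (j.base x) ∈ G ↔ x ∈ D
    rw [hGD _ (hZ.le ⟨x, rfl⟩)]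
    exact ⟨fun ⟨x', hx', he⟩ => hemb.injective he ▸ hx', fun h => ⟨x, h, rfl⟩⟩

/-- Shrinking an open around a subset so that every clopen subset meets it. -/
theorem exists_shrink {A : Type u} [CommRing A] [IsNoetherianRing A] (U₁ : (Spec (CommRingCat.of A)).Opens)
    (S : Set (Spec (CommRingCat.of A))) (hS : S ⊆ (U₁ : Set (Spec (CommRingCat.of A)))) :
    ∃ U₂ : (Spec (CommRingCat.of A)).Opens, U₂ ≤ U₁ ∧ S ⊆ (U₂ : Set (Spec (CommRingCat.of A))) ∧
      ∀ C : Set (U₂ : Scheme.{u}), IsClopen C → C.Nonempty → (C ∩ U₂.ι.base ⁻¹' S).Nonempty := by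
  haveI : TopologicalSpace.NoetherianSpace (Spec (CommRingCat.of A)) :=
    inferInstanceAs (TopologicalSpace.NoetherianSpace (PrimeSpectrum A))
  haveI : TopologicalSpace.NoetherianSpace (U₁ : Scheme.{u}) :=
    U₁.ι.isOpenEmbedding.isEmbedding.isInducing.noetherianSpace
  let bad : Set (Set (U₁ : Scheme.{u})) := {C | IsClopen C ∧ Disjoint C (U₁.ι.base ⁻¹' S)}
  have hbad : bad.Finite := (finite_clopens _).subset fun C hC => hC.1
  let B := ⋃ C ∈ bad, C
  have hB : IsClopen B := hbad.isClopen_biUnion fun C hC => hC.1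
  let U₂ : (Spec (CommRingCat.of A)).Opens :=
    ⟨U₁.ι.base '' Bᶜ, U₁.ι.isOpenEmbedding.isOpenMap _ hB.compl.2⟩
  have hle : U₂ ≤ U₁ := by
    rintro _ ⟨x, -, rfl⟩
    exact x.2
  refine ⟨U₂, hle, fun p hp => ⟨⟨p, hS hp⟩, fun hB' => ?_, rfl⟩, fun C hC hne => ?_⟩
  · obtain ⟨C, hC, hpC⟩ := Set.mem_iUnion₂.1 hB'
    exact Set.disjoint_left.1 hC.2 hpC hp
  · by_contra hcon
    let t : (U₂ : Scheme.{u}) ⟶ (U₁ : Scheme.{u}) := (Spec (CommRingCat.of A)).homOfLE hle
    have ht : ∀ y, U₁.ι.base (t.base y) = U₂.ι.base y := fun y => by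
      rw [← Scheme.Hom.comp_apply, Scheme.homOfLE_ι]
    have hemb : Topology.IsOpenEmbedding t.base := t.isOpenEmbedding
    have hrt : Set.range t.base = Bᶜ := by
      refine Set.Subset.antisymm ?_ fun x hx => ?_
      · rintro _ ⟨y, rfl⟩
        obtain ⟨x, hx, hxy⟩ := y.2
        have : x = t.base y := U₁.ι.isOpenEmbedding.injective ((ht y).trans hxy.symm).symm
        exact this ▸ hx
      · exact ⟨⟨U₁.ι.base x, x, hx, rfl⟩, U₁.ι.isOpenEmbedding.injective (ht _)⟩
    have hcl : IsClosed (Set.range t.base) := hrt ▸ hB.compl.1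
    have hmem : t.base '' C ∈ bad := by
      refine ⟨⟨(Topology.IsClosedEmbedding.mk hemb.isEmbedding hcl).isClosedMap _ hC.1, hemb.isOpenMap _ hC.2⟩,
        Set.disjoint_left.2 ?_⟩
      rintro _ ⟨y, hy, rfl⟩ hyS
      exact hcon ⟨y, hy, show U₂.ι.base y ∈ S from ht y ▸ hyS⟩
    obtain ⟨y, hy⟩ := hne
    exact (hrt.le (Set.mem_range_self y)) (Set.mem_biUnion hmem ⟨y, hy, rfl⟩)

/-- Full faithfulness on the neighbourhoods. -/
theorem nhds_fullyFaithful (f : A) (hf : f ∈ maximalIdeal A) [IsAdicComplete (Ideal.span {f}) A]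
    (hnz : f ∈ nonZeroDivisors A)
    (h1 : Module.Finite A (LocCoh.H (maximalIdeal A) 1 (A ⧸ Ideal.span {f})))
    (U' : (Spec (CommRingCat.of A)).Opens) (hU' : U' ≤ FEt.puncturedSpec A) {X₀ : Scheme.{u}}
    (u' : X₀ ⟶ (U' : Scheme.{u})) [IsImmersion u']
    (hrange : Set.range (u' ≫ U'.ι).base =
      {p : PrimeSpectrum A | f ∈ p.asIdeal ∧ ¬ maximalIdeal A ≤ p.asIdeal})
    (V W : FEt.Cat (U' : Scheme.{u})) :
    (∀ φ₀ : (FEt.restrict u').obj V ⟶ (FEt.restrict u').obj W,
      ∃ (U'' : (Spec (CommRingCat.of A)).Opens) (h : U'' ≤ U') (u'' : X₀ ⟶ (U'' : Scheme.{u}))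
        (hu : u'' ≫ (Spec (CommRingCat.of A)).homOfLE h = u')
        (φ : (FEt.restrict ((Spec (CommRingCat.of A)).homOfLE h)).obj V ⟶
          (FEt.restrict ((Spec (CommRingCat.of A)).homOfLE h)).obj W),
        (FEt.restrict u'').map φ =
          (MorphismProperty.Over.pullbackComp u'' ((Spec (CommRingCat.of A)).homOfLE h) u' hu.symm).inv.app V ≫ φ₀ ≫
            (MorphismProperty.Over.pullbackComp u'' ((Spec (CommRingCat.of A)).homOfLE h) u' hu.symm).hom.app W) ∧
    (∀ φ ψ : V ⟶ W, (FEt.restrict u').map φ = (FEt.restrict u').map ψ →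
      ∃ (U'' : (Spec (CommRingCat.of A)).Opens) (h : U'' ≤ U') (u'' : X₀ ⟶ (U'' : Scheme.{u})),
        u'' ≫ (Spec (CommRingCat.of A)).homOfLE h = u' ∧
        (FEt.restrict ((Spec (CommRingCat.of A)).homOfLE h)).map φ =
          (FEt.restrict ((Spec (CommRingCat.of A)).homOfLE h)).map ψ) := by
  haveI : TopologicalSpace.NoetherianSpace (Spec (CommRingCat.of A)) :=
    inferInstanceAs (TopologicalSpace.NoetherianSpace (PrimeSpectrum A))
  have factor : ∀ (U₂ : (Spec (CommRingCat.of A)).Opens) (h : U₂ ≤ U'),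
      Set.range (u' ≫ U'.ι).base ⊆ (U₂ : Set (Spec (CommRingCat.of A))) →
      ∃ u'' : X₀ ⟶ (U₂ : Scheme.{u}), u'' ≫ (Spec (CommRingCat.of A)).homOfLE h = u' ∧
        U₂.ι.base ⁻¹' Set.range (u' ≫ U'.ι).base = Set.range u''.base := by
    intro U₂ h hS
    let u'' := IsOpenImmersion.lift U₂.ι (u' ≫ U'.ι) (by rw [Scheme.Opens.range_ι]; exact hS)
    have hu'' : u'' ≫ U₂.ι = u' ≫ U'.ι := IsOpenImmersion.lift_fac _ _ _
    refine ⟨u'', ?_, Set.Subset.antisymm ?_ ?_⟩
    · rw [← cancel_mono U'.ι, Category.assoc, Scheme.homOfLE_ι, hu'']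
    · rintro y ⟨x, hx⟩
      exact ⟨x, U₂.ι.isOpenEmbedding.injective (by rw [← Scheme.Hom.comp_apply, hu'', hx])⟩
    · rintro _ ⟨x, rfl⟩
      exact ⟨x, by rw [← hu'', Scheme.Hom.comp_apply]⟩
  have hS₀ : Set.range (u' ≫ U'.ι).base ⊆ (U' : Set (Spec (CommRingCat.of A))) := by
    rintro _ ⟨y, rfl⟩
    rw [Scheme.Hom.comp_apply]
    exact (u'.base y).2
  refine ⟨fun φ₀ => ?_, fun φ ψ hφψ => ?_⟩
  · -- the graph
    let P : FEt.Cat (U' : Scheme.{u}) := MorphismProperty.Over.mk ⊤ (pullback.fst V.hom W.hom ≫ V.hom)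
      (MorphismProperty.comp_mem _ _ _ (MorphismProperty.pullback_fst _ _ W.prop) V.prop)
    haveI : TopologicalSpace.NoetherianSpace (U' : Scheme.{u}) :=
      U'.ι.isOpenEmbedding.isEmbedding.isInducing.noetherianSpace
    obtain ⟨C, _, _, _, -, s, hs, -, -⟩ := exists_finite_of_open U' P
    haveI : IsNoetherianRing C := IsNoetherianRing.of_finite A C
    haveI : TopologicalSpace.NoetherianSpace ↥(pullback P.hom u') := by
      haveI : IsImmersion (pullback.fst P.hom u') := MorphismProperty.pullback_fst _ _ inferInstance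
      exact (hs.isEmbedding.comp (pullback.fst P.hom u').isEmbedding).isInducing.noetherianSpace
    choose UC hUC₁ hUC₂ GC hGC hGCD using
      fun D : {D : Set ↥(pullback P.hom u') // IsClopen D} => exists_clopen_extend f hf hnz h1 U' hU' u' hrange P D.1 D.2
    haveI : Finite {D : Set ↥(pullback P.hom u') // IsClopen D} := (finite_clopens _).to_subtype
    let U₁ : (Spec (CommRingCat.of A)).Opens :=
      ⟨(U' : Set (Spec (CommRingCat.of A))) ∩ ⋂ D, (UC D : Set (Spec (CommRingCat.of A))),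
        U'.2.inter (isOpen_iInter_of_finite fun D => (UC D).2)⟩
    obtain ⟨U₂, h₂₁, hS₂, hmeet⟩ := exists_shrink U₁ (Set.range (u' ≫ U'.ι).base)
      (Set.subset_inter hS₀ (Set.subset_iInter hUC₂))
    have h : U₂ ≤ U' := fun p hp => (h₂₁ hp).1
    obtain ⟨u'', hu, hr⟩ := factor U₂ h hS₂
    refine ⟨U₂, h, u'', hu, ?_⟩
    let t := (Spec (CommRingCat.of A)).homOfLE h
    let V₂ := (FEt.restrict t).obj V
    let W₂ := (FEt.restrict t).obj W
    refine Pi1X.exists_map_of_graph u'' (fun D hD hne => ?_) (fun D hD => ?_) _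
    · rw [← hr]
      exact hmeet D hD hne
    · have h1 : pullback.snd V.hom t = V₂.hom := rfl
      let μ : pullback V₂.hom W₂.hom ⟶ P.left := pullback.lift
        (pullback.fst V₂.hom W₂.hom ≫ pullback.fst V.hom t) (pullback.snd V₂.hom W₂.hom ≫ pullback.fst W.hom t) (by
          rw [Category.assoc, Category.assoc, pullback.condition, pullback.condition (f := W.hom) (g := t)]
          exact pullback.condition_assoc t)
      have hμ : μ ≫ P.hom = (pullback.fst V₂.hom W₂.hom ≫ V₂.hom) ≫ t := by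
        show μ ≫ pullback.fst V.hom W.hom ≫ V.hom = _
        rw [pullback.lift_fst_assoc, Category.assoc, pullback.condition]
        rfl
      let m : pullback (pullback.fst V₂.hom W₂.hom ≫ V₂.hom) u'' ⟶ pullback P.hom u' :=
        pullback.lift (pullback.fst _ _ ≫ μ) (pullback.snd _ _) (by
          rw [Category.assoc, hμ, pullback.condition_assoc, hu])
      let mi : pullback P.hom u' ⟶ pullback (pullback.fst V₂.hom W₂.hom ≫ V₂.hom) u'' :=
        pullback.lift (pullback.lift
          (pullback.lift (pullback.fst P.hom u' ≫ pullback.fst V.hom W.hom) (pullback.snd P.hom u' ≫ u'') (by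
            rw [Category.assoc, Category.assoc, hu]
            exact pullback.condition))
          (pullback.lift (pullback.fst P.hom u' ≫ pullback.snd V.hom W.hom) (pullback.snd P.hom u' ≫ u'') (by
            rw [Category.assoc, Category.assoc, hu, ← pullback.condition (f := V.hom)]
            exact pullback.condition)) (by
            show pullback.lift _ _ _ ≫ pullback.snd V.hom t = pullback.lift _ _ _ ≫ pullback.snd W.hom t
            rw [pullback.lift_snd, pullback.lift_snd]))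
          (pullback.snd P.hom u') (by
            rw [pullback.lift_fst_assoc]
            exact pullback.lift_snd _ _ _)
      have hm1 : m ≫ mi = 𝟙 _ := by
        refine pullback.hom_ext (pullback.hom_ext (pullback.hom_ext ?_ ?_) (pullback.hom_ext ?_ ?_)) ?_ <;>
          simp [m, mi, μ, V₂, W₂]
        · exact ((pullback.condition (f := pullback.fst V₂.hom W₂.hom ≫ V₂.hom) (g := u'')).symm.trans
            (Category.assoc _ _ _).symm).trans (Category.assoc _ _ _)
        · exact ((pullback.condition (f := pullback.fst V₂.hom W₂.hom ≫ V₂.hom) (g := u'')).symm).trans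
            (congrArg (_ ≫ ·) (pullback.condition (f := V₂.hom) (g := W₂.hom)))
      have hm2 : mi ≫ m = 𝟙 _ := by
        refine pullback.hom_ext (pullback.hom_ext ?_ ?_) ?_ <;> simp [m, mi, μ, V₂, W₂]
      have hDm : IsClopen (mi.base ⁻¹' D) := hD.preimage mi.continuous
      let G := μ.base ⁻¹' GC ⟨_, hDm⟩
      have hin : ∀ z, (P.hom ≫ U'.ι).base (μ.base z) ∈ (UC ⟨_, hDm⟩ : Set (Spec (CommRingCat.of A))) := fun z => by
        have hc : μ ≫ P.hom ≫ U'.ι = (pullback.fst V₂.hom W₂.hom ≫ V₂.hom) ≫ U₂.ι := by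
          rw [← Category.assoc, hμ, Category.assoc, Scheme.homOfLE_ι]
        show (μ ≫ P.hom ≫ U'.ι).base z ∈ _
        rw [hc]
        exact Set.mem_iInter.1 (h₂₁ (((pullback.fst V₂.hom W₂.hom ≫ V₂.hom).base z).2)).2 _
      refine ⟨G, (hGC ⟨_, hDm⟩).preimage (f := fun z => (⟨μ.base z, hin z⟩ :
          ↥((P.hom ≫ U'.ι).base ⁻¹' (UC ⟨_, hDm⟩ : Set (Spec (CommRingCat.of A))))))
        (μ.continuous.subtype_mk _), ?_⟩
      have hμm : pullback.fst (pullback.fst V₂.hom W₂.hom ≫ V₂.hom) u'' ≫ μ = m ≫ pullback.fst P.hom u' :=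
        (pullback.lift_fst _ _ _).symm
      ext x
      show μ.base ((pullback.fst (pullback.fst V₂.hom W₂.hom ≫ V₂.hom) u'').base x) ∈ GC ⟨_, hDm⟩ ↔ x ∈ D
      rw [← Scheme.Hom.comp_apply, hμm, Scheme.Hom.comp_apply]
      refine (Set.ext_iff.1 (hGCD ⟨_, hDm⟩) (m.base x)).trans ?_
      show mi.base (m.base x) ∈ D ↔ _
      rw [← Scheme.Hom.comp_apply, hm1]
      exact Iff.rfl
  · obtain ⟨U₂, h₂₁, hS₂, hmeet⟩ := exists_shrink U' (Set.range (u' ≫ U'.ι).base) hS₀
    obtain ⟨u'', hu, hr⟩ := factor U₂ h₂₁ hS₂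
    refine ⟨U₂, h₂₁, u'', hu, ?_⟩
    haveI := Pi1X.restrict_faithful u'' fun D hD hne => by rw [← hr]; exact hmeet D hD hne
    refine (FEt.restrict u'').map_injective ?_
    let t := (Spec (CommRingCat.of A)).homOfLE h₂₁
    let e := MorphismProperty.Over.pullbackComp (P := FEt.prop) (Q := ⊤) u'' t u' hu.symm
    have n1 := e.hom.naturality φ
    have n2 := e.hom.naturality ψ
    rw [show (MorphismProperty.Over.pullback FEt.prop ⊤ u').map φ =
      (MorphismProperty.Over.pullback FEt.prop ⊤ u').map ψ from hφψ, n2] at n1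
    exact ((cancel_epi (e.hom.app V)).1 n1).symm

end Groth.Agent.P1Lef
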