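import Groth.Agent.Hensel.LiftEtaleAlg
import Groth.Agent.Adic7.Lift
import Mathlib.RingTheory.TensorProduct.Quotient
import Mathlib.RingTheory.Flat.TorsionFree
import Mathlib.RingTheory.Etale.Basic

/-!
The `f`-adically complete lift of an étale algebra over `A/fA`, with its universal property.
-/

universe u

open scoped TensorProduct

set_option linter.style.haveILetI false

noncomputable section

namespace Groth.Agent.P1Lef

/-- A complete lift of the `A`-algebra `C` along `f`. -/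
structure CLift (A : Type u) [CommRing A] (f : A) (C : Type u) [CommRing C] [Algebra A C] where
  /-- the ring -/
  E : Type u
  [commRing : CommRing E]
  [algebra : Algebra A E]
  /-- the reduction -/
  π : E →ₐ[A] C
  surj : Function.Surjective π
  ker_iff : ∀ x, π x = 0 ↔ ∃ y, x = f • y
  complete : IsAdicComplete (Ideal.span {algebraMap A E f}) E
  nzd : ∀ x : E, f • x = 0 → x = 0
  univ : ∀ (R C' : Type u) [CommRing R] [Algebra A R] [IsAdicComplete (Ideal.span {algebraMap A R f}) R]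
    [CommRing C'] [Algebra A C'] (π' : R →ₐ[A] C') (_ : Function.Surjective π')
    (_ : ∀ x, π' x = 0 ↔ ∃ y, x = f • y) (φ : E →ₐ[A] C'), ∃! ψ : E →ₐ[A] R, π'.comp ψ = φ

attribute [instance] CLift.commRing CLift.algebra

variable {A : Type u} [CommRing A]

theorem mem_span_iff {R : Type u} [CommRing R] [Algebra A R] (f : A) (x : R) :
    x ∈ Ideal.span {algebraMap A R f} ↔ ∃ y, x = f • y := by
  rw [Ideal.mem_span_singleton']
  exact exists_congr fun y => by rw [Algebra.smul_def, mul_comm, eq_comm]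

/-- Lifting maps out of an étale algebra into a complete ring. -/
theorem existsUnique_lift_of_etale {f : A} {D R C' : Type u} [CommRing D] [Algebra A D]
    [Algebra.Etale A D] [CommRing R] [Algebra A R] [IsAdicComplete (Ideal.span {algebraMap A R f}) R]
    [CommRing C'] [Algebra A C'] (π' : R →ₐ[A] C') (hs : Function.Surjective π')
    (hk : ∀ x, π' x = 0 ↔ ∃ y, x = f • y) (φ : D →ₐ[A] C') :
    ∃! ψ : D →ₐ[A] R, π'.comp ψ = φ := by
  let K : Ideal R := Ideal.span {algebraMap A R f}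
  let p : ∀ n, R ⧸ K ^ (n + 1) →ₐ[A] C' := fun n => Ideal.Quotient.liftₐ _ π' fun x hx =>
    (hk x).2 ((mem_span_iff f x).1 (Ideal.pow_le_self n.succ_ne_zero hx))
  have hp : ∀ n x, p n (Ideal.Quotient.mk _ x) = π' x := fun n x => rfl
  have hps : ∀ n, Function.Surjective (p n) := fun n c => by
    obtain ⟨x, rfl⟩ := hs c; exact ⟨Ideal.Quotient.mk _ x, hp n x⟩
  have hpn : ∀ n, IsNilpotent (RingHom.ker (p n : R ⧸ K ^ (n + 1) →+* C')) := fun n => by
    refine ⟨n + 1, le_bot_iff.1 (le_trans ?_ (Ideal.map_quotient_self (K ^ (n + 1))).le)⟩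
    rw [Ideal.map_pow]
    refine Ideal.pow_right_mono (fun z hz => ?_) _
    obtain ⟨x, rfl⟩ := Ideal.Quotient.mk_surjective z
    exact Ideal.mem_map_of_mem _ ((mem_span_iff f x).2 ((hk x).1 hz))
  let ψn : ∀ n, D →ₐ[A] R ⧸ K ^ (n + 1) := fun n =>
    Algebra.FormallySmooth.liftOfSurjective φ (p n) (hps n) (hpn n)
  have hψn : ∀ n x, p n (ψn n x) = φ x := fun n x =>
    Algebra.FormallySmooth.liftOfSurjective_apply _ _ _ (hpn n) x
  have hcomp : ∀ {m n : ℕ} (h : m ≤ n),
      (Ideal.Quotient.factorₐ A (Ideal.pow_le_pow_right (Nat.succ_le_succ h) : K ^ (n + 1) ≤ K ^ (m + 1))).comp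
        (ψn n) = ψn m := fun {m n} h => by
    refine Algebra.FormallyUnramified.ext' (p m : R ⧸ K ^ (m + 1) →+* C') (hpn m) _ _ fun x => ?_
    show p m (Ideal.Quotient.factor (Ideal.pow_le_pow_right (Nat.succ_le_succ h) : K ^ (n + 1) ≤ K ^ (m + 1)) (ψn n x)) = p m (ψn m x)
    rw [hψn]
    obtain ⟨r, hr⟩ := Ideal.Quotient.mk_surjective (ψn n x)
    rw [← hr, Ideal.Quotient.factor_mk, hp, ← hp n, hr, hψn]
  let fn : ∀ n, D →ₐ[A] R ⧸ K ^ n := fun n =>
    (Ideal.Quotient.factorₐ A (Ideal.pow_le_pow_right n.le_succ)).comp (ψn n)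
  have hfn : ∀ {m n : ℕ} (h : m ≤ n),
      (Ideal.Quotient.factorₐ A (Ideal.pow_le_pow_right h)).comp (fn n) = fn m := fun {m n} h => by
    show _ = (Ideal.Quotient.factorₐ A _).comp (ψn m)
    rw [← hcomp h]
    refine AlgHom.ext fun x => ?_
    obtain ⟨r, hr⟩ := Ideal.Quotient.mk_surjective (ψn n x)
    simp only [fn, AlgHom.coe_comp, Function.comp_apply, ← hr]
    rfl
  let ψ : D →ₐ[A] R := IsAdicComplete.liftAlgHom K fn hfn
  refine ⟨ψ, AlgHom.ext fun x => ?_, fun ψ' hψ' => AlgHom.ext fun x => ?_⟩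
  · obtain ⟨r, hr⟩ := Ideal.Quotient.mk_surjective (ψn 1 x)
    have h1 : Ideal.Quotient.mk (K ^ 1) (ψ x) = Ideal.Quotient.mk (K ^ 1) r := by
      rw [IsAdicComplete.mk_liftAlgHom]
      show Ideal.Quotient.factor (Ideal.pow_le_pow_right (Nat.le_succ 1) : K ^ (1 + 1) ≤ K ^ 1) (ψn 1 x) = _
      rw [← hr, Ideal.Quotient.factor_mk]
    rw [Ideal.Quotient.eq, pow_one] at h1
    show π' (ψ x) = φ x
    rw [← hψn 1, ← hr, hp, ← sub_eq_zero, ← map_sub]
    exact (hk _).2 ((mem_span_iff f _).1 h1)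
  · refine (IsHausdorff.eq_iff_smodEq (I := K)).2 fun n => ?_
    rw [SModEq.sub_mem, Ideal.smul_eq_mul, Ideal.mul_top, ← Ideal.Quotient.eq, IsAdicComplete.mk_liftAlgHom]
    have h2 : (Ideal.Quotient.mkₐ A (K ^ (n + 1))).comp ψ' = ψn n :=
      Algebra.FormallyUnramified.ext' (p n : R ⧸ K ^ (n + 1) →+* C') (hpn n) _ _ fun z => by
        show p n (Ideal.Quotient.mk _ (ψ' z)) = p n (ψn n z)
        rw [hψn, hp, ← hψ']
        rfl
    show _ = Ideal.Quotient.factor (Ideal.pow_le_pow_right n.le_succ : K ^ (n + 1) ≤ K ^ n) (ψn n x)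
    rw [← h2]
    rfl

theorem exists_cLift (f : A) (hf : f ∈ nonZeroDivisors A) (C : Type u) [CommRing C] [Algebra A C]
    [Algebra (A ⧸ Ideal.span {f}) C] [IsScalarTower A (A ⧸ Ideal.span {f}) C]
    [Algebra.Etale (A ⧸ Ideal.span {f}) C] : Nonempty (CLift A f C) := by
  obtain ⟨D, _, _, _, ⟨e⟩⟩ := Hensel.exists_etale_algebra_lift (A := A) (T := A ⧸ Ideal.span {f})
    (C := C) Ideal.Quotient.mk_surjective
  let J : Ideal D := Ideal.span {algebraMap A D f}
  let π₀ : D →ₐ[A] C := (e.restrictScalars A).toAlgHom.comp Algebra.TensorProduct.includeRight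
  have hπ₀ : ∀ d, π₀ d = e (1 ⊗ₜ d) := fun d => rfl
  have hsurj₀ : Function.Surjective π₀ := fun c => by
    obtain ⟨z, rfl⟩ := e.surjective c
    suffices h : ∃ d : D, (1 : A ⧸ Ideal.span {f}) ⊗ₜ[A] d = z by
      obtain ⟨d, hd⟩ := h; exact ⟨d, (hπ₀ d).trans (congrArg e hd)⟩
    induction z using TensorProduct.induction_on with
    | zero => exact ⟨0, TensorProduct.tmul_zero _ _⟩
    | tmul t d =>
      obtain ⟨a, rfl⟩ := Ideal.Quotient.mk_surjective t
      refine ⟨a • d, ?_⟩
      rw [← TensorProduct.smul_tmul, Algebra.smul_def, mul_one, Ideal.Quotient.algebraMap_eq]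
    | add x y hx hy =>
      obtain ⟨a, rfl⟩ := hx; obtain ⟨b, rfl⟩ := hy
      exact ⟨a + b, TensorProduct.tmul_add _ _ _⟩
  have hker₀ : ∀ d, π₀ d = 0 ↔ d ∈ J := fun d => by
    let eq := Algebra.TensorProduct.quotIdealMapEquivTensorQuot D (Ideal.span {f})
    have h1 : eq (Ideal.Quotient.mk _ d) = TensorProduct.comm A _ D ((1 : A ⧸ Ideal.span {f}) ⊗ₜ[A] d) := rfl
    rw [hπ₀, map_eq_zero_iff e e.injective, ← map_eq_zero_iff _ (TensorProduct.comm A _ D).injective,
      ← h1, map_eq_zero_iff _ eq.injective, Ideal.Quotient.eq_zero_iff_mem, Ideal.map_span,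
      Set.image_singleton]
  let π₁ : (D ⧸ J) →ₐ[A] C := Ideal.Quotient.liftₐ J π₀ fun d hd => (hker₀ d).2 hd
  have hπ₁ : ∀ d, π₁ (Ideal.Quotient.mk J d) = π₀ d := fun d => rfl
  let π : AdicCompletion J D →ₐ[A] C := π₁.comp ((AdicCompletion.evalOneₐ J).restrictScalars A)
  have hJ : J.FG := ⟨{algebraMap A D f}, by simp [J]⟩
  have hmap : J.map (algebraMap D (AdicCompletion J D)) = Ideal.span {algebraMap A (AdicCompletion J D) f} := by
    rw [Ideal.map_span, Set.image_singleton, ← IsScalarTower.algebraMap_apply]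
  have hcomp : IsAdicComplete (Ideal.span {algebraMap A (AdicCompletion J D) f}) (AdicCompletion J D) :=
    hmap ▸ Adic7.isAdicComplete_completion J hJ
  have hker : ∀ x, π x = 0 ↔ ∃ y, x = f • y := fun x => by
    rw [← mem_span_iff, ← hmap, ← AdicCompletion.ker_evalOneₐ_eq_map J hJ, RingHom.mem_ker]
    obtain ⟨d, hd⟩ := Ideal.Quotient.mk_surjective (AdicCompletion.evalOneₐ J x)
    show π₁ (AdicCompletion.evalOneₐ J x) = 0 ↔ AdicCompletion.evalOneₐ J x = 0
    rw [← hd, hπ₁, hker₀, Ideal.Quotient.eq_zero_iff_mem]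
  have hsurj : Function.Surjective π := fun c => by
    obtain ⟨d, rfl⟩ := hsurj₀ c
    obtain ⟨x, hx⟩ := AdicCompletion.evalOneₐ_surjective J (Ideal.Quotient.mk J d)
    exact ⟨x, (congrArg π₁ hx).trans (hπ₁ d)⟩
  haveI : Module.Flat A D := inferInstance
  have hnzD : ∀ d : D, f • d = 0 → d = 0 := fun d hd =>
    Module.Flat.isSMulRegular_of_nonZeroDivisors (M := D) hf (hd.trans (smul_zero f).symm)
  have hpow : ∀ n, J ^ n = Ideal.span {algebraMap A D (f ^ n)} := fun n => by
    rw [Ideal.span_singleton_pow, map_pow]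
  refine ⟨⟨AdicCompletion J D, π, hsurj, hker, hcomp, fun x hx => ?_, ?_⟩⟩
  · haveI := hcomp
    refine (IsHausdorff.eq_iff_smodEq (I := Ideal.span {algebraMap A (AdicCompletion J D) f})).2
      fun n => ?_
    rw [SModEq.sub_mem, Ideal.smul_eq_mul, Ideal.mul_top, sub_zero, ← hmap, ← Ideal.map_pow]
    obtain ⟨d, hd⟩ := Adic7.exists_sub_algebraMap_mem J hJ x (n + 1)
    rw [← Ideal.map_pow] at hd
    have hd' : x - algebraMap D _ d ∈ (J ^ n).map (algebraMap D (AdicCompletion J D)) :=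
      Ideal.map_mono (Ideal.pow_le_pow_right n.le_succ) hd
    suffices h : d ∈ J ^ n by
      simpa using add_mem hd' (Ideal.mem_map_of_mem (algebraMap D (AdicCompletion J D)) h)
    have h0 : AdicCompletion.evalₐ J (n + 1) (algebraMap A (AdicCompletion J D) f *
        (x - algebraMap D _ d)) = 0 := by
      refine (Ideal.map_le_iff_le_comap.2 fun j hj => ?_ :
        (J ^ (n + 1)).map (algebraMap D (AdicCompletion J D)) ≤
          RingHom.ker (AdicCompletion.evalₐ J (n + 1))) (Ideal.mul_mem_left _ _ hd)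
      show AdicCompletion.evalₐ J (n + 1) (algebraMap D _ j) = 0
      rw [AlgHom.commutes]
      exact Ideal.Quotient.eq_zero_iff_mem.2 hj
    rw [mul_sub, ← Algebra.smul_def, hx, zero_sub, map_neg, neg_eq_zero,
      IsScalarTower.algebraMap_apply A D (AdicCompletion J D), ← map_mul, AlgHom.commutes,
      Ideal.Quotient.algebraMap_eq, Ideal.Quotient.eq_zero_iff_mem, hpow, mem_span_iff] at h0
    obtain ⟨y, hy⟩ := h0
    rw [← Algebra.smul_def, pow_succ', mul_smul] at hy
    rw [hpow, mem_span_iff]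
    exact ⟨y, sub_eq_zero.1 (hnzD _ (by rw [smul_sub, sub_eq_zero]; exact hy))⟩
  · intro R C' _ _ _ _ _ π' hs hk φ
    let ι : D →ₐ[A] AdicCompletion J D := IsScalarTower.toAlgHom A D (AdicCompletion J D)
    obtain ⟨ψ₀, hψ₀, huniq⟩ := existsUnique_lift_of_etale π' hs hk (φ.comp ι)
    let K : Ideal R := Ideal.span {algebraMap A R f}
    have hle : ∀ F : AdicCompletion J D →ₐ[A] R,
        (J.map (algebraMap D (AdicCompletion J D))).map F ≤ K := fun F => by
      rw [hmap, Ideal.map_span, Set.image_singleton, AlgHom.commutes]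
    obtain ⟨F, hF⟩ := Adic7.exists_lift_completion J K ψ₀ (by
      rw [Ideal.map_span, Set.image_singleton, AlgHom.commutes])
    have hπF : π'.comp F = φ := by
      have h0 : ∀ G : AdicCompletion J D →ₐ[A] C',
          G (algebraMap A (AdicCompletion J D) f) = 0 := fun G => by
        rw [AlgHom.commutes, ← AlgHom.commutes π']
        exact (hk _).2 ⟨1, by rw [Algebra.smul_def, mul_one]⟩
      refine Adic7.algHom_ext_completion J hJ ⊥ _ _ ?_ ?_ fun s => ?_
      · rw [hmap, Ideal.map_span, Set.image_singleton, h0]; simp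
      · rw [hmap, Ideal.map_span, Set.image_singleton, h0]; simp
      · show π' (F (algebraMap D _ s)) = φ (ι s)
        rw [hF]
        exact AlgHom.congr_fun hψ₀ s
    refine ⟨F, hπF, fun G hG => Adic7.algHom_ext_completion J hJ K _ _ (hle G) (hle F) fun s => ?_⟩
    have := huniq (G.comp ι) (by show π'.comp (G.comp ι) = φ.comp ι; rw [← AlgHom.comp_assoc]; exact congrArg (fun h : _ →ₐ[A] C' => h.comp ι) hG)
    rw [hF]
    exact AlgHom.congr_fun this s

end Groth.Agent.P1Lef
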