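import Groth.Agent.Pi1Ext.PuritySch
import Mathlib.RingTheory.Spectrum.Prime.Topology

/-!
A finite étale cover of an open subset of the spectrum of a Noetherian ring is the restriction of a finite
algebra.
-/

universe u

open CategoryTheory CategoryTheory.Limits AlgebraicGeometry TensorProduct
open Groth.Agent.Pi1Ext.PuritySch Groth.Agent.Pi1Ext.RegPurity

set_option linter.style.haveILetI false
set_option backward.isDefEq.respectTransparency false
set_option backward.isDefEq.respectTransparency.types false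

noncomputable section

namespace Groth.Agent.P1Lef

variable {A : Type u} [CommRing A]

/-- A finite étale cover of an open subset is, as a space, an open subset of an integral algebra. -/
theorem exists_integral_of_open [IsNoetherianRing A] (U : (Spec (CommRingCat.of A)).Opens)
    (V : FEt.Cat (U : Scheme.{u})) :
    ∃ (R : Type u) (_ : CommRing R) (_ : Algebra A R) (_ : Algebra.IsIntegral A R)
      (_ : FEt.prop (pullback.snd (sp A R) U.ι)) (t : V.left ⟶ Spec (CommRingCat.of R)),
      IsOpenImmersion t ∧ t ≫ sp A R = V.hom ≫ U.ι ∧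
      Set.range t.base = (sp A R).base ⁻¹' (U : Set (Spec (CommRingCat.of A))) := by
  let v : V.left ⟶ (U : Scheme.{u}) := V.hom
  haveI : IsFinite v := V.prop.1
  haveI : Etale v := V.prop.2
  haveI : CompactSpace (U : Scheme.{u}) :=
    isCompact_iff_compactSpace.1 (TopologicalSpace.NoetherianSpace.isCompact _)
  haveI : CompactSpace V.left := QuasiCompact.compactSpace_of_compactSpace v
  let j : V.left ⟶ Spec (CommRingCat.of A) := v ≫ U.ι
  haveI : QuasiCompact j := inferInstance
  haveI : QuasiSeparated j := inferInstance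
  haveI : IsSeparated j := inferInstance
  haveI : LocallyOfFiniteType j := inferInstance
  haveI : LocallyQuasiFinite j := inferInstance
  haveI : IsAffine j.normalization := isAffine_of_isAffineHom j.fromNormalization
  let R := Γ(j.normalization, ⊤)
  let φ := (Scheme.ΓSpecIso (CommRingCat.of A)).inv ≫ j.fromNormalization.appTop
  letI : Algebra A R := φ.hom.toAlgebra
  let t : V.left ⟶ Spec (CommRingCat.of R) := j.toNormalization ≫ j.normalization.isoSpec.hom
  have hπ : j.normalization.isoSpec.hom ≫ sp A R = j.fromNormalization := by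
    show j.normalization.isoSpec.hom ≫ Spec.map φ = _
    rw [Spec.map_comp, ← Category.assoc, Scheme.isoSpec_hom_naturality, Category.assoc]
    simp [Scheme.isoSpec, toSpecΓ_SpecMap_ΓSpecIso_inv]
  haveI : Algebra.IsIntegral A R := by
    have h1 : IsIntegralHom (sp A R) := by
      rw [← MorphismProperty.cancel_left_of_respectsIso (P := @IsIntegralHom) j.normalization.isoSpec.hom, hπ]
      infer_instance
    exact algebraMap_isIntegral_iff.1 (IsIntegralHom.SpecMap_iff.1 h1)
  have ht : t ≫ sp A R = j := by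
    rw [Category.assoc, hπ, Scheme.Hom.toNormalization_fromNormalization]
  haveI : IsDominant t := inferInstance
  haveI : IsOpenImmersion t := inferInstance
  let q : V.left ⟶ pullback (sp A R) U.ι := pullback.lift t v ht
  have hq1 : q ≫ pullback.fst _ _ = t := pullback.lift_fst _ _ _
  have hq2 : q ≫ pullback.snd (sp A R) U.ι = v := pullback.lift_snd _ _ _
  haveI : IsFinite q := by
    haveI : IsFinite (q ≫ pullback.snd (sp A R) U.ι) := by rw [hq2]; infer_instance
    exact IsFinite.of_comp q (pullback.snd (sp A R) U.ι)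
  haveI : IsOpenImmersion q := by
    haveI : IsOpenImmersion (q ≫ pullback.fst _ _) := by rw [hq1]; infer_instance
    exact IsOpenImmersion.of_comp q (pullback.fst _ _)
  haveI : Surjective q := by
    refine ⟨fun y => ?_⟩
    by_contra hne
    have hopen := (pullback.fst (sp A R) U.ι).isOpenMap _ q.isClosedMap.isClosed_range.isOpen_compl
    obtain ⟨z, ⟨w, hw, rfl⟩, v, hv⟩ := t.denseRange.inter_open_nonempty _ hopen
      ⟨_, y, fun ⟨a, ha⟩ => hne ⟨a, ha⟩, rfl⟩
    refine hw ⟨v, (pullback.fst (sp A R) U.ι).isOpenEmbedding.injective ?_⟩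
    rw [← Scheme.Hom.comp_apply, hq1]
    exact hv
  haveI : IsIso q := (isIso_iff_isOpenImmersion_and_surjective q).2 ⟨inferInstance, inferInstance⟩
  have hR : FEt.prop (pullback.snd (sp A R) U.ι) := by
    rw [← MorphismProperty.cancel_left_of_respectsIso (P := FEt.prop) q, hq2]
    exact V.prop
  refine ⟨R, inferInstance, inferInstance, inferInstance, hR, t, inferInstance, ht, ?_⟩
  rw [← hq1]
  have hr : Set.range (q ≫ pullback.fst (sp A R) U.ι).base = Set.range (pullback.fst (sp A R) U.ι).base := by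
    rw [Scheme.Hom.comp_base, TopCat.coe_comp, Set.range_comp, q.surjective.range_eq, Set.image_univ]
  rw [hr, Scheme.Pullback.range_fst, Scheme.Opens.range_ι]

theorem comap_isoAway {C B : Type u} [CommRing C] [CommRing B] [Algebra A C] [Algebra A B] (f : C →ₐ[A] B)
    (g : A) (h : IsoAway f g) :
    Topology.IsOpenEmbedding (fun q : PrimeSpectrum (Localization.Away (algebraMap A B g)) =>
      PrimeSpectrum.comap f.toRingHom (PrimeSpectrum.comap (algebraMap B _) q)) ∧
    Set.range (fun q : PrimeSpectrum (Localization.Away (algebraMap A B g)) =>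
      PrimeSpectrum.comap f.toRingHom (PrimeSpectrum.comap (algebraMap B _) q)) =
        PrimeSpectrum.basicOpen (algebraMap A C g) := by
  let Bg := Localization.Away (algebraMap A B g)
  letI := ((algebraMap B Bg).comp f.toRingHom).toAlgebra
  haveI : IsLocalization.Away (algebraMap A C g) Bg := h.isLocalization
  exact ⟨PrimeSpectrum.localization_away_isOpenEmbedding Bg (algebraMap A C g),
    PrimeSpectrum.localization_away_comap_range Bg (algebraMap A C g)⟩

/-- A finite étale cover of an open subset is, as a space, an open subset of a finite algebra. -/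
theorem exists_finite_of_open [IsNoetherianRing A] (U : (Spec (CommRingCat.of A)).Opens)
    (V : FEt.Cat (U : Scheme.{u})) :
    ∃ (C : Type u) (_ : CommRing C) (_ : Algebra A C) (_ : Module.Finite A C)
      (_ : ∀ a : A, PrimeSpectrum.basicOpen a ≤ U → EtAway A C a) (s : V.left → PrimeSpectrum C),
      Topology.IsOpenEmbedding s ∧
      (∀ x, PrimeSpectrum.comap (algebraMap A C) (s x) = U.ι.base (V.hom.base x)) ∧
      Set.range s = PrimeSpectrum.comap (algebraMap A C) ⁻¹' (U : Set (Spec (CommRingCat.of A))) := by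
  classical
  obtain ⟨R, _, _, _, hR, t, ht1, ht2, ht3⟩ := exists_integral_of_open U V
  -- the behaviour on standard opens
  have hloc : ∀ g : A, PrimeSpectrum.basicOpen g ≤ U →
      Module.Finite (Localization.Away g) (Localization.Away g ⊗[A] R) ∧
      Algebra.Etale (Localization.Away g) (Localization.Away g ⊗[A] R) := fun g hg => by
    let Ag := Localization.Away g
    let ρ := IsOpenImmersion.lift U.ι (sp A Ag) (by
      rw [Scheme.Opens.range_ι]
      rintro _ ⟨q, rfl⟩
      refine hg ?_
      show g ∉ (PrimeSpectrum.comap (algebraMap A Ag) q).asIdeal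
      exact fun h => q.2.ne_top (Ideal.eq_top_of_isUnit_mem _ h (IsLocalization.Away.algebraMap_isUnit g)))
    have hρ : ρ ≫ U.ι = sp A Ag := IsOpenImmersion.lift_fac _ _ _
    have h2 : FEt.prop (pullback.snd (pullback.snd (sp A R) U.ι) ρ) := MorphismProperty.pullback_snd _ _ hR
    have e1 : IsPullback (pullback.fst (pullback.snd (sp A R) U.ι) ρ ≫ pullback.fst (sp A R) U.ι)
        (pullback.snd (pullback.snd (sp A R) U.ι) ρ) (sp A R) (sp A Ag) := by
      have := (IsPullback.of_hasPullback (pullback.snd (sp A R) U.ι) ρ).paste_horiz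
        (IsPullback.of_hasPullback (sp A R) U.ι)
      rwa [hρ] at this
    rw [← e1.flip.isoPullback_hom_fst, ← pullbackSpecIso_hom_fst' A Ag R,
      MorphismProperty.cancel_left_of_respectsIso (P := FEt.prop),
      MorphismProperty.cancel_left_of_respectsIso (P := FEt.prop)] at h2
    exact fet_sp_iff.1 h2
  -- finitely many standard opens covering `U`
  obtain ⟨S₀, hS₀, hfin, hUS⟩ : ∃ S₀ : Set A, (∀ g ∈ S₀, PrimeSpectrum.basicOpen g ≤ U) ∧ S₀.Finite ∧
      ∀ p : PrimeSpectrum A, p ∈ U → ∃ g ∈ S₀, p ∈ PrimeSpectrum.basicOpen g := by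
    have hcpt : IsCompact (X := PrimeSpectrum A) (U : Set (Spec (CommRingCat.of A))) := TopologicalSpace.NoetherianSpace.isCompact _
    obtain ⟨F, hF⟩ := hcpt.elim_finite_subcover
      (fun g : {g : A // PrimeSpectrum.basicOpen g ≤ U} => (PrimeSpectrum.basicOpen g.1 : Set (PrimeSpectrum A)))
      (fun g => (PrimeSpectrum.basicOpen g.1).isOpen) (fun p hp => by
        obtain ⟨_, ⟨a, rfl⟩, hpa, ha⟩ :=
          PrimeSpectrum.isTopologicalBasis_basic_opens.exists_subset_of_mem_open hp U.2
        exact Set.mem_iUnion.2 ⟨⟨a, ha⟩, hpa⟩)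
    refine ⟨Subtype.val '' (F : Set {g : A // PrimeSpectrum.basicOpen g ≤ U}), ?_,
      F.finite_toSet.image _, fun p hp => ?_⟩
    · rintro _ ⟨g, -, rfl⟩; exact g.2
    · obtain ⟨g, hg, hpg⟩ := Set.mem_iUnion₂.1 (hF hp)
      exact ⟨g.1, ⟨g, hg, rfl⟩, hpg⟩
  let G := hfin.toFinset
  have hG : ∀ g ∈ G, PrimeSpectrum.basicOpen g ≤ U := fun g hg => hS₀ g (hfin.mem_toFinset.1 hg)
  have hsel : ∀ g ∈ G, ∃ s : Finset R, ∀ C : Subalgebra A R, ↑s ⊆ (C : Set R) →
      ∀ r : R, ∃ n : ℕ, g ^ n • r ∈ C := fun g hgG => by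
    let Ag := Localization.Away g
    haveI := (hloc g (hG g hgG)).1
    have htop : Submodule.span Ag (Set.range fun r : R => (1 : Ag) ⊗ₜ[A] r) = ⊤ := by
      refine top_le_iff.1 fun z _ => ?_
      induction z using TensorProduct.induction_on with
      | zero => exact zero_mem _
      | tmul a r =>
        rw [show (a ⊗ₜ[A] r : Ag ⊗[A] R) = a • ((1 : Ag) ⊗ₜ[A] r) by simp [TensorProduct.smul_tmul']]
        exact Submodule.smul_mem _ _ (Submodule.subset_span ⟨r, rfl⟩)
      | add x y hx hy => exact add_mem (hx trivial) (hy trivial)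
    obtain ⟨s', hs', hspan⟩ := (Submodule.fg_span_iff_fg_span_finset_subset _).1
      (htop ▸ (Module.Finite.fg_top : (⊤ : Submodule Ag (Ag ⊗[A] R)).FG))
    choose r hr using fun z : s' => hs' z.2
    refine ⟨Finset.univ.image r, fun C hC x => ?_⟩
    haveI : IsLocalizedModule (Submonoid.powers g) (TensorProduct.mk A Ag R 1) :=
      (isLocalizedModule_iff_isBaseChange (Submonoid.powers g) Ag _).2 (TensorProduct.isBaseChange A R Ag)
    suffices hz : ∀ z ∈ Submodule.span Ag (s' : Set (Ag ⊗[A] R)),
        ∃ (n : ℕ) (c : R), c ∈ C ∧ g ^ n • z = (1 : Ag) ⊗ₜ[A] c by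
      obtain ⟨n, c, hc, he⟩ := hz ((1 : Ag) ⊗ₜ[A] x) (hspan ▸ htop.ge trivial)
      rw [← TensorProduct.tmul_smul] at he
      obtain ⟨⟨_, m, rfl⟩, hm⟩ := (IsLocalizedModule.eq_iff_exists (Submonoid.powers g) (TensorProduct.mk A Ag R 1)).1 he
      refine ⟨m + n, ?_⟩
      rw [pow_add, mul_smul]
      exact hm ▸ C.smul_mem hc _
    intro z hz
    induction hz using Submodule.span_induction with
    | mem z hz =>
      refine ⟨0, r ⟨z, hz⟩, hC (Finset.mem_coe.2 (Finset.mem_image_of_mem r (Finset.mem_univ _))), ?_⟩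
      rw [pow_zero, one_smul]
      exact (hr ⟨z, hz⟩).symm
    | zero => exact ⟨0, 0, C.zero_mem, by simp⟩
    | add z z' _ _ hz hz' =>
      obtain ⟨n, c, hc, he⟩ := hz
      obtain ⟨n', c', hc', he'⟩ := hz'
      refine ⟨n + n', g ^ n' • c + g ^ n • c', C.add_mem (C.smul_mem hc _) (C.smul_mem hc' _), ?_⟩
      rw [TensorProduct.tmul_add, TensorProduct.tmul_smul, TensorProduct.tmul_smul, ← he, ← he', smul_smul,
        smul_smul, smul_add, pow_add, mul_comm (g ^ n) (g ^ n')]
    | smul a z _ hz =>
      obtain ⟨n, c, hc, he⟩ := hz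
      obtain ⟨a₀, ⟨_, m, rfl⟩, rfl⟩ := IsLocalization.exists_mk'_eq (Submonoid.powers g) a
      refine ⟨m + n, a₀ • c, C.smul_mem hc _, ?_⟩
      rw [TensorProduct.tmul_smul, ← he, pow_add, mul_smul, smul_comm (g ^ n), ← smul_assoc, Algebra.smul_def]
      exact (congrArg (· • (g ^ n • z)) (IsLocalization.mk'_spec' Ag a₀ (⟨g ^ m, m, rfl⟩ : Submonoid.powers g))).trans
        (algebraMap_smul Ag a₀ _)
  choose sel hsel using hsel
  let S : Finset R := G.attach.biUnion fun g => sel g.1 g.2
  let C : Subalgebra A R := Algebra.adjoin A (S : Set R)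
  haveI : Module.Finite A C :=
    Module.Finite.iff_fg.2 (fg_adjoin_of_finite S.finite_toSet fun x _ => Algebra.IsIntegral.isIntegral x)
  have hiso : ∀ g : A, PrimeSpectrum.basicOpen g ≤ U → IsoAway C.val g := fun g hg =>
    ⟨fun r => by
      have hall : ∀ g₀ ∈ G, ∃ n : ℕ, g₀ ^ n • r ∈ C := fun g₀ h₀ => hsel g₀ h₀ C
        ((Finset.coe_subset.2 (Finset.subset_biUnion_of_mem (fun g : {x // x ∈ G} => sel g.1 g.2)
          (Finset.mem_attach G ⟨g₀, h₀⟩))).trans Algebra.subset_adjoin) r
      let J : Ideal A := (Subalgebra.toSubmodule C).comap (LinearMap.toSpanSingleton A R r)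
      have : g ∈ J.radical := by
        rw [Ideal.radical_eq_sInf, Ideal.mem_sInf]
        rintro P ⟨hJP, hP⟩
        by_contra hgP
        obtain ⟨g₀, h₀, hP₀⟩ := hUS ⟨P, hP⟩ (hg hgP)
        obtain ⟨n, hn⟩ := hall g₀ (hfin.mem_toFinset.2 h₀)
        exact hP₀ (hP.mem_of_pow_mem n (hJP hn))
      obtain ⟨n, hn⟩ := this
      exact ⟨n, ⟨_, hn⟩, rfl⟩,
    fun c hc => ⟨0, by rw [pow_zero, one_smul]; exact Subtype.ext hc⟩⟩
  have hC : ∀ a : A, PrimeSpectrum.basicOpen a ≤ U → EtAway A C a := fun g hg => by
    haveI := (hloc g hg).2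
    exact etAway_of_isoAway (hiso g hg) (etAway_of_etale g)
  let cm : PrimeSpectrum R → PrimeSpectrum C := PrimeSpectrum.comap C.val.toRingHom
  have hcm : ∀ q, PrimeSpectrum.comap (algebraMap A C) (cm q) = PrimeSpectrum.comap (algebraMap A R) q :=
    fun q => rfl
  -- over each standard open the two spectra agree
  have hemb : ∀ g : A, PrimeSpectrum.basicOpen g ≤ U →
      Topology.IsOpenEmbedding fun q : PrimeSpectrum (Localization.Away (algebraMap A R g)) =>
        cm (PrimeSpectrum.comap (algebraMap R _) q) := fun g hg => by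
    exact (comap_isoAway C.val g (hiso g hg)).1
  have hpre : ∀ q : PrimeSpectrum R, PrimeSpectrum.comap (algebraMap A R) q ∈ U →
      ∃ g, PrimeSpectrum.basicOpen g ≤ U ∧ g ∉ (PrimeSpectrum.comap (algebraMap A R) q).asIdeal := fun q hq => by
    obtain ⟨g, hg, hgq⟩ := hUS _ hq
    exact ⟨g, hS₀ g hg, hgq⟩
  have hrep : ∀ (g : A) (q : PrimeSpectrum R), g ∉ (PrimeSpectrum.comap (algebraMap A R) q).asIdeal →
      q ∈ Set.range (PrimeSpectrum.comap (algebraMap R (Localization.Away (algebraMap A R g)))) := fun g q hq => by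
    rw [PrimeSpectrum.localization_away_comap_range (Localization.Away (algebraMap A R g)) (algebraMap A R g)]
    exact hq
  have htU : ∀ x, PrimeSpectrum.comap (algebraMap A R) (t.base x) ∈ U := fun x =>
    ht3.le (Set.mem_range_self x)
  refine ⟨C, inferInstance, inferInstance, inferInstance, hC, fun x => cm (t.base x), ?_, fun x => ?_, ?_⟩
  · refine Topology.IsOpenEmbedding.of_continuous_injective_isOpenMap
      ((PrimeSpectrum.continuous_comap _).comp t.continuous) (fun x y hxy => ?_) fun W hW => ?_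
    · obtain ⟨g, hg, hgx⟩ := hpre _ (htU x)
      have hgy : g ∉ (PrimeSpectrum.comap (algebraMap A R) (t.base y)).asIdeal := by
        rw [← hcm, ← show cm (t.base x) = cm (t.base y) from hxy, hcm]
        exact hgx
      obtain ⟨a, ha⟩ := hrep g _ hgx
      obtain ⟨b, hb⟩ := hrep g _ hgy
      have : a = b := (hemb g hg).injective (by
        show cm _ = cm _
        rw [ha, hb]; exact hxy)
      exact t.isOpenEmbedding.injective (by rw [← ha, ← hb, this])
    · refine isOpen_iff_forall_mem_open.2 ?_
      rintro _ ⟨x, hx, rfl⟩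
      obtain ⟨g, hg, hgx⟩ := hpre _ (htU x)
      obtain ⟨a, ha⟩ := hrep g _ hgx
      refine ⟨_, ?_, (hemb g hg).isOpenMap _ ((t.isOpenEmbedding.isOpenMap W hW).preimage
        (PrimeSpectrum.continuous_comap (algebraMap R (Localization.Away (algebraMap A R g))))),
        a, ⟨x, hx, ha.symm⟩, congrArg cm ha⟩
      rintro _ ⟨b, ⟨y, hy, hyb⟩, rfl⟩
      exact ⟨y, hy, congrArg cm hyb⟩
  · rw [hcm]
    show (sp A R).base (t.base x) = U.ι.base (V.hom.base x)
    rw [← Scheme.Hom.comp_apply, ht2, Scheme.Hom.comp_apply]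
    rfl
  · refine Set.Subset.antisymm ?_ fun p hp => ?_
    · rintro _ ⟨x, rfl⟩
      show PrimeSpectrum.comap (algebraMap A C) (cm (t.base x)) ∈ U
      rw [hcm]
      exact htU x
    · obtain ⟨g, hg, hgp⟩ := hUS _ hp
      obtain ⟨b, hb⟩ : p ∈ Set.range (fun q : PrimeSpectrum (Localization.Away (algebraMap A R g)) =>
          PrimeSpectrum.comap C.val.toRingHom (PrimeSpectrum.comap (algebraMap R _) q)) := by
        rw [(comap_isoAway C.val g (hiso g (hS₀ g hg))).2]
        exact hgp
      have hb' : cm (PrimeSpectrum.comap (algebraMap R (Localization.Away (algebraMap A R g))) b) = p := hb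
      obtain ⟨x, hx⟩ : PrimeSpectrum.comap (algebraMap R (Localization.Away (algebraMap A R g))) b ∈ Set.range t.base := by
        rw [ht3]
        show PrimeSpectrum.comap (algebraMap A R) _ ∈ U
        rw [← hcm, hb']
        exact hp
      refine ⟨x, ?_⟩
      show cm (t.base x) = p
      rw [hx, hb']

end Groth.Agent.P1Lef
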