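import Groth.Agent.P1Lef.Algebraize
import Groth.Agent.P1Glue.Completion

/-!
A finite étale cover of the punctured spectrum of `A/fA` extends to an open neighbourhood.
-/

universe u

open CategoryTheory CategoryTheory.Limits AlgebraicGeometry IsLocalRing TensorProduct
open Groth.Agent.Pi1Ext.PuritySch Groth.Agent.Pi1Ext.RegPurity

set_option linter.style.haveILetI false
set_option backward.isDefEq.respectTransparency false
set_option backward.isDefEq.respectTransparency.types false

noncomputable section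

namespace Groth.Agent.P1Lef

theorem fet_restrict_open {A : Type u} [CommRing A] (U : (Spec (CommRingCat.of A)).Opens) (B : Type u)
    [CommRing B] [Algebra A B] [Module.Finite A B]
    (hB : ∀ a : A, PrimeSpectrum.basicOpen a ≤ U → EtAway A B a) :
    FEt.prop (pullback.snd (sp A B) U.ι) := by
  refine ⟨?_, ?_⟩
  · haveI : IsFinite (sp A B) := (IsFinite.SpecMap_iff _).2 (RingHom.finite_algebraMap.2 inferInstance)
    exact MorphismProperty.pullback_snd _ _ inferInstance
  · have hlift : ∀ a : {a : A // PrimeSpectrum.basicOpen a ≤ U},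
        ∃ ρ : Spec (CommRingCat.of (Localization.Away a.1)) ⟶ (U : Scheme.{u}),
          ρ ≫ U.ι = sp A (Localization.Away a.1) := fun a => by
      refine ⟨IsOpenImmersion.lift U.ι (sp A _) ?_, IsOpenImmersion.lift_fac _ _ _⟩
      rw [Scheme.Opens.range_ι]
      rintro _ ⟨q, rfl⟩
      refine a.2 ?_
      show a.1 ∉ (PrimeSpectrum.comap (algebraMap A (Localization.Away a.1)) q).asIdeal
      exact fun h => q.2.ne_top (Ideal.eq_top_of_isUnit_mem _ h (IsLocalization.Away.algebraMap_isUnit a.1))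
    choose ρ hρ using hlift
    let 𝒰 : Scheme.OpenCover.{u} (U : Scheme.{u}) :=
      Scheme.Cover.mkOfCovers {a : A // PrimeSpectrum.basicOpen a ≤ U}
        (fun a => Spec (CommRingCat.of (Localization.Away a.1))) ρ
        (fun y => by
          obtain ⟨_, ⟨a, rfl⟩, hya, ha⟩ :=
            PrimeSpectrum.isTopologicalBasis_basic_opens.exists_subset_of_mem_open
              (show (U.ι y : PrimeSpectrum A) ∈ U.1 from y.2) U.2
          have hy : (U.ι y : PrimeSpectrum A) ∈
              Set.range (PrimeSpectrum.comap (algebraMap A (Localization.Away a))) := by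
            rw [PrimeSpectrum.localization_away_comap_range (Localization.Away a) a]
            exact hya
          obtain ⟨q, hq⟩ := hy
          refine ⟨⟨a, ha⟩, q, U.ι.isOpenEmbedding.injective ?_⟩
          rw [← Scheme.Hom.comp_apply, hρ]
          exact hq)
        (fun a => by
          haveI : IsOpenImmersion (sp A (Localization.Away a.1)) := IsOpenImmersion.of_isLocalization a.1
          haveI : IsOpenImmersion (ρ a ≫ U.ι) := by rw [hρ]; infer_instance
          exact IsOpenImmersion.of_comp _ U.ι)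
    refine IsZariskiLocalAtTarget.of_openCover (P := @Etale) 𝒰 fun a => ?_
    show Etale (pullback.snd (pullback.snd (sp A B) U.ι) (ρ a))
    let Ag := Localization.Away a.1
    have e1 : IsPullback (pullback.fst (pullback.snd (sp A B) U.ι) (ρ a) ≫ pullback.fst (sp A B) U.ι)
        (pullback.snd (pullback.snd (sp A B) U.ι) (ρ a)) (sp A B) (sp A Ag) := by
      have := (IsPullback.of_hasPullback (pullback.snd (sp A B) U.ι) (ρ a)).paste_horiz
        (IsPullback.of_hasPullback (sp A B) U.ι)
      rwa [hρ] at this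
    rw [← e1.flip.isoPullback_hom_fst, ← pullbackSpecIso_hom_fst' A Ag B,
      MorphismProperty.cancel_left_of_respectsIso (P := @Etale),
      MorphismProperty.cancel_left_of_respectsIso (P := @Etale)]
    haveI := etale_tensor_of_etAway (hB a.1 a.2) Ag (IsLocalization.Away.algebraMap_isUnit a.1)
    exact (HasRingHomProperty.Spec_iff (P := @Etale)).2 (RingHom.etale_algebraMap.2 inferInstance)

attribute [local instance] Algebra.TensorProduct.rightAlgebra in
theorem isPullback_mod {A : Type u} [CommRing A] (f : A) (B : Type u) [CommRing B] [Algebra A B]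
    [Algebra (A ⧸ Ideal.span {f}) (B ⧸ Ideal.span {algebraMap A B f})]
    [IsScalarTower A (A ⧸ Ideal.span {f}) (B ⧸ Ideal.span {algebraMap A B f})] :
    IsPullback (Spec.map (CommRingCat.ofHom (Ideal.Quotient.mk (Ideal.span {algebraMap A B f}))))
      (sp (A ⧸ Ideal.span {f}) (B ⧸ Ideal.span {algebraMap A B f})) (sp A B)
      (Spec.map (CommRingCat.ofHom (Ideal.Quotient.mk (Ideal.span {f})))) := by
  haveI : Algebra.IsPushout A B (A ⧸ Ideal.span {f}) (B ⧸ Ideal.span {algebraMap A B f}) := by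
    let e := ((Algebra.TensorProduct.quotIdealMapEquivTensorQuot B (Ideal.span {f})).symm.trans
      (Ideal.quotientEquivAlgOfEq B (show (Ideal.span {f}).map (algebraMap A B) =
        Ideal.span {algebraMap A B f} by rw [Ideal.map_span, Set.image_singleton])))
    refine Algebra.IsPushout.of_equiv e ?_
    refine RingHom.ext fun x => ?_
    obtain ⟨a, rfl⟩ := Ideal.Quotient.mk_surjective x
    show e ((1 : B) ⊗ₜ[A] (Ideal.Quotient.mk (Ideal.span {f}) a)) = algebraMap (A ⧸ Ideal.span {f}) _ (Ideal.Quotient.mk _ a)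
    rw [← Ideal.Quotient.algebraMap_eq (I := Ideal.span {f}), ← IsScalarTower.algebraMap_apply,
      IsScalarTower.algebraMap_apply A B (B ⧸ Ideal.span {algebraMap A B f}),
      Algebra.algebraMap_eq_smul_one (A := A ⧸ Ideal.span {f}), ← TensorProduct.smul_tmul,
      Algebra.smul_def, mul_one, ← Ideal.Quotient.mk_algebraMap]
    rw [AlgEquiv.trans_apply, ← Algebra.TensorProduct.quotIdealMapEquivTensorQuot_mk,
      AlgEquiv.symm_apply_apply, Ideal.quotientEquivAlgOfEq_mk]
    rfl
  have := CommRingCat.isPushout_of_isPushout A B (A ⧸ Ideal.span {f}) (B ⧸ Ideal.span {algebraMap A B f})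
  exact isPullback_SpecMap_of_isPushout _ _ _ _ this

/-- The extension theorem. -/
theorem exists_nbhd {A : Type u} [CommRing A] [IsNoetherianRing A] [IsLocalRing A] (f : A)
    (hf : f ∈ maximalIdeal A) [IsAdicComplete (Ideal.span {f}) A] (hnz : f ∈ nonZeroDivisors A)
    (h1 : Module.Finite A (LocCoh.H (maximalIdeal A) 1 (A ⧸ Ideal.span {f})))
    (h2 : Module.Finite A (LocCoh.H (maximalIdeal A) 2 (A ⧸ Ideal.span {f})))
    (V₀ : FEt.Cat (pullback (FEt.puncturedSpec A).ι
      (Spec.map (CommRingCat.ofHom (Ideal.Quotient.mk (Ideal.span {f})))))) :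
    ∃ (U' : (Spec (CommRingCat.of A)).Opens) (_ : U' ≤ (FEt.puncturedSpec A))
      (u' : pullback (FEt.puncturedSpec A).ι (Spec.map (CommRingCat.ofHom (Ideal.Quotient.mk (Ideal.span {f})))) ⟶ (U' : Scheme.{u}))
      (_ : u' ≫ U'.ι = (pullback.fst (FEt.puncturedSpec A).ι (Spec.map (CommRingCat.ofHom (Ideal.Quotient.mk (Ideal.span {f})))) ≫ (FEt.puncturedSpec A).ι))
      (V' : FEt.Cat (U' : Scheme.{u})), Nonempty ((FEt.restrict u').obj V' ≅ V₀) := by
  let T := A ⧸ Ideal.span {f}
  have hTne : Ideal.span {f} ≠ ⊤ := fun h =>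
    (IsLocalRing.maximalIdeal.isMaximal A).ne_top (top_le_iff.1 (h ▸ (Ideal.span_singleton_le_iff_mem _).2 hf))
  haveI : Nontrivial T := Ideal.Quotient.nontrivial_iff.2 hTne
  haveI : IsLocalRing T := IsLocalRing.of_surjective' (Ideal.Quotient.mk _) Ideal.Quotient.mk_surjective
  have hm : (maximalIdeal A).map (algebraMap A T) = maximalIdeal T :=
    IsLocalRing.map_maximalIdeal_of_surjective (algebraMap A T) Ideal.Quotient.mk_surjective
  let mk := Spec.map (CommRingCat.ofHom (Ideal.Quotient.mk (Ideal.span {f})))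
  haveI : IsClosedImmersion mk := IsClosedImmersion.spec_of_surjective _ Ideal.Quotient.mk_surjective
  let p₁ := pullback.fst (FEt.puncturedSpec A).ι mk
  let p₂ := pullback.snd (FEt.puncturedSpec A).ι mk
  let θ := IsOpenImmersion.lift (FEt.puncturedSpec T).ι p₂
    (by rw [Scheme.Opens.range_ι]; exact (P1Glue.range_punc T hm).le)
  have hθ : θ ≫ (FEt.puncturedSpec T).ι = p₂ := IsOpenImmersion.lift_fac _ _ _
  haveI : IsOpenImmersion θ := by
    haveI : IsOpenImmersion (θ ≫ (FEt.puncturedSpec T).ι) := by rw [hθ]; infer_instance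
    exact IsOpenImmersion.of_comp θ (FEt.puncturedSpec T).ι
  haveI : Surjective θ := by
    refine ⟨fun y => ?_⟩
    have hy : (FEt.puncturedSpec T).ι.base y ∈ Set.range p₂.base := (P1Glue.range_punc T hm).ge y.2
    obtain ⟨x, hx⟩ := hy
    refine ⟨x, (FEt.puncturedSpec T).ι.isOpenEmbedding.injective ?_⟩
    rw [← Scheme.Hom.comp_apply, hθ]
    exact hx
  haveI : IsIso θ := (isIso_iff_isOpenImmersion_and_surjective θ).2 ⟨inferInstance, inferInstance⟩
  let V₁ : FEt.Cat (FEt.puncturedSpec T : Scheme.{u}) := MorphismProperty.Over.mk ⊤ (V₀.hom ≫ θ)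
    (by rw [MorphismProperty.cancel_right_of_respectsIso (P := FEt.prop)]; exact V₀.prop)
  obtain ⟨C, _, _, _, hC, ⟨eC⟩⟩ := exists_finite_model V₁
  letI : Algebra A C := ((algebraMap T C).comp (Ideal.Quotient.mk _)).toAlgebra
  haveI : IsScalarTower A T C := IsScalarTower.of_algebraMap_eq fun _ => rfl
  obtain ⟨B, _, _, _, -, het, R, _, _, _, f₁, f₂, hiso⟩ := exists_model A f hnz h1 h2 C
    fun h hh => hC _ (hm ▸ Ideal.mem_map_of_mem _ hh)
  haveI : Algebra.FinitePresentation A B := Algebra.FinitePresentation.of_finiteType.mp inferInstance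
  have hclosed : IsClosed (PrimeSpectrum.comap (algebraMap A B) '' (Algebra.etaleLocus A B)ᶜ) :=
    PrimeSpectrum.isClosedMap_comap_of_isIntegral (algebraMap A B)
      (algebraMap_isIntegral_iff.2 inferInstance) _ Algebra.isOpen_etaleLocus.isClosed_compl
  let Z : Set (PrimeSpectrum A) := PrimeSpectrum.comap (algebraMap A B) '' (Algebra.etaleLocus A B)ᶜ
  let U' : (Spec (CommRingCat.of A)).Opens := FEt.puncturedSpec A ⊓ ⟨Zᶜ, hclosed.isOpen_compl⟩
  have hU'B : ∀ a : A, PrimeSpectrum.basicOpen a ≤ U' → EtAway A B a := fun a ha => by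
    refine Algebra.basicOpen_subset_etaleLocus_iff_etale.1 fun q hq => ?_
    by_contra hne
    exact (ha (x := PrimeSpectrum.comap (algebraMap A B) q) hq).2 ⟨q, hne, rfl⟩
  have hu : Set.range (p₁ ≫ (FEt.puncturedSpec A).ι).base ⊆ Set.range U'.ι.base := by
    rw [Scheme.Opens.range_ι]
    rintro _ ⟨x, rfl⟩
    have hx1 : (p₁ ≫ (FEt.puncturedSpec A).ι).base x ∈ FEt.puncturedSpec A := by
      rw [Scheme.Hom.comp_apply]; exact (p₁.base x).2
    refine ⟨hx1, ?_⟩
    rintro ⟨q, hq, hqx⟩
    refine hq (het q.asIdeal ?_ ?_)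
    · have h2 : f ∈ ((p₁ ≫ (FEt.puncturedSpec A).ι).base x : PrimeSpectrum A).asIdeal := by
        rw [pullback.condition, Scheme.Hom.comp_apply]
        show f ∈ ((p₂.base x : PrimeSpectrum T).asIdeal.comap (Ideal.Quotient.mk (Ideal.span {f})))
        rw [Ideal.mem_comap, Ideal.Quotient.eq_zero_iff_mem.2 (Ideal.mem_span_singleton_self f)]
        exact zero_mem _
      rw [← hqx] at h2
      exact h2
    · intro hle
      refine hx1 ?_
      rw [← hqx]
      exact PrimeSpectrum.ext ((IsLocalRing.maximalIdeal.isMaximal A).eq_of_le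
        (Ideal.IsPrime.ne_top inferInstance) hle).symm
  let u' := IsOpenImmersion.lift U'.ι (p₁ ≫ (FEt.puncturedSpec A).ι) hu
  have hu' : u' ≫ U'.ι = p₁ ≫ (FEt.puncturedSpec A).ι := IsOpenImmersion.lift_fac _ _ _
  let V' : FEt.Cat (U' : Scheme.{u}) :=
    MorphismProperty.Over.mk ⊤ (pullback.snd (sp A B) U'.ι) (fet_restrict_open U' B hU'B)
  refine ⟨U', inf_le_left, u', hu', V', ?_⟩
  let Q := B ⧸ Ideal.span {algebraMap A B f}
  have hQ0 : ∀ a ∈ Ideal.span {f}, algebraMap A Q a = 0 := fun a ha => by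
    obtain ⟨c, rfl⟩ := Ideal.mem_span_singleton'.1 ha
    rw [map_mul, IsScalarTower.algebraMap_apply A B Q f, Ideal.Quotient.algebraMap_eq,
      Ideal.Quotient.eq_zero_iff_mem.2 (Ideal.mem_span_singleton_self _), mul_zero]
  have hR0 : ∀ a ∈ Ideal.span {f}, algebraMap A R a = 0 := fun a ha => by
    rw [← f₂.commutes, hQ0 a ha, map_zero]
  letI : Algebra T Q := (Ideal.Quotient.lift _ (algebraMap A Q) hQ0).toAlgebra
  haveI : IsScalarTower A T Q := IsScalarTower.of_algebraMap_eq fun _ => rfl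
  letI : Algebra T R := (Ideal.Quotient.lift _ (algebraMap A R) hR0).toAlgebra
  haveI : IsScalarTower A T R := IsScalarTower.of_algebraMap_eq fun _ => rfl
  haveI : Module.Finite T Q := Module.Finite.of_restrictScalars_finite A T Q
  haveI : Module.Finite T R := Module.Finite.of_restrictScalars_finite A T R
  let F₁ : C →ₐ[T] R := { f₁.toRingHom with
    commutes' := fun t => by obtain ⟨a, rfl⟩ := Ideal.Quotient.mk_surjective t; exact f₁.commutes a }
  let F₂ : Q →ₐ[T] R := { f₂.toRingHom with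
    commutes' := fun t => by obtain ⟨a, rfl⟩ := Ideal.Quotient.mk_surjective t; exact f₂.commutes a }
  have hsm : ∀ (M : Type u) [AddCommGroup M] [Module A M] [Module T M] [IsScalarTower A T M] (a : A) (n : ℕ) (x : M),
      (Ideal.Quotient.mk (Ideal.span {f}) a) ^ n • x = a ^ n • x := fun M _ _ _ _ a n x => by
    rw [← map_pow, ← Ideal.Quotient.algebraMap_eq, algebraMap_smul]
  have hF : ∀ t ∈ maximalIdeal T, IsoAway F₁ t ∧ IsoAway F₂ t := fun t ht => by
    obtain ⟨a, rfl⟩ := Ideal.Quotient.mk_surjective t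
    have ha : a ∈ maximalIdeal A := fun hu => ht (hu.map _)
    obtain ⟨⟨s₁, i₁⟩, ⟨s₂, i₂⟩⟩ := hiso a ha
    refine ⟨⟨fun r => ?_, fun c hc => ?_⟩, fun r => ?_, fun c hc => ?_⟩
    · obtain ⟨n, c, h⟩ := s₁ r; exact ⟨n, c, (hsm R a n r).trans h⟩
    · obtain ⟨n, h⟩ := i₁ c hc; exact ⟨n, (hsm C a n c).trans h⟩
    · obtain ⟨n, c, h⟩ := s₂ r; exact ⟨n, c, (hsm R a n r).trans h⟩
    · obtain ⟨n, h⟩ := i₂ c hc; exact ⟨n, (hsm Q a n c).trans h⟩
  have hR : EtOff T R := fun t ht => (hF t ht).1.etale (hC t ht)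
  have hQ : EtOff T Q := fun t ht => etAway_of_isoAway (hF t ht).2 (hR t ht)
  obtain ⟨e₁⟩ := nonempty_iso F₁ (fun t ht => (hF t ht).1) (prop_rest C hC) (prop_rest R hR)
  obtain ⟨e₂⟩ := nonempty_iso F₂ (fun t ht => (hF t ht).2) (prop_rest Q hQ) (prop_rest R hR)
  -- both pull-backs are the fibre product of `Spec B` with the punctured spectrum of `A/fA`
  have hL : IsPullback (pullback.fst (pullback.snd (sp A B) U'.ι) u' ≫ pullback.fst (sp A B) U'.ι)
      (pullback.snd (pullback.snd (sp A B) U'.ι) u') (sp A B) (p₁ ≫ (FEt.puncturedSpec A).ι) := by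
    have := (IsPullback.of_hasPullback (pullback.snd (sp A B) U'.ι) u').paste_horiz
      (IsPullback.of_hasPullback (sp A B) U'.ι)
    rwa [hu'] at this
  have hR' : IsPullback ((pullback.fst (rest T Q) θ ≫ pullback.fst (sp T Q) (FEt.puncturedSpec T).ι) ≫
        Spec.map (CommRingCat.ofHom (Ideal.Quotient.mk (Ideal.span {algebraMap A B f}))))
      (pullback.snd (rest T Q) θ) (sp A B) (p₁ ≫ (FEt.puncturedSpec A).ι) := by
    have := (IsPullback.of_hasPullback (rest T Q) θ).paste_horiz
      (IsPullback.of_hasPullback (sp T Q) (FEt.puncturedSpec T).ι)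
    rw [hθ] at this
    have := this.paste_horiz (isPullback_mod f B)
    rwa [← pullback.condition] at this
  let e₀ : (FEt.restrict u').obj V' ≅ (FEt.restrict θ).obj (obj Q (prop_rest Q hQ)) :=
    MorphismProperty.Over.isoMk (hL.isoIsPullback _ _ hR') (hL.isoIsPullback_hom_snd _ _ hR')
  let e₃ : (FEt.restrict θ).obj V₁ ≅ V₀ := by
    refine MorphismProperty.Over.isoMk (asIso (pullback.fst (V₀.hom ≫ θ) θ)) ?_
    show pullback.fst (V₀.hom ≫ θ) θ ≫ V₀.hom = pullback.snd (V₀.hom ≫ θ) θ
    rw [← cancel_mono θ, Category.assoc]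
    exact pullback.condition
  exact ⟨e₀ ≪≫ (FEt.restrict θ).mapIso (e₂.symm ≪≫ e₁ ≪≫ eC) ≪≫ e₃⟩

end Groth.Agent.P1Lef
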