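import Groth.Agent.P1Lef.CechFin
import Groth.Agent.P1Lef.Lift
import Groth.Agent.AdicLib.Basic
import Mathlib.RingTheory.Localization.Away.Basic

/-!
The algebra of formal sections: compatible families in the complete lifts on the standard opens,
and its reduction modulo `f`.
-/

universe u

set_option linter.style.haveILetI false
set_option synthInstance.maxHeartbeats 200000

noncomputable section

namespace Groth.Agent.P1Lef

variable {A : Type u} [CommRing A]

instance CLift.instComplete {f : A} {C : Type u} [CommRing C] [Algebra A C] (X : CLift A f C) :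
    IsAdicComplete (Ideal.span {algebraMap A X.E f}) X.E := X.complete

/-- The lift of a map. -/
def CLift.map {f : A} {C C' : Type u} [CommRing C] [Algebra A C] [CommRing C'] [Algebra A C']
    (X : CLift A f C) (Y : CLift A f C') (φ : C →ₐ[A] C') : X.E →ₐ[A] Y.E :=
  (X.univ Y.E C' Y.π Y.surj Y.ker_iff (φ.comp X.π)).choose

theorem CLift.map_π {f : A} {C C' : Type u} [CommRing C] [Algebra A C] [CommRing C'] [Algebra A C']
    (X : CLift A f C) (Y : CLift A f C') (φ : C →ₐ[A] C') (x : X.E) : Y.π (X.map Y φ x) = φ (X.π x) :=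
  AlgHom.congr_fun (X.univ Y.E C' Y.π Y.surj Y.ker_iff (φ.comp X.π)).choose_spec.1 x

theorem CLift.map_map {f : A} {C C' C'' : Type u} [CommRing C] [Algebra A C] [CommRing C']
    [Algebra A C'] [CommRing C''] [Algebra A C''] (X : CLift A f C) (Y : CLift A f C')
    (Z : CLift A f C'') (φ : C →ₐ[A] C') (ψ : C' →ₐ[A] C'') (x : X.E) :
    Y.map Z ψ (X.map Y φ x) = X.map Z (ψ.comp φ) x := by
  have := (X.univ Z.E C'' Z.π Z.surj Z.ker_iff ((ψ.comp φ).comp X.π)).choose_spec.2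
    ((Y.map Z ψ).comp (X.map Y φ)) (AlgHom.ext fun z => by
      show Z.π (Y.map Z ψ (X.map Y φ z)) = ψ (φ (X.π z))
      rw [Y.map_π, X.map_π])
  exact AlgHom.congr_fun this x

variable (C : Type u) [CommRing C] [Algebra A C]

/-- The localisation of `C` at the image of `h`. -/
abbrev Cl (h : A) := Localization.Away (algebraMap A C h)

theorem isUnit_Cl {h h' : A} (hh : h ∣ h') : IsUnit (algebraMap C (Cl C h') (algebraMap A C h)) :=
  isUnit_of_dvd_unit (map_dvd _ (map_dvd _ hh)) (IsLocalization.Away.algebraMap_isUnit (algebraMap A C h'))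

/-- Restriction between localisations. -/
def rCa {h h' : A} (hh : h ∣ h') : Cl C h →ₐ[A] Cl C h' :=
  IsLocalization.liftAlgHom (M := Submonoid.powers (algebraMap A C h))
    (f := IsScalarTower.toAlgHom A C (Cl C h')) (fun y => by
      obtain ⟨_, n, rfl⟩ := y
      simpa using (isUnit_Cl C hh).pow n)

theorem rCa_algebraMap {h h' : A} (hh : h ∣ h') (c : C) :
    rCa C hh (algebraMap C (Cl C h) c) = algebraMap C (Cl C h') c :=
  IsLocalization.lift_eq _ c

theorem rCa_comp {h h' h'' : A} (hh : h ∣ h') (hh' : h' ∣ h'') :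
    (rCa C hh').comp (rCa C hh) = rCa C (hh.trans hh') :=
  IsLocalization.algHom_ext (Submonoid.powers (algebraMap A C h)) (AlgHom.ext fun c => by
    show rCa C hh' (rCa C hh (algebraMap C _ c)) = rCa C (hh.trans hh') (algebraMap C _ c)
    rw [rCa_algebraMap, rCa_algebraMap, rCa_algebraMap])

instance isLocalizedModule_Cl (h : A) :
    IsLocalizedModule (Submonoid.powers h) (IsScalarTower.toAlgHom A C (Cl C h)).toLinearMap := by
  haveI : IsLocalization (Algebra.algebraMapSubmonoid C (Submonoid.powers h)) (Cl C h) := by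
    rw [Algebra.algebraMapSubmonoid_powers]; infer_instance
  infer_instance

/-- Comparison with the localised module. -/
def eC (h : A) : Cl C h ≃ₗ[A] L h C :=
  (IsLocalizedModule.iso (Submonoid.powers h) (IsScalarTower.toAlgHom A C (Cl C h)).toLinearMap).symm

theorem eC_algebraMap (h : A) (c : C) : eC C h (algebraMap C (Cl C h) c) = mkL h C c :=
  IsLocalizedModule.iso_symm_apply (Submonoid.powers h) (IsScalarTower.toAlgHom A C (Cl C h)).toLinearMap c

theorem eC_rCa {h h' : A} (hh : h ∣ h') (x : Cl C h) : eC C h' (rCa C hh x) = res hh (eC C h x) := by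
  have := IsLocalizedModule.ext (Submonoid.powers h) (IsScalarTower.toAlgHom A C (Cl C h)).toLinearMap
    (isUnit_of_dvd (M := C) hh) (j := (eC C h').toLinearMap ∘ₗ (rCa C hh).toLinearMap)
    (k := res hh ∘ₗ (eC C h).toLinearMap) (LinearMap.ext fun c => by
      show eC C h' (rCa C hh (algebraMap C _ c)) = res hh (eC C h (algebraMap C _ c))
      rw [rCa_algebraMap, eC_algebraMap, eC_algebraMap, res_mk])
  exact LinearMap.congr_fun this x

variable {C} {f : A} {l : ℕ} {g : Fin l → A}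

section

variable (E1 : ∀ i, CLift A f (Cl C (g i))) (E2 : ∀ p : Fin l × Fin l, CLift A f (Cl C (g p.1 * g p.2)))
  (E3 : ∀ t : Fin l × Fin l × Fin l, CLift A f (Cl C (g t.1 * g t.2.1 * g t.2.2)))

/-- First restriction to an overlap. -/
def rl (p : Fin l × Fin l) : (∀ i, (E1 i).E) →ₐ[A] (E2 p).E :=
  ((E1 p.1).map (E2 p) (rCa C (dvd_mul_right (g p.1) (g p.2)))).comp
    (Pi.evalAlgHom A (fun i => (E1 i).E) p.1)

/-- Second restriction to an overlap. -/
def rr (p : Fin l × Fin l) : (∀ i, (E1 i).E) →ₐ[A] (E2 p).E :=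
  ((E1 p.2).map (E2 p) (rCa C (dvd_mul_left (g p.2) (g p.1)))).comp
    (Pi.evalAlgHom A (fun i => (E1 i).E) p.2)

/-- The differential. -/
def δE : (∀ i, (E1 i).E) →ₗ[A] ∀ p, (E2 p).E :=
  LinearMap.pi fun p => (rl E1 E2 p).toLinearMap - (rr E1 E2 p).toLinearMap

/-- The second differential. -/
def δE' : (∀ p, (E2 p).E) →ₗ[A] ∀ t, (E3 t).E :=
  LinearMap.pi fun t =>
    ((E2 (t.2.1, t.2.2)).map (E3 t) (rCa C (dvd23 (g t.1) (g t.2.1) (g t.2.2)))).toLinearMap ∘ₗ
        LinearMap.proj (t.2.1, t.2.2) -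
      ((E2 (t.1, t.2.2)).map (E3 t) (rCa C (dvd13 (g t.1) (g t.2.1) (g t.2.2)))).toLinearMap ∘ₗ
        LinearMap.proj (t.1, t.2.2) +
      ((E2 (t.1, t.2.1)).map (E3 t) (rCa C (dvd12 (g t.1) (g t.2.1) (g t.2.2)))).toLinearMap ∘ₗ
        LinearMap.proj (t.1, t.2.1)

theorem δE'_δE (x : ∀ i, (E1 i).E) : δE' E2 E3 (δE E1 E2 x) = 0 := by
  funext ⟨i, j, k⟩
  simp only [δE', δE, rl, rr, LinearMap.pi_apply, LinearMap.add_apply, LinearMap.sub_apply,
    LinearMap.coe_comp, Function.comp_apply, LinearMap.proj_apply, AlgHom.toLinearMap_apply,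
    AlgHom.comp_apply, Pi.evalAlgHom_apply, map_sub, CLift.map_map, rCa_comp, Pi.zero_apply]
  abel

/-- Reduction in degree zero. -/
def P0 : (∀ i, (E1 i).E) →ₗ[A] C0 g C :=
  LinearMap.pi fun i => (eC C (g i)).toLinearMap ∘ₗ (E1 i).π.toLinearMap ∘ₗ LinearMap.proj i

/-- Reduction in degree one. -/
def P1 : (∀ p, (E2 p).E) →ₗ[A] C1 g C :=
  LinearMap.pi fun p => (eC C _).toLinearMap ∘ₗ (E2 p).π.toLinearMap ∘ₗ LinearMap.proj p

/-- Reduction in degree two. -/
def P2 : (∀ t, (E3 t).E) →ₗ[A] C2 g C :=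
  LinearMap.pi fun t => (eC C _).toLinearMap ∘ₗ (E3 t).π.toLinearMap ∘ₗ LinearMap.proj t

theorem P0_apply (x : ∀ i, (E1 i).E) (i : Fin l) : P0 E1 x i = eC C (g i) ((E1 i).π (x i)) := rfl

theorem d0_P0 (x : ∀ i, (E1 i).E) : d0 g (P0 E1 x) = P1 E2 (δE E1 E2 x) := by
  funext p
  simp only [d0_apply, P0, P1, δE, rl, rr, LinearMap.pi_apply, LinearMap.sub_apply,
    LinearMap.coe_comp, Function.comp_apply, LinearMap.proj_apply, AlgHom.toLinearMap_apply,
    LinearEquiv.coe_coe, AlgHom.comp_apply, Pi.evalAlgHom_apply, map_sub, CLift.map_π, eC_rCa]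

theorem d1_P1 (y : ∀ p, (E2 p).E) : d1 g (P1 E2 y) = P2 E3 (δE' E2 E3 y) := by
  funext ⟨i, j, k⟩
  simp only [d1_apply, P1, P2, δE', LinearMap.pi_apply, LinearMap.add_apply, LinearMap.sub_apply,
    LinearMap.coe_comp, Function.comp_apply, LinearMap.proj_apply, AlgHom.toLinearMap_apply,
    LinearEquiv.coe_coe, map_sub, map_add, CLift.map_π, eC_rCa]

theorem P0_surjective : Function.Surjective (P0 E1) := fun z => by
  choose x hx using fun i => (E1 i).surj ((eC C (g i)).symm (z i))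
  exact ⟨x, funext fun i => by rw [P0_apply, hx, LinearEquiv.apply_symm_apply]⟩

theorem P0_eq_zero_iff (x : ∀ i, (E1 i).E) : P0 E1 x = 0 ↔ ∃ y, x = f • y := by
  refine ⟨fun h => ?_, fun ⟨y, hy⟩ => funext fun i => ?_⟩
  · have h' : ∀ i, ∃ y, x i = f • y := fun i => ((E1 i).ker_iff _).1
      ((eC C (g i)).injective ((congrFun h i).trans (map_zero _).symm))
    choose y hy using h'
    exact ⟨y, funext hy⟩
  · rw [P0_apply, ((E1 i).ker_iff (x i)).2 ⟨y i, congrFun hy i⟩, map_zero]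
    rfl

theorem P1_eq_zero_iff (x : ∀ p, (E2 p).E) : P1 E2 x = 0 ↔ ∃ y, x = f • y := by
  refine ⟨fun h => ?_, fun ⟨y, hy⟩ => funext fun i => ?_⟩
  · have h' : ∀ i, ∃ y, x i = f • y := fun i => ((E2 i).ker_iff _).1
      ((eC C _).injective ((congrFun h i).trans (map_zero _).symm))
    choose y hy using h'
    exact ⟨y, funext hy⟩
  · show eC C _ ((E2 i).π (x i)) = _
    rw [((E2 i).ker_iff (x i)).2 ⟨y i, congrFun hy i⟩, map_zero]
    rfl

theorem smul_pow_injective {ι : Type} (E : ι → Type u) [∀ i, AddCommGroup (E i)] [∀ i, Module A (E i)]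
    (h : ∀ i (x : E i), f • x = 0 → x = 0) (n : ℕ) :
    Function.Injective (LinearMap.lsmul A (∀ i, E i) (f ^ n)) := by
  refine (injective_iff_map_eq_zero _).2 fun x hx => funext fun i => ?_
  have hx' : f ^ n • x i = 0 := congrFun hx i
  clear hx
  induction n with
  | zero => simpa using hx'
  | succ n ih =>
    refine ih (h i _ ?_)
    rwa [smul_smul, ← pow_succ']

include E3 in
theorem P1_mem_ker {n : ℕ} {x : ∀ i, (E1 i).E} {y : ∀ p, (E2 p).E}
    (hy : f ^ n • y = δE E1 E2 x) : P1 E2 y ∈ LinearMap.ker (d1 g) := by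
  refine LinearMap.mem_ker.2 ((d1_P1 E2 E3 y).trans ?_)
  have h : δE' E2 E3 y = 0 :=
    smul_pow_injective (A := A) (f := f) (fun t => (E3 t).E) (fun t => (E3 t).nzd) n (by
      rw [LinearMap.lsmul_apply, LinearMap.lsmul_apply, ← map_smul, hy, δE'_δE, smul_zero])
  rw [h, map_zero]

/-- The algebra of formal sections. -/
def M : Subalgebra A (∀ i, (E1 i).E) := ⨅ p, AlgHom.equalizer (rl E1 E2 p) (rr E1 E2 p)

theorem mem_M (x : ∀ i, (E1 i).E) : x ∈ M E1 E2 ↔ δE E1 E2 x = 0 := by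
  rw [M, Algebra.mem_iInf]
  exact ⟨fun h => funext fun p => sub_eq_zero.2 ((AlgHom.mem_equalizer _ _ _).1 (h p)),
    fun h p => (AlgHom.mem_equalizer _ _ _).2 (sub_eq_zero.1 (congrFun h p))⟩

include E3 in
/-- Almost compatible families are congruent to compatible ones. -/
theorem exists_stable [IsNoetherianRing A] [Module.Finite A (H1c g C)] :
    ∃ n₀ : ℕ, ∀ N (x : ∀ i, (E1 i).E), n₀ < N → (∃ y, f ^ (N + 1) • y = δE E1 E2 x) →
      ∃ m ∈ M E1 E2, ∃ w, m - x = f ^ (N - n₀) • w := by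
  let K : ℕ → Submodule A (∀ i, (E1 i).E) := fun n =>
    (LinearMap.range (LinearMap.lsmul A (∀ p, (E2 p).E) (f ^ (n + 1)))).comap (δE E1 E2)
  have hinj := fun n => smul_pow_injective (fun p => (E2 p).E) (fun p => (E2 p).nzd) (f := f) n
  choose Y hY using fun n => exists_lift _ (hinj (n + 1)) (δE E1 E2 ∘ₗ (K n).subtype) fun x => x.2
  have hY' : ∀ n (x : K n), f ^ (n + 1) • Y n x = δE E1 E2 x := fun n x => hY n x
  let o : ∀ n, K n →ₗ[A] H1c g C := fun n => Submodule.mkQ _ ∘ₗ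
    (P1 E2 ∘ₗ Y n).codRestrict _ (fun x => P1_mem_ker E1 E2 E3 (hY' n x))
  have hshift : ∀ n (x : K n), ∃ x' : K (n + 1), (x' : ∀ i, (E1 i).E) = f • (x : ∀ i, (E1 i).E) ∧
      o (n + 1) x' = o n x := fun n x => by
    have he : f ^ (n + 1 + 1) • Y n x = δE E1 E2 (f • (x : ∀ i, (E1 i).E)) := by
      rw [map_smul, pow_succ', mul_smul, hY']
    refine ⟨⟨_, Y n x, he⟩, rfl, congrArg (Submodule.mkQ _) (Subtype.ext (congrArg (P1 E2) ?_))⟩
    exact hinj (n + 1 + 1) ((hY' (n + 1) _).trans he.symm)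
  obtain ⟨n₀, hn₀⟩ := monotone_stabilizes_iff_noetherian.2 (inferInstance : IsNoetherian A (H1c g C))
    (⟨fun n => LinearMap.range (o n), monotone_nat_of_le_succ fun n => by
      rintro _ ⟨x, rfl⟩
      obtain ⟨x', -, hx'⟩ := hshift n x
      exact ⟨x', hx'⟩⟩ : ℕ →o Submodule A (H1c g C))
  have hshifts : ∀ d n (x : K n), ∃ x' : K (n + d), (x' : ∀ i, (E1 i).E) = f ^ d • (x : ∀ i, (E1 i).E) ∧
      o (n + d) x' = o n x := by
    intro d
    induction d with
    | zero => exact fun n x => ⟨x, by rw [pow_zero, one_smul], rfl⟩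
    | succ d ih =>
      intro n x
      obtain ⟨x', h1, h2⟩ := ih n x
      obtain ⟨x'', h3, h4⟩ := hshift _ x'
      exact ⟨x'', by rw [h3, h1, smul_smul, pow_succ'], h4.trans h2⟩
  have step : ∀ N (x : ∀ i, (E1 i).E), n₀ ≤ N → x ∈ K N →
      ∃ x', x' ∈ K (N + 1) ∧ ∃ w, x' - x = f ^ (N - n₀) • w := by
    intro N x hN hx
    obtain ⟨d, rfl⟩ := Nat.exists_eq_add_of_le hN
    have hmem : o (n₀ + d) ⟨x, hx⟩ ∈ LinearMap.range (o n₀) :=
      (hn₀ _ hN).ge ⟨⟨x, hx⟩, rfl⟩
    obtain ⟨y, hy⟩ := hmem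
    obtain ⟨y', hy1, hy2⟩ := hshifts d n₀ y
    have h0 : o (n₀ + d) (⟨x, hx⟩ - y') = 0 := by rw [map_sub, hy2, hy, sub_self]
    obtain ⟨z, hz⟩ := (Submodule.Quotient.mk_eq_zero _).1 h0
    obtain ⟨b, rfl⟩ := P0_surjective E1 z
    obtain ⟨v, hv⟩ := (P1_eq_zero_iff E2 (Y _ (⟨x, hx⟩ - y') - δE E1 E2 b)).1 (by
      rw [map_sub, ← d0_P0]; exact sub_eq_zero.2 hz.symm)
    refine ⟨x - (y' : ∀ i, (E1 i).E) - f ^ (n₀ + d + 1) • b, ⟨v, ?_⟩,
      -((y : ∀ i, (E1 i).E) + f ^ (n₀ + 1) • b), ?_⟩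
    · show f ^ (n₀ + d + 1 + 1) • v = δE E1 E2 _
      have := hY' _ (⟨x, hx⟩ - y')
      rw [AddSubgroupClass.coe_sub] at this
      rw [map_sub _ (_ - _), ← this, map_smul, ← smul_sub, hv, smul_smul, ← pow_succ]
    · rw [Nat.add_sub_cancel_left, hy1]
      match_scalars <;> ring
  refine ⟨n₀, fun N x hN hx => ?_⟩
  let X : (k : ℕ) → K (N + k) := fun k => Nat.rec ⟨x, hx⟩ (fun k xk =>
    ⟨(step (N + k) xk.1 (by omega) xk.2).choose, (step (N + k) xk.1 (by omega) xk.2).choose_spec.1⟩) k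
  have hX : ∀ k, ∃ w, (X (k + 1)).1 - (X k).1 =
      f ^ (N + k - n₀) • w := fun k =>
    (step (N + k) (X k).1 (by omega) (X k).2).choose_spec.2
  have hXk : ∀ k k', k ≤ k' → ∃ w, (X k').1 - (X k).1 = f ^ (N + k - n₀) • w := by
    intro k k' hk
    induction k', hk using Nat.le_induction with
    | base => exact ⟨0, by rw [sub_self, smul_zero]⟩
    | succ k' hk ih =>
      obtain ⟨w, hw⟩ := ih
      obtain ⟨w', hw'⟩ := hX k'
      refine ⟨w + f ^ (k' - k) • w', ?_⟩
      rw [smul_add, smul_smul, ← pow_add, show N + k - n₀ + (k' - k) = N + k' - n₀ by omega, ← hw, ← hw']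
      abel
  have hlim : ∀ i, ∃ m : (E1 i).E, ∀ k, ∃ w, m - (X k).1 i = f ^ k • w := fun i => by
    let I := Ideal.span {algebraMap A (E1 i).E f}
    have hmem : ∀ k (z : (E1 i).E), (∃ w, z = f ^ k • w) ↔ z ∈ (I ^ k • ⊤ : Submodule (E1 i).E (E1 i).E) :=
      fun k z => by
        rw [Ideal.smul_eq_mul, Ideal.mul_top, Ideal.span_singleton_pow, ← map_pow, mem_span_iff]
    obtain ⟨m, hm⟩ := IsPrecomplete.prec (inferInstance : IsPrecomplete I (E1 i).E)
      (f := fun k => (X k).1 i) (fun {a b} hab => by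
        rw [SModEq.sub_mem, ← hmem]
        obtain ⟨w, hw⟩ := hXk a b hab
        refine ⟨-(f ^ (N - n₀) • w i), ?_⟩
        rw [smul_neg, smul_smul, ← pow_add, show a + (N - n₀) = N + a - n₀ by omega]
        have := congrFun hw i
        rw [Pi.sub_apply, Pi.smul_apply] at this
        rw [← this, neg_sub])
    refine ⟨m, fun k => ?_⟩
    have := hm k
    rw [SModEq.sub_mem, ← hmem] at this
    obtain ⟨w, hw⟩ := this
    exact ⟨-w, by rw [smul_neg, ← hw, neg_sub]⟩
  choose m hm using hlim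
  refine ⟨m, (mem_M E1 E2 m).2 (funext fun p => ?_), ?_⟩
  · refine (IsHausdorff.eq_iff_smodEq (I := Ideal.span {algebraMap A (E2 p).E f})).2 fun k => ?_
    rw [SModEq.sub_mem, Ideal.smul_eq_mul, Ideal.mul_top, Ideal.span_singleton_pow, ← map_pow,
      mem_span_iff, Pi.zero_apply, sub_zero]
    choose w hw using fun i => hm i k
    have hv := hY' (N + k) (X k)
    refine ⟨δE E1 E2 w p + f ^ (N + 1) • Y (N + k) (X k) p, ?_⟩
    have e : δE E1 E2 m = f ^ k • δE E1 E2 w + δE E1 E2 (X k).1 := by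
      rw [← map_smul, ← map_add]
      exact congrArg _ (funext fun i => sub_eq_iff_eq_add.1 (hw i))
    rw [e, ← hv, smul_add, smul_smul, ← pow_add, show k + (N + 1) = N + k + 1 by omega]
    rfl
  · choose w hw using fun i => hm i (N - n₀)
    obtain ⟨w', hw'⟩ := hXk 0 (N - n₀) (Nat.zero_le _)
    refine ⟨w + w', ?_⟩
    have hw'' : (X (N - n₀)).1 - x = f ^ (N - n₀) • w' := hw'
    rw [smul_add, ← hw'']
    funext i
    have := hw i
    simp only [Pi.add_apply, Pi.sub_apply, Pi.smul_apply, ← this]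
    show m i - x i = _ + ((X (N - n₀)).1 i - x i)
    abel

/-- Reduction of a formal section. -/
def q : M E1 E2 →ₐ[A] ∀ i, Cl C (g i) :=
  AlgHom.comp (AlgHom.pi fun i => (E1 i).π.comp (Pi.evalAlgHom A (fun i => (E1 i).E) i))
    (M E1 E2).val

theorem P0_eq_eC_q (m : M E1 E2) (i : Fin l) : P0 E1 m.1 i = eC C (g i) (q E1 E2 m i) := rfl

theorem q_eq_zero_iff (m : M E1 E2) : q E1 E2 m = 0 ↔ ∃ m', m = f • m' := by
  have h : q E1 E2 m = 0 ↔ P0 E1 m.1 = 0 := by
    refine ⟨fun h => funext fun i => ?_, fun h => funext fun i => ?_⟩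
    · rw [P0_eq_eC_q, h, Pi.zero_apply, map_zero, Pi.zero_apply]
    · exact (eC C (g i)).injective ((congrFun h i).trans (map_zero _).symm)
  rw [h, P0_eq_zero_iff]
  refine ⟨fun ⟨y, hy⟩ => ?_, fun ⟨m', hm'⟩ => ⟨m'.1, congrArg Subtype.val hm'⟩⟩
  refine ⟨⟨y, (mem_M E1 E2 y).2 (smul_pow_injective (fun p => (E2 p).E) (fun p => (E2 p).nzd) 1 (f := f) ?_)⟩,
    Subtype.ext hy⟩
  rw [LinearMap.lsmul_apply, LinearMap.lsmul_apply, smul_zero, pow_one, ← map_smul, ← hy,
    ← mem_M]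
  exact m.2

theorem nzd_M (m : M E1 E2) (h : f • m = 0) : m = 0 :=
  Subtype.ext (funext fun i => (E1 i).nzd _ (congrFun (congrArg Subtype.val h) i))

theorem P0_mem_sec (m : M E1 E2) : P0 E1 m.1 ∈ sec g C := by
  rw [LinearMap.mem_ker, d0_P0 E1 E2, (mem_M E1 E2 m.1).1 m.2, map_zero]

theorem finite_M [IsNoetherianRing A] [IsAdicComplete (Ideal.span {f}) A]
    [Module.Finite A (sec g C)] : Module.Finite A (M E1 E2) := by
  let Φ : (M E1 E2) →ₗ[A] sec g C :=
    (P0 E1 ∘ₗ (M E1 E2).val.toLinearMap).codRestrict _ (P0_mem_sec E1 E2)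
  obtain ⟨n, e, he⟩ := Module.Finite.exists_fin' A (LinearMap.range Φ)
  choose b hb using fun t => (e (Pi.single t 1)).2
  let β : (Fin n → A) →ₗ[A] M E1 E2 := Fintype.linearCombination A b
  have hβ : ∀ v, Φ (β v) = (e v : sec g C) := fun v => by
    have : Φ ∘ₗ β = (LinearMap.range Φ).subtype ∘ₗ e := by
      refine LinearMap.pi_ext' fun t => LinearMap.ext_ring ?_
      simp [β, hb]
    exact LinearMap.congr_fun this v
  let I := Ideal.span ({f} : Set A)
  haveI : IsAdicComplete I (Fin n → A) := AdicLib.isAdicComplete_of_finite I _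
  haveI : IsHausdorff I (M E1 E2) := ⟨fun x hx => by
    refine Subtype.ext (funext fun i => ?_)
    refine (IsHausdorff.eq_iff_smodEq (I := Ideal.span {algebraMap A (E1 i).E f})).2 fun k => ?_
    have := hx k
    rw [SModEq.sub_mem, sub_zero, Ideal.span_singleton_pow, Submodule.ideal_span_singleton_smul,
      Submodule.mem_smul_pointwise_iff_exists] at this
    obtain ⟨y, -, rfl⟩ := this
    rw [SModEq.sub_mem, Ideal.smul_eq_mul, Ideal.mul_top, Ideal.span_singleton_pow, ← map_pow, mem_span_iff]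
    exact ⟨y.1 i, by simp⟩⟩
  refine Module.Finite.of_surjective β (surjective_of_mkQ_comp_surjective (I := I) fun z => ?_)
  obtain ⟨m, rfl⟩ := Submodule.Quotient.mk_surjective _ z
  obtain ⟨v, hv⟩ := he ⟨Φ m, m, rfl⟩
  refine ⟨v, (Submodule.Quotient.eq _).2 ?_⟩
  have h0 : P0 E1 (β v - m).1 = 0 := by
    have h1 := hβ v
    rw [hv] at h1
    have h2 : Φ (β v - m) = 0 := by rw [map_sub, h1, sub_self]
    exact congrArg Subtype.val h2
  obtain ⟨m', hm'⟩ := (q_eq_zero_iff E1 E2 (β v - m)).1 (funext fun i =>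
    (eC C (g i)).injective ((congrFun h0 i).trans (map_zero _).symm))
  rw [hm']
  exact Submodule.smul_mem_smul (Ideal.mem_span_singleton_self f) trivial

theorem exists_kills_H1c [IsNoetherianRing A] [Module.Finite A (H1c g C)] (i : Fin l) :
    ∃ k : ℕ, ∀ z : H1c g C, g i ^ k • z = 0 := by
  have hpt : ∀ z : H1c g C, ∃ k : ℕ, g i ^ k • z = 0 := by
    intro z
    obtain ⟨⟨x, hx⟩, rfl⟩ := Submodule.Quotient.mk_surjective _ z
    rw [LinearMap.mem_ker] at hx
    choose n hn using fun j => exists_smul_eq (g i * g j) (x (i, j))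
    let N := Finset.univ.sup n
    choose a ha using fun j => hn j N (Finset.le_sup (Finset.mem_univ j))
    let w : C0 g C := fun j => -IsLocalizedModule.mk' (mkL (g j) C) (a j) (pw (g j) N)
    have hw : ∀ j, res (dvd_mul_left (g j) (g i)) (w j) = -(g i ^ N • x (i, j)) := fun j => by
      refine smul_cancel (n := N) ?_
      have e1 := congrArg (res (dvd_mul_left (g j) (g i))) (pw_smul_mk' (g j) N (a j))
      rw [map_smul, res_mk] at e1
      rw [map_neg, smul_neg, smul_neg, mul_pow, mul_smul, e1, ← ha]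
      simp only [smul_smul, mul_pow]
      congr 2
      ring
    have hz : ∀ p : Fin l × Fin l, ∃ e : ℕ, g i ^ e • (g i ^ N • x p - d0 g w p) = 0 := by
      rintro ⟨j, k⟩
      have h0 : res (dvd23 (g i) (g j) (g k)) (g i ^ N • x (j, k) - d0 g w (j, k)) = 0 := by
        have e := congrFun hx (i, j, k)
        rw [d1_apply, Pi.zero_apply] at e
        have ej : res (dvd23 (g i) (g j) (g k)) (res (dvd_mul_right (g j) (g k)) (w j)) =
            -(g i ^ N • res (dvd12 (g i) (g j) (g k)) (x (i, j))) := by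
          rw [res_res, ← map_smul, ← map_neg, ← hw, res_res]
        have ek : res (dvd23 (g i) (g j) (g k)) (res (dvd_mul_left (g k) (g j)) (w k)) =
            -(g i ^ N • res (dvd13 (g i) (g j) (g k)) (x (i, k))) := by
          rw [res_res, ← map_smul, ← map_neg, ← hw, res_res]
        rw [d0_apply, map_sub, map_smul, map_sub, ej, ek]
        linear_combination (norm := (match_scalars <;> ring)) (g i ^ N) • e
      obtain ⟨n', hn'⟩ := exists_smul_eq (g j * g k) (g i ^ N • x (j, k) - d0 g w (j, k))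
      obtain ⟨c, hc⟩ := hn' n' le_rfl
      have h1 : mkL (g i * g j * g k) C c = 0 := by
        rw [← res_mk (dvd23 (g i) (g j) (g k)), ← hc, map_smul, h0, smul_zero]
      obtain ⟨e, he⟩ := mkL_eq_zero.1 h1
      refine ⟨e, smul_cancel (n := e + n') ?_⟩
      show (g j * g k) ^ (e + n') • g i ^ e • _ = (g j * g k) ^ (e + n') • (0 : L (g j * g k) C)
      rw [smul_zero, smul_comm, pow_add, mul_smul, hc, smul_smul, ← mul_pow, ← mul_assoc, ← map_smul,
        he, map_zero]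
    choose e he using hz
    refine ⟨Finset.univ.sup e + N, (Submodule.Quotient.mk_eq_zero _).2
      ⟨g i ^ Finset.univ.sup e • w, ?_⟩⟩
    show d0 g _ = g i ^ (Finset.univ.sup e + N) • x
    rw [map_smul, pow_add, mul_smul]
    refine (sub_eq_zero.1 ?_).symm
    rw [← smul_sub]
    funext p
    obtain ⟨t, ht⟩ := Nat.exists_eq_add_of_le' (Finset.le_sup (f := e) (Finset.mem_univ p))
    rw [Pi.smul_apply, Pi.sub_apply, Pi.smul_apply, ht, pow_add, mul_smul, he p, smul_zero, Pi.zero_apply]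
  obtain ⟨n, b, hb⟩ := Module.Finite.exists_fin (R := A) (M := H1c g C)
  choose k hk using fun t => hpt (b t)
  refine ⟨Finset.univ.sup k, fun z => ?_⟩
  induction (hb.ge trivial : z ∈ Submodule.span A (Set.range b)) using Submodule.span_induction with
  | mem x hx =>
    obtain ⟨t, rfl⟩ := hx
    obtain ⟨s, hs⟩ := Nat.exists_eq_add_of_le' (Finset.le_sup (f := k) (Finset.mem_univ t))
    rw [hs, pow_add, mul_smul, hk, smul_zero]
  | zero => exact smul_zero _
  | add x y _ _ hx hy => rw [smul_add, hx, hy, add_zero]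
  | smul a x _ hx => rw [smul_comm, hx, smul_zero]

include E3 in
theorem exists_q_eq [IsNoetherianRing A] [Module.Finite A (H1c g C)] (c : C) (i : Fin l) :
    ∃ (k : ℕ) (m : M E1 E2), q E1 E2 m = g i ^ k • algebraMap C (∀ j, Cl C (g j)) c := by
  obtain ⟨n₀, hn₀⟩ := exists_stable E1 E2 E3
  obtain ⟨k, hk⟩ := exists_kills_H1c (g := g) (C := C) i
  obtain ⟨x₀, hx₀⟩ := P0_surjective E1 (aug g c)
  have hstep : ∀ n, ∃ x, (∃ y, f ^ (n + 1) • y = δE E1 E2 x) ∧
      P0 E1 x = g i ^ (k * n) • aug g c := by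
    intro n
    induction n with
    | zero =>
      obtain ⟨y, hy⟩ := (P1_eq_zero_iff E2 (δE E1 E2 x₀)).1 (by rw [← d0_P0, hx₀, d0_aug])
      exact ⟨x₀, ⟨y, by rw [zero_add, pow_one, hy]⟩, by rw [mul_zero, pow_zero, one_smul, hx₀]⟩
    | succ n ih =>
      obtain ⟨x, ⟨y, hy⟩, hx⟩ := ih
      have hcls := hk (Submodule.Quotient.mk ⟨P1 E2 y, P1_mem_ker E1 E2 E3 hy⟩)
      rw [← Submodule.Quotient.mk_smul, Submodule.Quotient.mk_eq_zero] at hcls
      obtain ⟨z, hz⟩ := hcls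
      obtain ⟨b, rfl⟩ := P0_surjective E1 z
      obtain ⟨v, hv⟩ := (P1_eq_zero_iff E2 (g i ^ k • y - δE E1 E2 b)).1 (by
        rw [map_sub, map_smul, ← d0_P0]; exact sub_eq_zero.2 hz.symm)
      refine ⟨g i ^ k • x - f ^ (n + 1) • b, ⟨v, ?_⟩, ?_⟩
      · rw [map_sub, map_smul, map_smul, ← hy, smul_comm, ← smul_sub, hv, smul_smul, ← pow_succ]
      · rw [map_sub, map_smul, (P0_eq_zero_iff E1 (f ^ (n + 1) • b)).2
          ⟨f ^ n • b, by rw [smul_smul, ← pow_succ']⟩, sub_zero, hx, smul_smul, ← pow_add]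
        congr 2
        ring
  obtain ⟨x, hxy, hx⟩ := hstep (n₀ + 1)
  obtain ⟨m, hm, w, hw⟩ := hn₀ (n₀ + 1) x (Nat.lt_succ_self _) hxy
  refine ⟨k * (n₀ + 1), ⟨m, hm⟩, funext fun j => (eC C (g j)).injective ?_⟩
  rw [← P0_eq_eC_q, Pi.smul_apply, map_smul]
  show P0 E1 m j = g i ^ _ • eC C (g j) (algebraMap C (Cl C (g j)) c)
  rw [eC_algebraMap, sub_eq_iff_eq_add.1 hw, map_add, (P0_eq_zero_iff E1 _).2 ⟨w, by
    rw [Nat.add_sub_cancel_left, pow_one]⟩, zero_add, hx]
  rfl

theorem exists_q_smul_eq_zero [IsNoetherianRing A] (m : M E1 E2) (i : Fin l) (h : q E1 E2 m i = 0) :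
    ∃ (e : ℕ) (m' : M E1 E2), g i ^ e • m = f • m' := by
  have hsec := congrFun (LinearMap.mem_ker.1 (P0_mem_sec E1 E2 m))
  have hP : P0 E1 m.1 i = 0 := by rw [P0_eq_eC_q, h, map_zero]
  have hj : ∀ j, ∃ e, g i ^ e • P0 E1 m.1 j = 0 := fun j => by
    obtain ⟨n, hn⟩ := exists_smul_eq (g j) (P0 E1 m.1 j)
    obtain ⟨a, ha⟩ := hn n le_rfl
    have h0 : mkL (g i * g j) C a = 0 := by
      rw [← res_mk (dvd_mul_left (g j) (g i)), ← ha, map_smul]
      have := hsec (i, j)
      rw [d0_apply, hP, map_zero, zero_sub, Pi.zero_apply, neg_eq_zero] at this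
      rw [this, smul_zero]
    obtain ⟨e, he⟩ := mkL_eq_zero.1 h0
    refine ⟨e, smul_cancel (n := e + n) ?_⟩
    rw [smul_zero, smul_comm, pow_add, mul_smul, ha, smul_smul, ← mul_pow, ← map_smul, he, map_zero]
  choose e he using hj
  refine ⟨Finset.univ.sup e, (q_eq_zero_iff E1 E2 _).1 (funext fun j => (eC C (g j)).injective ?_)⟩
  rw [Pi.zero_apply, map_zero, map_smul, Pi.smul_apply, map_smul, ← P0_eq_eC_q]
  obtain ⟨t, ht⟩ := Nat.exists_eq_add_of_le' (Finset.le_sup (f := e) (Finset.mem_univ j))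
  rw [ht, pow_add, mul_smul, he, smul_zero]

theorem q_compat (m : M E1 E2) (p : Fin l × Fin l) :
    rCa C (dvd_mul_right (g p.1) (g p.2)) (q E1 E2 m p.1) =
      rCa C (dvd_mul_left (g p.2) (g p.1)) (q E1 E2 m p.2) := by
  have h := congrArg (E2 p).π (sub_eq_zero.1 (congrFun ((mem_M E1 E2 m.1).1 m.2) p))
  simp only [AlgHom.toLinearMap_apply, rl, rr, AlgHom.comp_apply, CLift.map_π] at h
  exact h

end

end Groth.Agent.P1Lef
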